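import Cfsg.Agent.FourGroupGW.Setting
import Cfsg.Agent.GenDihedral.Inv
import Cfsg.Agent.Components.Cores

/-!
Gorenstein–Walter, four-group case: elementary facts about a frame.
-/

set_option autoImplicit false
set_option linter.unusedSectionVars false

namespace Cfsg.Lib.GW

open Subgroup
open scoped Pointwise
open Cfsg.Lib.GenDihedral (IsFour isFour_of_comm mul_self_of_two inv_of_two conj_fix_iff mem_of_sq)

universe u

variable {G : Type u} [Group G] [Finite G]

theorem core_le (H : Subgroup G) : Core H ≤ H := map_subtype_le _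

theorem le_normalizer_core (H : Subgroup G) : H ≤ normalizer (Core H : Set G) := by
  intro h hh
  refine mem_normalizer_iff.2 fun x => ⟨?_, ?_⟩
  · rintro ⟨y, hy, rfl⟩
    exact ⟨⟨h, hh⟩ * y * ⟨h, hh⟩⁻¹, Normal.conj_mem inferInstance y hy _, by simp⟩
  · rintro ⟨y, hy, e⟩
    refine ⟨⟨h, hh⟩⁻¹ * y * ⟨h, hh⟩, ?_, ?_⟩
    · simpa using Normal.conj_mem inferInstance y hy (⟨h, hh⟩⁻¹ : H)
    · have e' : (y : G) = h * x * h⁻¹ := e
      simp [e', mul_assoc]

namespace Frame

variable (F : Frame G)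

theorem t_ne_one : F.t ≠ 1 := fun e => by have := F.t_order; rw [e, orderOf_one] at this; omega

theorem u_ne_one : F.u ≠ 1 := fun e => by have := F.u_order; rw [e, orderOf_one] at this; omega

theorem t_sq : F.t * F.t = 1 := mul_self_of_two F.t_order

theorem u_sq : F.u * F.u = 1 := mul_self_of_two F.u_order

theorem t_inv : F.t⁻¹ = F.t := inv_of_two F.t_order

theorem u_inv : F.u⁻¹ = F.u := inv_of_two F.u_order

theorem four : IsFour F.t F.u (F.t * F.u) := isFour_of_comm F.t_order F.u_order F.comm F.t_ne_u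

theorem v_order : orderOf (F.t * F.u) = 2 := F.four.s2

theorem v_sq : (F.t * F.u) * (F.t * F.u) = 1 := mul_self_of_two F.v_order

theorem σ_v : F.σ * (F.t * F.u) * F.σ⁻¹ = F.t := by
  rw [← conj_mul, F.σ_t, F.σ_u, F.comm, ← mul_assoc, F.u_sq, one_mul]

theorem mem_U {x : G} : x ∈ F.U ↔ x = 1 ∨ x = F.t ∨ x = F.u ∨ x = F.t * F.u := F.four.mem_iff

theorem t_mem_U : F.t ∈ F.U := subset_closure (Or.inl rfl)

theorem u_mem_U : F.u ∈ F.U := subset_closure (Or.inr rfl)

theorem U_le_iff {H : Subgroup G} : F.U ≤ H ↔ F.t ∈ H ∧ F.u ∈ H := by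
  rw [Frame.U, closure_le]; simp [Set.insert_subset_iff]

theorem U_comm {a b : G} (ha : a ∈ F.U) (hb : b ∈ F.U) : a * b = b * a := by
  rcases F.mem_U.1 ha with rfl | rfl | rfl | rfl <;> rcases F.mem_U.1 hb with rfl | rfl | rfl | rfl <;>
    simp [F.comm, ← mul_assoc] <;> simp [mul_assoc, F.comm]

theorem card_U : Nat.card F.U = 4 := by
  classical
  have hne : F.t * F.u ≠ 1 := fun e => F.t_ne_u (by rw [mul_eq_one_iff_eq_inv.1 e, F.u_inv])
  have h1 : F.t ≠ F.t * F.u := fun e => F.u_ne_one (mul_eq_left.1 e.symm)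
  have h2 : F.u ≠ F.t * F.u := fun e => F.t_ne_one (mul_eq_right.1 e.symm)
  let e : ({1, F.t, F.u, F.t * F.u} : Finset G) ≃ F.U :=
    Equiv.subtypeEquivRight fun x => by simp [F.mem_U]
  rw [← Nat.card_congr e, Nat.card_eq_fintype_card, Fintype.card_coe]
  rw [Finset.card_insert_of_notMem (by simp [F.t_ne_one.symm, F.u_ne_one.symm, hne.symm]),
    Finset.card_insert_of_notMem (by simp [F.t_ne_u, h1]),
    Finset.card_insert_of_notMem (by simp [h2]), Finset.card_singleton]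

theorem isPGroup_U : IsPGroup 2 F.U := IsPGroup.of_card (n := 2) (F.card_U.trans rfl)

theorem coprime_U {K : Subgroup G} (hK : Odd (Nat.card K)) : (Nat.card F.U).Coprime (Nat.card K) := by
  rw [F.card_U]; exact Nat.Coprime.pow_left 2 (Nat.coprime_two_left.2 hK)

theorem σ_mem : F.σ ∈ normalizer (F.U : Set G) := by
  refine mem_normalizer_iff.2 fun x => ⟨fun hx => ?_, fun hx => ?_⟩
  · rcases F.mem_U.1 hx with rfl | rfl | rfl | rfl
    · simp [one_mem]
    · rw [F.σ_t]; exact F.u_mem_U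
    · rw [F.σ_u]; exact mul_mem F.t_mem_U F.u_mem_U
    · rw [F.σ_v]; exact F.t_mem_U
  · rcases F.mem_U.1 hx with h | h | h | h
    · rw [conj_eq_one_iff.1 h]; exact one_mem _
    · rw [show x = F.t * F.u from (MulAut.conj F.σ).injective (h.trans F.σ_v.symm)]
      exact mul_mem F.t_mem_U F.u_mem_U
    · rw [show x = F.t from (MulAut.conj F.σ).injective (h.trans F.σ_t.symm)]; exact F.t_mem_U
    · rw [show x = F.u from (MulAut.conj F.σ).injective (h.trans F.σ_u.symm)]; exact F.u_mem_U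

theorem mem_centralizer_U {x : G} :
    x ∈ centralizer (F.U : Set G) ↔ x * F.t = F.t * x ∧ x * F.u = F.u * x := by
  rw [Frame.U, centralizer_closure, mem_centralizer_iff]
  simp [eq_comm]

theorem σ_mem_centralizer_U :
    F.σ ∈ normalizer (centralizer (F.U : Set G) : Set G) := by
  refine mem_normalizer_iff.2 fun x => ?_
  have hs := mem_normalizer_iff.1 F.σ_mem
  constructor
  · intro hx
    refine mem_centralizer_iff.2 fun y hy => ?_
    have := mem_centralizer_iff.1 hx (F.σ⁻¹ * y * F.σ) ((hs _).2 (by group; exact hy))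
    calc y * (F.σ * x * F.σ⁻¹) = F.σ * ((F.σ⁻¹ * y * F.σ) * x) * F.σ⁻¹ := by group
      _ = F.σ * (x * (F.σ⁻¹ * y * F.σ)) * F.σ⁻¹ := by rw [this]
      _ = _ := by group
  · intro hx
    refine mem_centralizer_iff.2 fun y hy => ?_
    have := mem_centralizer_iff.1 hx (F.σ * y * F.σ⁻¹) ((hs _).1 hy)
    have e : F.σ * (y * x) * F.σ⁻¹ = F.σ * (x * y) * F.σ⁻¹ := by
      rw [← conj_mul, ← conj_mul]; exact this
    exact (MulAut.conj F.σ).injective e

theorem mem_C {x : G} : x ∈ F.C ↔ x * F.t = F.t * x := mem_centralizer_singleton_iff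

theorem U_le_C : F.U ≤ F.C := F.U_le_iff.2 ⟨F.mem_C.2 rfl, F.mem_C.2 F.comm.symm⟩

theorem O_le : F.O ≤ F.C := core_le _

theorem C_le_normalizer_O : F.C ≤ normalizer (F.O : Set G) := le_normalizer_core _

theorem U_le_normalizer_O : F.U ≤ normalizer (F.O : Set G) := F.U_le_C.trans F.C_le_normalizer_O

theorem W_le : F.W ≤ F.O := inf_le_left

theorem mem_W {x : G} : x ∈ F.W ↔ x ∈ F.O ∧ x * F.u = F.u * x := by
  rw [Frame.W, Subgroup.mem_inf, mem_centralizer_singleton_iff]

theorem W_le_centralizer_U : F.W ≤ centralizer (F.U : Set G) := fun _ hx =>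
  F.mem_centralizer_U.2 ⟨F.mem_C.1 (F.O_le hx.1), (F.mem_W.1 hx).2⟩

theorem T_le : F.T ≤ F.O := (closure_le _).2 fun _ h => h.1

theorem R_le (p : ℕ) : F.R p ≤ F.O := map_subtype_le _

theorem mem_T {x : G} (hx : x ∈ F.O) (h : F.u * x * F.u⁻¹ = x⁻¹) : x ∈ F.T := subset_closure ⟨hx, h⟩

/-- The four-group as a Sylow subgroup. -/
noncomputable def sylowU (hm : Minimal G) : Sylow 2 G := by
  haveI : Fact (Nat.Prime 2) := ⟨Nat.prime_two⟩
  refine Sylow.ofCard F.U ?_
  have h := (Classical.arbitrary (Sylow 2 G)).card_eq_multiplicity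
  rw [hm.card_sylow] at h
  rw [F.card_U, h]

theorem coe_sylowU (hm : Minimal G) : ((F.sylowU hm : Sylow 2 G) : Subgroup G) = F.U :=
  (Sylow.coe_ofCard _ _ : _)

theorem eq_U_of_le (hm : Minimal G) {P : Subgroup G} (hP : IsPGroup 2 P) (h : F.U ≤ P) : P = F.U :=
  ((F.sylowU hm).3 hP (by rw [F.coe_sylowU hm]; exact h)).trans (F.coe_sylowU hm)

/-- An element normalising the four-group and fixing one of its involutions centralises it. -/
theorem centralizes_of_normalizer (hm : Minimal G) {g : G} (hg : g ∈ normalizer (F.U : Set G))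
    (ht : g * F.t * g⁻¹ = F.t) : g ∈ centralizer (F.U : Set G) := by
  haveI : Fact (Nat.Prime 2) := ⟨Nat.prime_two⟩
  refine F.mem_centralizer_U.2 ⟨mul_inv_eq_iff_eq_mul.1 ht, ?_⟩
  have hgu : g * F.u * g⁻¹ = F.u ∨ g * F.u * g⁻¹ = F.t * F.u := by
    rcases F.mem_U.1 ((mem_normalizer_iff.1 hg _).1 F.u_mem_U) with h | h | h | h
    · exact absurd (conj_eq_one_iff.1 h) F.u_ne_one
    · exact absurd ((MulAut.conj g).injective (show g * F.u * g⁻¹ = g * F.t * g⁻¹ by rw [h, ht])) F.t_ne_u.symm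
    · exact Or.inl h
    · exact Or.inr h
  rcases hgu with h | h
  · exact mul_inv_eq_iff_eq_mul.1 h
  exfalso
  -- a suitable odd power of `g` is a 2-element outside `U` normalising it
  obtain ⟨k, m, hm', hk⟩ := Nat.exists_eq_pow_mul_and_not_dvd (orderOf_pos g).ne' 2 (by norm_num)
  set y := g ^ m
  have hy2 : ∀ j : ℕ, (g ^ j) * F.t * (g ^ j)⁻¹ = F.t ∧
      (g ^ j) * F.u * (g ^ j)⁻¹ = if Even j then F.u else F.t * F.u := by
    intro j
    induction j with
    | zero => simp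
    | succ j ih =>
      have e : ∀ x : G, g ^ (j + 1) * x * (g ^ (j + 1))⁻¹ = g * (g ^ j * x * (g ^ j)⁻¹) * g⁻¹ := fun x => by
        rw [pow_succ']; group
      refine ⟨by rw [e, ih.1, ht], ?_⟩
      rw [e, ih.2]
      by_cases hj : Even j
      · simp [hj, Nat.even_add_one, h]
      · simp only [hj, if_false, Nat.even_add_one, not_false_eq_true, if_true]
        rw [← conj_mul, ht, h, ← mul_assoc, F.t_sq, one_mul]
  have hyu : y * F.u * y⁻¹ = F.t * F.u := by
    rw [(hy2 m).2, if_neg (fun he => hm' (even_iff_two_dvd.1 he))]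
  have hyn : y ∈ normalizer (F.U : Set G) := pow_mem hg m
  have hP : IsPGroup 2 (zpowers y) := by
    refine IsPGroup.of_card (n := k) ?_
    rw [Nat.card_zpowers, orderOf_pow, hk, Nat.gcd_eq_right (dvd_mul_left m _),
      Nat.mul_div_cancel _ (Nat.pos_of_ne_zero fun e => hm' (by rw [e]; exact dvd_zero 2))]
  have hS := hP.to_sup_of_normal_right' F.isPGroup_U (zpowers_le.2 hyn)
  have he := F.eq_U_of_le hm hS le_sup_right
  have hyU : y ∈ F.U := he ▸ mem_sup_left (mem_zpowers y)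
  have := F.U_comm hyU F.u_mem_U
  rw [this, mul_inv_cancel_right] at hyu
  exact F.t_ne_one (mul_eq_right.1 hyu.symm)

/-- The centraliser of `t` has a normal 2-complement, and it is `O`. -/
theorem C_eq (hm : Minimal G) : F.C = F.O ⊔ F.U := by
  haveI : Fact (Nat.Prime 2) := ⟨Nat.prime_two⟩
  classical
  let P : Sylow 2 F.C := (F.sylowU hm).subtype (by rw [F.coe_sylowU hm]; exact F.U_le_C)
  have hPc : (P : Subgroup F.C) = F.U.subgroupOf F.C := by
    simp [P, Sylow.coe_subtype, F.coe_sylowU hm]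
  have hN : normalizer ((P : Subgroup F.C) : Set F.C) ≤ centralizer ((P : Subgroup F.C) : Set F.C) := by
    intro g hg
    have hgU : (g : G) ∈ normalizer (F.U : Set G) := by
      refine mem_normalizer_iff.2 fun x => ⟨fun hx => ?_, fun hx => ?_⟩
      · have := (mem_normalizer_iff.1 hg ⟨x, F.U_le_C hx⟩).1 (by rw [hPc]; exact hx)
        rw [hPc] at this; exact this
      · have hxC : x ∈ F.C := by
          have := F.C.mul_mem (F.C.mul_mem (inv_mem g.2) (F.U_le_C hx)) g.2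
          group at this; exact this
        have := (mem_normalizer_iff.1 hg ⟨x, hxC⟩).2 (by rw [hPc]; exact hx)
        rw [hPc] at this; exact this
    have hc := F.centralizes_of_normalizer hm hgU (mul_inv_eq_iff_eq_mul.2 (F.mem_C.1 g.2))
    refine mem_centralizer_iff.2 fun x hx => Subtype.ext ?_
    rw [hPc] at hx
    exact mem_centralizer_iff.1 hc x hx
  have hker := MonoidHom.ker_transferSylow_isComplement' P hN
  set N := (MonoidHom.transferSylow P hN).ker
  have hodd : Odd (Nat.card N) := by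
    rw [Nat.odd_iff, ← Nat.two_dvd_ne_zero]
    intro hd
    exact P.not_dvd_index (by rw [hker.index_eq_card]; exact hd)
  have hNO : N.map F.C.subtype ≤ F.O :=
    map_mono (le_sSup ⟨MonoidHom.normal_ker _, Nat.coprime_two_right.2 hodd⟩)
  refine le_antisymm (fun x hx => ?_) (sup_le F.O_le F.U_le_C)
  have htop := hker.sup_eq_top
  have hx' : (⟨x, hx⟩ : F.C) ∈ N ⊔ (P : Subgroup F.C) := htop ▸ mem_top _
  rw [mem_sup_of_normal_left] at hx'
  obtain ⟨a, ha, b, hb, e⟩ := hx'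
  rw [show x = (a : G) * (b : G) from (congrArg Subtype.val e).symm]
  exact mul_mem_sup (hNO ⟨a, ha, rfl⟩) (by rw [hPc] at hb; exact hb)

theorem odd_card_core (H : Subgroup G) : Odd (Nat.card (Core H)) := by
  haveI : Fact (Nat.Prime 2) := ⟨Nat.prime_two⟩
  have := Cfsg.Lib.Components.coprime_card_pPrimeCore (G := H) 2
  rw [Core, card_map_of_injective H.subtype_injective]
  exact Nat.coprime_two_right.1 this

theorem odd_card_O : Odd (Nat.card F.O) := odd_card_core _

theorem odd_card_W : Odd (Nat.card F.W) := F.odd_card_O.of_dvd_nat (card_dvd_of_le F.W_le)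

theorem odd_orderOf {K : Subgroup G} (hK : Odd (Nat.card K)) {x : G} (hx : x ∈ K) : Odd (orderOf x) :=
  hK.of_dvd_nat ((Subgroup.orderOf_mk x hx) ▸ orderOf_dvd_natCard _)

/-- `O` consists of the elements of odd order centralising `t`. -/
theorem mem_O (hm : Minimal G) {x : G} : x ∈ F.O ↔ x * F.t = F.t * x ∧ Odd (orderOf x) := by
  refine ⟨fun h => ⟨F.mem_C.1 (F.O_le h), odd_orderOf F.odd_card_O h⟩, fun ⟨hc, ho⟩ => ?_⟩
  have hx : x ∈ F.O ⊔ F.U := F.C_eq hm ▸ F.mem_C.2 hc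
  obtain ⟨a, ha, b, hb, rfl⟩ := (Cfsg.Lib.Coprime.mem_sup_of_le_normalizer' F.U_le_normalizer_O).1 hx
  refine mem_of_sq ho ?_
  have haa : a * a = 1 := by
    rcases F.mem_U.1 ha with rfl | rfl | rfl | rfl
    exacts [one_mul 1, F.t_sq, F.u_sq, F.v_sq]
  have e : a * b * (a * b) = a * b * a⁻¹ * b := by
    rw [inv_eq_of_mul_eq_one_right haa]; group
  rw [e]
  exact mul_mem ((mem_normalizer_iff.1 (F.U_le_normalizer_O ha) b).1 hb) hb

/-- `W` consists of the elements of odd order centralising the four-group. -/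
theorem mem_W_iff (hm : Minimal G) {x : G} : x ∈ F.W ↔ x ∈ centralizer (F.U : Set G) ∧ Odd (orderOf x) :=
  ⟨fun h => ⟨F.W_le_centralizer_U h, odd_orderOf F.odd_card_W h⟩,
    fun ⟨h, ho⟩ => F.mem_W.2 ⟨(F.mem_O hm).2 ⟨(F.mem_centralizer_U.1 h).1, ho⟩, (F.mem_centralizer_U.1 h).2⟩⟩

theorem σ_mem_normalizer_W (hm : Minimal G) : F.σ ∈ normalizer (F.W : Set G) := by
  refine mem_normalizer_iff.2 fun x => ?_
  rw [F.mem_W_iff hm, F.mem_W_iff hm, ← MulEquiv.orderOf_eq (MulAut.conj F.σ) x]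
  exact and_congr_left' (mem_normalizer_iff.1 F.σ_mem_centralizer_U x)

/-- All involutions are conjugate to `t`. -/
theorem exists_conj_t (hm : Minimal G) {x : G} (hx : orderOf x = 2) : ∃ g : G, g * F.t * g⁻¹ = x := by
  haveI : Fact (Nat.Prime 2) := ⟨Nat.prime_two⟩
  obtain ⟨P, hP⟩ := (IsPGroup.of_card (G := zpowers x) (p := 2) (n := 1)
    (by rw [Nat.card_zpowers, hx, pow_one])).exists_le_sylow
  obtain ⟨g, hg⟩ := MulAction.exists_smul_eq G (F.sylowU hm) P
  have hxg : g⁻¹ * x * g ∈ F.U := by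
    have h : x ∈ (P : Subgroup G) := hP (mem_zpowers x)
    rw [← hg] at h
    have h' : x ∈ MulAut.conj g • ((F.sylowU hm : Sylow 2 G) : Subgroup G) := h
    rw [mem_pointwise_smul_iff_inv_smul_mem, ← map_inv, F.coe_sylowU hm] at h'
    simpa using h'
  have hord : orderOf (g⁻¹ * x * g) = 2 := by
    rw [← hx, ← MulEquiv.orderOf_eq (MulAut.conj g⁻¹) x]; simp
  rcases F.mem_U.1 hxg with h | h | h | h
  · rw [h, orderOf_one] at hord; omega
  · exact ⟨g, by rw [← h]; group⟩
  · refine ⟨g * F.σ, ?_⟩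
    calc g * F.σ * F.t * (g * F.σ)⁻¹ = g * (F.σ * F.t * F.σ⁻¹) * g⁻¹ := by group
      _ = g * (g⁻¹ * x * g) * g⁻¹ := by rw [F.σ_t, h]
      _ = x := by group
  · have e : F.σ⁻¹ * F.t * F.σ = F.t * F.u := by
      calc F.σ⁻¹ * F.t * F.σ = F.σ⁻¹ * (F.σ * (F.t * F.u) * F.σ⁻¹) * F.σ := by rw [F.σ_v]
        _ = F.t * F.u := by group
    refine ⟨g * F.σ⁻¹, ?_⟩
    calc g * F.σ⁻¹ * F.t * (g * F.σ⁻¹)⁻¹ = g * (F.σ⁻¹ * F.t * F.σ) * g⁻¹ := by group
      _ = g * (g⁻¹ * x * g) * g⁻¹ := by rw [e, h]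
      _ = x := by group

/-- In a group of odd order an element is a fixed element times an inverted one. -/
theorem exists_fixed_mul_inverted {K : Subgroup G} (hK : Odd (Nat.card K)) {s : G} (hs : s * s = 1)
    (hsK : s ∈ normalizer (K : Set G)) {x : G} (hx : x ∈ K) :
    ∃ a ∈ K, ∃ b ∈ K, s * a * s⁻¹ = a ∧ s * b * s⁻¹ = b⁻¹ ∧ x = a * b := by
  have hsi : s⁻¹ = s := inv_eq_of_mul_eq_one_right hs
  set y := s * x * s⁻¹ with hy
  have hyK : y ∈ K := (mem_normalizer_iff.1 hsK x).1 hx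
  have hyy : s * y * s⁻¹ = x := by
    rw [hy, hsi, show s * (s * x * s) * s = (s * s) * x * (s * s) by group, hs, one_mul, mul_one]
  set z := y⁻¹ * x with hz
  have hzK : z ∈ K := mul_mem (inv_mem hyK) hx
  have hzi : s * z * s⁻¹ = z⁻¹ := by
    rw [hz, ← conj_mul, ← conj_inv, hyy, mul_inv_rev, inv_inv]
  obtain ⟨k, hk⟩ := odd_orderOf hK hzK
  set b := z ^ (k + 1) with hb
  have hbb : b * b = z := by
    rw [hb, ← pow_add, show k + 1 + (k + 1) = orderOf z + 1 by omega, pow_succ, pow_orderOf_eq_one, one_mul]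
  have hbi : s * b * s⁻¹ = b⁻¹ := by rw [hb, ← conj_pow, hzi, inv_pow]
  refine ⟨x * b⁻¹, mul_mem hx (inv_mem (pow_mem hzK _)), b, pow_mem hzK _, ?_, hbi, (inv_mul_cancel_right x b).symm⟩
  rw [← conj_mul, ← conj_inv, hbi, inv_inv, ← hy]
  rw [eq_mul_inv_iff_mul_eq, mul_assoc, hbb, hz, mul_inv_cancel_left]

/-- An element of odd order both fixed and inverted by `s` is trivial. -/
theorem eq_one_of_fixed_inverted {s x : G} (ho : Odd (orderOf x)) (h1 : s * x * s⁻¹ = x)
    (h2 : s * x * s⁻¹ = x⁻¹) : x = 1 := by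
  rw [h1] at h2
  exact mem_bot.1 (mem_of_sq (W := ⊥) ho (mem_bot.2 (by rw [h2]; simp [← h2, mul_eq_one_iff_eq_inv])))

end Frame

end Cfsg.Lib.GW
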