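import Cfsg.Agent.FourGroupGW.FromBlocks
import Cfsg.Agent.FourGroupGW.Chars.Spec

/-!
The four-group theorem of Gorenstein and Walter.
-/

set_option autoImplicit false

namespace Cfsg.Lib.GW

universe u

/-- A simple group with a Klein four Sylow 2-subgroup is a `PSL(2, q)`. -/
theorem fourGroupProp : Cfsg.Lib.GWFour.FourGroupProp.{u} :=
  fourGroupProp_of_fix fun _ _ _ F hm => ⟨F.fixSpec hm, F.moveSpec hm⟩

end Cfsg.Lib.GW
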