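import Cfsg.Prelude.Def_CaseTheorems
import Cfsg.Prelude.Def_Classification2
import Cfsg.Prelude.Def_Local
import Mathlib

/-!
Simple groups with a four-group Sylow 2-subgroup (Gorenstein–Walter, four-group case): shared setting.

The paper proof is `notes/gw_four_v3.md`.  A `Frame` fixes the four-group `{1,t,u,tu}` and an element `σ` permuting
`t → u → tu`; `C = O ⊔ U` is the centraliser of `t`, `W` the part of `O` centralised by `u`.  `Minimal` is the inductive
hypothesis on proper subgroups.  Each piece of the proof has its statement as a proposition below.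
-/

set_option autoImplicit false

namespace Cfsg.Lib.GW

open Subgroup

universe u

variable {G : Type u} [Group G]

/-- `X` modulo its odd core is a four-group, `A₄`, or a `PSL₂(q)` (`q ≥ 5`) extended by a group of odd order. -/
def FourShape (X : Type u) [Group X] : Prop :=
  Nat.card (X ⧸ Cfsg.oddCore X) = 4 ∨ Nonempty ((X ⧸ Cfsg.oddCore X) ≃* alternatingGroup (Fin 4)) ∨
    ∃ (F : Type) (_ : Field F) (_ : Fintype F), (Fintype.card F % 8 = 3 ∨ Fintype.card F % 8 = 5) ∧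
      5 ≤ Fintype.card F ∧ ∃ N : Subgroup (X ⧸ Cfsg.oddCore X), N.Normal ∧ Odd N.index ∧
        Nonempty (↥N ≃* Matrix.ProjectiveSpecialLinearGroup (Fin 2) F) ∧
        centralizer (N : Set (X ⧸ Cfsg.oddCore X)) = ⊥

/-- The inductive hypothesis: a simple group with four-group Sylow 2-subgroups all whose proper subgroups have the
expected shape. -/
structure Minimal (G : Type u) [Group G] : Prop where
  simple : IsSimpleGroup G
  nonab : ¬ IsMulCommutative G
  card_sylow : ∀ S : Sylow 2 G, Nat.card S = 4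
  shape : ∀ H : Subgroup G, H ≠ ⊤ → 4 ∣ Nat.card H → FourShape H
  kproper : Cfsg.IsKProper G

/-- The four-group `{1, t, u, t * u}` and an element permuting its involutions cyclically. -/
structure Frame (G : Type u) [Group G] where
  t : G
  u : G
  σ : G
  t_order : orderOf t = 2
  u_order : orderOf u = 2
  t_ne_u : t ≠ u
  comm : t * u = u * t
  σ_t : σ * t * σ⁻¹ = u
  σ_u : σ * u * σ⁻¹ = t * u

/-- The odd core of a subgroup, as a subgroup of the whole group. -/
def Core (H : Subgroup G) : Subgroup G := (Cfsg.oddCore H).map H.subtype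

namespace Frame

variable (F : Frame G)

/-- The four-group. -/
def U : Subgroup G := closure {F.t, F.u}

/-- The centraliser of `t`. -/
def C : Subgroup G := centralizer {F.t}

/-- The odd core of the centraliser of `t`. -/
def O : Subgroup G := Core F.C

/-- The part of `O` centralised by the four-group. -/
def W : Subgroup G := F.O ⊓ centralizer {F.u}

/-- `[O, u]`, generated by the elements of `O` inverted by `u`. -/
def T : Subgroup G := closure {x | x ∈ F.O ∧ F.u * x * F.u⁻¹ = x⁻¹}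

/-- `O_p(O)`. -/
def R (p : ℕ) : Subgroup G := (Cfsg.pCore p F.O).map F.O.subtype

/-- `H` contains the four-group and fuses its involutions. -/
def Fusing (H : Subgroup G) : Prop :=
  F.U ≤ H ∧ ∃ g ∈ H, g ∈ normalizer (F.U : Set G) ∧ g * F.t * g⁻¹ = F.u

/-- `S` is a Sylow `p`-subgroup of `O` normalised, but not centralised, by `u`. -/
structure MovedSylow (p : ℕ) (S : Subgroup G) : Prop where
  le : S ≤ F.O
  pgroup : IsPGroup p S
  sylow : ¬ p ∣ S.relIndex F.O
  norm : F.U ≤ normalizer (S : Set G)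
  moved : ∃ x ∈ S, F.u * x * F.u⁻¹ ≠ x

/-- `F₀ = 32 |O|³ / (|W|² |G|)`, which is `∑ d/χ(1)` over the principal 2-block. -/
noncomputable def F0 : ℚ :=
  32 * (Nat.card F.O : ℚ) ^ 3 / ((Nat.card F.W : ℚ) ^ 2 * Nat.card G)

/-! ### Piece B: the structure of proper subgroups containing the four-group -/

/-- A non-fusing proper subgroup has a normal 2-complement. -/
def NonFusingSpec : Prop :=
  ∀ H : Subgroup G, H ≠ ⊤ → F.U ≤ H → ¬ F.Fusing H → H = Core H ⊔ F.U

/-- A fusing proper subgroup: order formula, index and the torus of `t`. The parameters are `T = (q - ε)/4` and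
`Q = q(q + ε)/2` for the top `PSL₂(q)` (with `q = 3` for `A₄`). -/
structure Top (H : Subgroup G) (T Q : ℕ) : Prop where
  T_odd : Odd T
  Q_bound : (4 * T - 1) * (2 * T - 1) ≤ Q
  order : Nat.card H * Nat.card ↥(H ⊓ F.W) ^ 2 * T ^ 2 = 4 * Nat.card ↥(H ⊓ F.O) ^ 3 * Q
  index : (Core H ⊔ (H ⊓ F.C)).relIndex H = Q
  torus : ∀ K : Subgroup G, K ≤ H ⊓ F.O → (∀ k ∈ K, F.u * k * F.u⁻¹ * k ∈ Core H) →
    (Core H).relIndex K ∣ T ∧ ∃ g ∈ K, K ≤ zpowers g ⊔ Core H
  inverted_comm : ∀ x ∈ H ⊓ F.O, ∀ y ∈ H ⊓ F.O, F.u * x * F.u⁻¹ = x⁻¹ → F.u * y * F.u⁻¹ = y⁻¹ →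
    x * y * x⁻¹ * y⁻¹ ∈ Core H
  centralizer_le : ∀ x ∈ H ⊓ F.O, x ∉ Core H → F.u * x * F.u⁻¹ * x ∈ Core H →
    H ⊓ centralizer {x} ≤ Core H ⊔ (H ⊓ F.C)

/-- Every fusing proper subgroup has a top. -/
def TopSpec : Prop := ∀ H : Subgroup G, H ≠ ⊤ → F.Fusing H → ∃ T Q : ℕ, F.Top H T Q

/-- Modulo the odd core, an odd subgroup normalised by the four-group is centralised by one of its involutions. -/
def OddSpec : Prop :=
  ∀ H : Subgroup G, H ≠ ⊤ → F.U ≤ H → ∀ K : Subgroup G, K ≤ H → Odd (Nat.card K) →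
    F.U ≤ normalizer (K : Set G) →
      ∃ s ∈ F.U, s ≠ 1 ∧ ∀ k ∈ K, k⁻¹ * (s * k * s⁻¹) ∈ Core H

/-- A proper subgroup with `F* ≠ F` is fusing, and its perfect component contains the four-group and centralises
the odd core. -/
def CompSpec : Prop :=
  ∀ H : Subgroup G, H ≠ ⊤ → F.U ≤ H → Cfsg.generalizedFittingSubgroup H ≠ Cfsg.fittingSubgroup H →
    F.Fusing H ∧ ∃ L : Subgroup G, L ≤ H ∧ H ≤ normalizer (L : Set G) ∧ ⁅L, L⁆ = L ∧ F.U ≤ L ∧
      Core H ≤ centralizer (L : Set G)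

/-! ### Piece C: what the characters give -/

/-- The bounds on `F₀`. -/
def CharBound : Prop := F.W ≠ ⊥ → 5 / 7 < F.F0 ∧ F.F0 < 7 / 5

/-- A `u`-invariant linear character of `O` whose restriction to `W` is `σ`-invariant is trivial on `W`. -/
def LinearFixed : Prop :=
  ∀ θ : ↥F.O →* ℂˣ,
    (∀ (a b : F.O), F.u * (a : G) * F.u⁻¹ = b → θ b = θ a) →
    (∀ (a b : F.O), (a : G) ∈ F.W → F.σ * (a : G) * F.σ⁻¹ = b → θ b = θ a) →
      ∀ a : F.O, (a : G) ∈ F.W → θ a = 1

/-- If `[O, u]` is abelian then `W = 1`. -/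
def LinearKill : Prop := IsMulCommutative F.T → F.W = ⊥

/-! ### Piece D -/

/-- The centraliser of `t` is a maximal subgroup. -/
def Maximal : Prop := F.W ≠ ⊥ → IsCoatom F.C

/-! ### Piece E: the local facts at a prime with `O_p(O) ≠ 1` and a moved Sylow subgroup -/

/-- The local facts. -/
structure LocalSpec (p : ℕ) (S : Subgroup G) : Prop where
  sylow : ∃ P : Sylow p G, (P : Subgroup G) = S
  cent_inv : ∀ P : Subgroup G, IsPGroup p P → F.U ≤ normalizer (P : Set G) →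
    ∃ s ∈ F.U, s ≠ 1 ∧ P ≤ centralizer {s}
  core_fixed : ∀ H : Subgroup G, H ≠ ⊤ → F.Fusing H → ∀ P : Subgroup G, IsPGroup p P → P ≤ Core H →
    F.U ≤ normalizer (P : Set G) → P ≤ centralizer (F.U : Set G)
  fusing_centralizer : ∀ A : Subgroup G, A ≤ F.W → IsPGroup p A → A ≠ ⊥ → F.Fusing (centralizer (A : Set G))
  inverted_cyclic : ∀ A : Subgroup G, A ≤ F.W → A ≤ S → A ≠ ⊥ →
    ∃ g ∈ S ⊓ centralizer (A : Set G), F.u * g * F.u⁻¹ = g⁻¹ ∧
      ∀ x ∈ S ⊓ centralizer (A : Set G), F.u * x * F.u⁻¹ = x⁻¹ → x ∈ zpowers g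

/-- Every prime with `O_p(O) ≠ 1` and a moved Sylow subgroup has the local facts. -/
def Local : Prop :=
  IsCoatom F.C → ∀ (p : ℕ) (S : Subgroup G), p.Prime → F.R p ≠ ⊥ → F.MovedSylow p S → F.LocalSpec p S

/-! ### Pieces F, G, H: the two kinds of bad primes -/

/-- Some `p'`-element inverted by `u` moves `O_p(O)`. -/
def KindS (p : ℕ) : Prop :=
  p.Prime ∧ ∃ y ∈ F.O, F.u * y * F.u⁻¹ = y⁻¹ ∧ ¬ p ∣ orderOf y ∧ ∃ r ∈ F.R p, y * r ≠ r * y

/-- Kind `(s)`, with an element of order `p` of the centre of `O_p(O)` centralised by `u`. -/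
def KindMixed (p : ℕ) : Prop :=
  F.KindS p ∧ ∃ a ∈ F.R p, orderOf a = p ∧ F.u * a * F.u⁻¹ = a ∧ ∀ r ∈ F.R p, a * r = r * a

/-- `[O, u]` acts on `O_p(O)` by inner automorphisms and the elements of `O_p(O)` inverted by `u` do not commute. -/
def KindI (p : ℕ) : Prop :=
  p.Prime ∧ (∀ y ∈ F.T, ∃ r ∈ F.R p, ∀ x ∈ F.R p, y * x * y⁻¹ = r * x * r⁻¹) ∧
    ∃ a ∈ F.R p, ∃ b ∈ F.R p, F.u * a * F.u⁻¹ = a⁻¹ ∧ F.u * b * F.u⁻¹ = b⁻¹ ∧ a * b ≠ b * a

/-- Piece F. -/
def NoMixed : Prop :=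
  F.W ≠ ⊥ → IsCoatom F.C → ∀ p, ¬ F.KindMixed p ∧ ¬ F.KindI p

/-- Pieces G and H. -/
def NoInverted : Prop :=
  F.W ≠ ⊥ → IsCoatom F.C → ∀ p, F.KindS p → F.KindMixed p

end Frame

end Cfsg.Lib.GW
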