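import Cfsg.Agent.FourGroupGW.Basic
import Mathlib.GroupTheory.Abelianization.Defs

/-!
Gorenstein–Walter, four-group case: a four-group acting on a subgroup of odd order (rigidity, generation by the
centralisers, order formula) and criteria for fusing.
-/

set_option autoImplicit false
set_option linter.unusedSectionVars false

namespace Cfsg.Lib.GW

open Subgroup
open scoped Pointwise
open Cfsg.Lib.GenDihedral (cj cj_apply mem_of_sq)

universe u

variable {G : Type u} [Group G] [Finite G]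

theorem sq_inj {a b : G} (ha : Odd (orderOf a)) (hb : Odd (orderOf b)) (h : a * a = b * b) : a = b := by
  obtain ⟨k, hk⟩ := ha
  obtain ⟨l, hl⟩ := hb
  have key : ∀ (x : G) (j : ℕ), orderOf x = 2 * j + 1 → (x * x) ^ (j + 1) = x := fun x j hj => by
    rw [← pow_two, ← pow_mul, show 2 * (j + 1) = orderOf x + 1 by omega, pow_succ, pow_orderOf_eq_one, one_mul]
  have hord : orderOf (a * a) = orderOf a := by
    rw [← pow_two]; exact Nat.Coprime.orderOf_pow (by rw [hk]; simp)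
  have hord' : orderOf (b * b) = orderOf b := by
    rw [← pow_two]; exact Nat.Coprime.orderOf_pow (by rw [hl]; simp)
  rw [h, hord'] at hord
  rw [← key a k hk, ← key b l hl, h, show k = l by omega]

/-- The square root of an element of odd order. -/
noncomputable def sr (x : G) : G := x ^ ((orderOf x + 1) / 2)

theorem sr_mul_sr {x : G} (hx : Odd (orderOf x)) : sr x * sr x = x := by
  obtain ⟨k, hk⟩ := hx
  rw [sr, ← pow_add, show (orderOf x + 1) / 2 + (orderOf x + 1) / 2 = orderOf x + 1 by omega, pow_succ,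
    pow_orderOf_eq_one, one_mul]

theorem sr_mem {K : Subgroup G} {x : G} (hx : x ∈ K) : sr x ∈ K := pow_mem hx _

theorem conj_sr (g x : G) : g * sr x * g⁻¹ = sr (g * x * g⁻¹) := by
  rw [sr, sr, ← conj_pow, show orderOf (g * x * g⁻¹) = orderOf x from MulEquiv.orderOf_eq (MulAut.conj g) x]

theorem sr_inv (x : G) : sr x⁻¹ = (sr x)⁻¹ := by rw [sr, sr, orderOf_inv, inv_pow]

theorem eq_one_of_conj_inv {K : Subgroup G} (hK : Odd (Nat.card K)) {q d : G} (hq : q ∈ K) (hd : d ∈ K)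
    (h : d * q * d⁻¹ = q⁻¹) : q = 1 := by
  have h2 : (d * d) * q * (d * d)⁻¹ = q := by
    rw [show d * d * q * (d * d)⁻¹ = d * (d * q * d⁻¹) * d⁻¹ by group, h, ← conj_inv, h, inv_inv]
  have hc : Commute (d * d) q := mul_inv_eq_iff_eq_mul.1 h2
  have hd' : d = sr (d * d) := sq_inj (Frame.odd_orderOf hK hd)
    (Frame.odd_orderOf hK (sr_mem (mul_mem hd hd))) (sr_mul_sr (Frame.odd_orderOf hK (mul_mem hd hd))).symm
  have hcd : Commute d q := by rw [hd']; exact hc.pow_left _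
  rw [hcd.eq, mul_inv_cancel_right] at h
  exact sq_inj (Frame.odd_orderOf hK hq) (by simp) (by rw [mul_one]; exact mul_eq_one_iff_eq_inv.2 h)

/-- An element inverted by the involution `s` and centralising the fixed points of `s` on a coprime subgroup of odd
order centralises it. -/
theorem rigid {V : Subgroup G} {x s : G} (hV : Odd (Nat.card V)) (hs : s * s = 1)
    (hsV : s ∈ normalizer (V : Set G)) (hxV : x ∈ normalizer (V : Set G)) (hxo : Odd (orderOf x))
    (hco : (orderOf x).Coprime (Nat.card V)) (hinv : s * x * s⁻¹ = x⁻¹)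
    (hfix : ∀ v ∈ V, s * v * s⁻¹ = v → x * v = v * x) : x ∈ centralizer (V : Set G) := by
  induction hn : Nat.card V using Nat.strong_induction_on generalizing V with
  | _ n ih =>
  rcases eq_or_ne V ⊥ with rfl | hne
  · exact mem_centralizer_iff.2 fun y hy => by rw [show y = 1 from mem_bot.1 hy]; simp
  haveI : Nontrivial V := nontrivial_iff_ne_bot V |>.2 hne
  haveI := Cfsg.Agent.PF.isSolvable_of_odd V hV
  set V₁ : Subgroup G := (commutator V).map V.subtype with hV₁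
  have hle : V₁ ≤ V := map_subtype_le _
  have hlt : Nat.card V₁ < n := by
    rw [hV₁, card_map_of_injective V.subtype_injective, ← hn]
    refine lt_of_le_of_ne (Nat.card_le_card_of_injective _ (subtype_injective _)) fun e => ?_
    exact (Group.IsSolvable.commutator_lt_top_of_nontrivial (G := V)).ne (eq_top_of_card_eq _ e)
  have hnorm : ∀ g ∈ normalizer (V : Set G), g ∈ normalizer (V₁ : Set G) := by
    intro g hg
    have key : ∀ h ∈ normalizer (V : Set G), ∀ y ∈ V₁, h * y * h⁻¹ ∈ V₁ := by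
      intro h hh y hy
      rw [hV₁] at hy ⊢
      obtain ⟨v, hv, rfl⟩ := hy
      exact ⟨cj V h hh v,
        (characteristic_iff_map_le (H := commutator V)).1 inferInstance (cj V h hh) ⟨v, hv, rfl⟩,
        by simp [cj_apply]⟩
    exact Cfsg.Lib.Coprime.mem_normalizer_of_conj_mem (key g hg)
      (fun y hy => by simpa using key g⁻¹ (inv_mem hg) y hy)
  have hxV₁ : x ∈ centralizer (V₁ : Set G) := ih _ hlt (hV.of_dvd_nat (card_dvd_of_le hle)) (hnorm s hsV)
    (hnorm x hxV) (hco.coprime_dvd_right (card_dvd_of_le hle)) (fun v hv h => hfix v (hle hv) h) rfl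
  -- the action on the abelianisation
  set π : V →* Abelianization V := Abelianization.of
  set X := Abelianization.map (cj V x hxV).toMonoidHom
  set X' := Abelianization.map (cj V x⁻¹ (inv_mem hxV)).toMonoidHom
  set S := Abelianization.map (cj V s hsV).toMonoidHom
  have hX : ∀ v, X (π v) = π (cj V x hxV v) := fun v => rfl
  have hX' : ∀ v, X' (π v) = π (cj V x⁻¹ (inv_mem hxV) v) := fun v => rfl
  have hS : ∀ v, S (π v) = π (cj V s hsV v) := fun v => rfl
  have hsurj : ∀ c, ∃ v, π v = c := QuotientGroup.mk'_surjective _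
  have hsi : s⁻¹ = s := inv_eq_of_mul_eq_one_right hs
  have hXX' : ∀ c, X (X' c) = c := fun c => by
    obtain ⟨v, rfl⟩ := hsurj c
    rw [hX', hX]; congr 1; exact Subtype.ext (by simp [cj_apply, mul_assoc])
  have hSX : ∀ c, S (X c) = X' (S c) := fun c => by
    obtain ⟨v, rfl⟩ := hsurj c
    rw [hX, hS, hS, hX']; congr 1
    refine Subtype.ext ?_
    simp only [cj_apply]
    calc s * (x * (v : G) * x⁻¹) * s⁻¹
        = (s * x * s⁻¹) * (s * v * s⁻¹) * (s * x * s⁻¹)⁻¹ := by group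
      _ = _ := by rw [hinv]
  have hSX' : ∀ c, S (X' c) = X (S c) := fun c => by
    obtain ⟨v, rfl⟩ := hsurj c
    rw [hX', hS, hS, hX]; congr 1
    refine Subtype.ext ?_
    simp only [cj_apply]
    calc s * (x⁻¹ * (v : G) * x⁻¹⁻¹) * s⁻¹
        = (s * x * s⁻¹)⁻¹ * (s * v * s⁻¹) * (s * x * s⁻¹) := by group
      _ = _ := by rw [hinv, inv_inv]
  have hpow : ∀ c : Abelianization V, c ^ Nat.card V = 1 := fun c => by
    obtain ⟨v, rfl⟩ := hsurj c
    rw [← map_pow, pow_card_eq_one', map_one]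
  have hfix' : ∀ c, S c = c → X c = c := fun c hc => by
    obtain ⟨v, rfl⟩ := hsurj c
    obtain ⟨a, ha, b, hb, hafix, hbinv, e⟩ := Frame.exists_fixed_mul_inverted hV hs hsV v.2
    have ev : v = ⟨a, ha⟩ * ⟨b, hb⟩ := Subtype.ext e
    have h1 : S (π ⟨a, ha⟩) = π ⟨a, ha⟩ := by rw [hS]; congr 1; exact Subtype.ext hafix
    have h2 : S (π ⟨b, hb⟩) = (π ⟨b, hb⟩)⁻¹ := by
      rw [hS, ← map_inv]; congr 1; exact Subtype.ext hbinv
    rw [ev, map_mul, map_mul, h1, h2, mul_right_inj, eq_comm, ← mul_eq_one_iff_eq_inv, ← pow_two] at hc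
    have hb1 : π ⟨b, hb⟩ = 1 := by
      have := pow_gcd_eq_one.2 ⟨hc, hpow (π ⟨b, hb⟩)⟩
      rwa [(Nat.coprime_two_left.2 hV).gcd_eq_one, pow_one] at this
    rw [ev, map_mul, map_mul, hb1, map_one, hX, mul_one, mul_one]
    congr 1
    refine Subtype.ext ?_
    rw [cj_apply, hfix a ha hafix, mul_inv_cancel_right]
  refine mem_centralizer_iff.2 fun v hv => ?_
  obtain ⟨a, ha, b, hb, hafix, hbinv, rfl⟩ := Frame.exists_fixed_mul_inverted hV hs hsV hv
  suffices hxb : x * b = b * x by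
    rw [← mul_assoc, hfix a ha hafix, mul_assoc, mul_assoc, hxb]
  set β := π ⟨b, hb⟩
  have hβ : S β = β⁻¹ := by rw [hS, ← map_inv]; congr 1; exact Subtype.ext hbinv
  set c := X β * (X' β)⁻¹ with hc
  have hcS : S c = c := by
    rw [hc, map_mul, map_inv, hSX, hSX', hβ, map_inv, map_inv, inv_inv, mul_comm]
  have hcX := hfix' c hcS
  set y := X' β
  have hyy : X (X y) = c * y := by rw [hXX', hc, inv_mul_cancel_right]
  have hiter : ∀ k : ℕ, X^[2 * k] y = c ^ k * y := by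
    intro k
    induction k with
    | zero => simp
    | succ k ihk =>
      rw [show 2 * (k + 1) = 2 * k + 1 + 1 by ring, Function.iterate_succ_apply', Function.iterate_succ_apply',
        ihk, map_mul, map_mul, map_pow, map_pow, hcX, hcX, hyy, ← mul_assoc, ← pow_succ]
  have hord : ∀ z, X^[orderOf x] z = z := by
    intro z
    obtain ⟨v, rfl⟩ := hsurj z
    have : ∀ j : ℕ, ∀ w : V, ∃ w' : V, (w' : G) = x ^ j * w * (x ^ j)⁻¹ ∧ X^[j] (π w) = π w' := by
      intro j w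
      induction j with
      | zero => exact ⟨w, by simp, rfl⟩
      | succ j ihj =>
        obtain ⟨w', e1, e2⟩ := ihj
        refine ⟨cj V x hxV w', ?_, by rw [Function.iterate_succ_apply', e2, hX]⟩
        rw [cj_apply, e1, pow_succ']; group
    obtain ⟨w', e1, e2⟩ := this (orderOf x) v
    rw [e2]; congr 1; apply Subtype.ext
    rw [e1, pow_orderOf_eq_one]; simp
  have hc1 : c = 1 := by
    have h1 : c ^ orderOf x = 1 := by
      have h := hiter (orderOf x)
      rw [two_mul, Function.iterate_add_apply, hord, hord] at h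
      exact (mul_eq_right.1 h.symm)
    have := pow_gcd_eq_one.2 ⟨h1, hpow c⟩
    rwa [hco.gcd_eq_one, pow_one] at this
  have hb2 : X (X β) = β := by
    have h : X β = y := mul_inv_eq_one.1 hc1
    rw [h, hXX']
  have hb1 : X β = β := by
    obtain ⟨k, hk⟩ := hxo
    have heven : ∀ j : ℕ, X^[2 * j] β = β := by
      intro j
      induction j with
      | zero => rfl
      | succ j ihj => rw [show 2 * (j + 1) = 2 * j + 1 + 1 by ring, Function.iterate_succ_apply',
          Function.iterate_succ_apply', ihj, hb2]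
    have := hord β
    rw [hk, show 2 * k + 1 = (2 * k).succ from rfl, Function.iterate_succ_apply', heven] at this
    exact this
  -- the commutator lies in the derived group, which `x` centralises
  set d := x * b * x⁻¹ * b⁻¹ with hd
  have hdV : d ∈ V₁ := by
    refine ⟨cj V x hxV ⟨b, hb⟩ * (⟨b, hb⟩ : V)⁻¹, ?_, by simp [cj_apply, hd]⟩
    rw [SetLike.mem_coe, ← Abelianization.ker_of, MonoidHom.mem_ker, map_mul, map_inv]
    exact mul_inv_eq_one.2 hb1
  have hdx : x * d = d * x := (mem_centralizer_iff.1 hxV₁ d hdV).symm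
  have hk : ∀ j : ℕ, x ^ j * b * (x ^ j)⁻¹ = d ^ j * b := by
    intro j
    induction j with
    | zero => simp
    | succ j ihj =>
      have e : x * b * x⁻¹ = d * b := by rw [hd, inv_mul_cancel_right]
      have hdj : x * d ^ j * x⁻¹ = d ^ j := by
        rw [(Commute.pow_right hdx j).eq, mul_inv_cancel_right]
      rw [pow_succ' x, show x * x ^ j * b * (x * x ^ j)⁻¹ = x * (x ^ j * b * (x ^ j)⁻¹) * x⁻¹ by group, ihj,
        show x * (d ^ j * b) * x⁻¹ = (x * d ^ j * x⁻¹) * (x * b * x⁻¹) by group, hdj, e, ← mul_assoc, ← pow_succ]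
  have hd1 : d = 1 := by
    have h := hk (orderOf x)
    rw [pow_orderOf_eq_one, one_mul, inv_one, mul_one] at h
    have h1 : orderOf d ∣ orderOf x := orderOf_dvd_of_pow_eq_one (mul_eq_right.1 h.symm)
    have h2 : orderOf d ∣ Nat.card V := (Subgroup.orderOf_mk d (hle hdV)) ▸ orderOf_dvd_natCard _
    exact orderOf_eq_one_iff.1 (Nat.eq_one_of_dvd_coprimes hco h1 h2)
  rw [hd] at hd1
  exact mul_inv_eq_iff_eq_mul.1 (mul_inv_eq_one.1 hd1)

/-- The elements of `K` inverted by `s`. -/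
def inverted (K : Subgroup G) (s : G) : Set G := {b | b ∈ K ∧ s * b * s⁻¹ = b⁻¹}

theorem card_eq_fixed_mul_inverted {K : Subgroup G} (hK : Odd (Nat.card K)) {s : G} (hs : s * s = 1)
    (hsK : s ∈ normalizer (K : Set G)) :
    Nat.card K = Nat.card ↥(K ⊓ centralizer {s}) * Nat.card (inverted K s) := by
  have hfix : ∀ {a : G}, a ∈ centralizer {s} ↔ s * a * s⁻¹ = a := fun {a} => by
    rw [mem_centralizer_singleton_iff, mul_inv_eq_iff_eq_mul, eq_comm]
  rw [← Nat.card_prod]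
  refine (Nat.card_eq_of_bijective (fun p : ↥(K ⊓ centralizer {s}) × inverted K s =>
    (⟨(p.1 : G) * p.2, mul_mem p.1.2.1 p.2.2.1⟩ : K)) ⟨?_, ?_⟩).symm
  · rintro ⟨⟨a, haK, ha⟩, ⟨b, hbK, hb⟩⟩ ⟨⟨a', haK', ha'⟩, ⟨b', hbK', hb'⟩⟩ h
    have e : a * b = a' * b' := congrArg Subtype.val h
    have e2 : a * b⁻¹ = a' * b'⁻¹ := by
      rw [← hb, ← hb']
      conv_lhs => rw [← hfix.1 ha, conj_mul, e]
      conv_rhs => rw [← hfix.1 ha', conj_mul]
    have hbb : b * b = b' * b' := by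
      have : (a * b⁻¹)⁻¹ * (a * b) = (a' * b'⁻¹)⁻¹ * (a' * b') := by rw [e, e2]
      simpa [mul_assoc] using this
    obtain rfl := sq_inj (Frame.odd_orderOf hK hbK) (Frame.odd_orderOf hK hbK') hbb
    obtain rfl := mul_right_cancel e
    rfl
  · rintro ⟨v, hv⟩
    obtain ⟨a, ha, b, hb, h1, h2, rfl⟩ := Frame.exists_fixed_mul_inverted hK hs hsK hv
    exact ⟨⟨⟨a, ha, hfix.2 h1⟩, ⟨b, hb, h2⟩⟩, rfl⟩

namespace Frame

variable (F : Frame G)

theorem t_conj_mem {K : Subgroup G} (hU : F.U ≤ normalizer (K : Set G)) {x : G} (hx : x ∈ K) :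
    F.t * x * F.t⁻¹ ∈ K := (mem_normalizer_iff.1 (hU F.t_mem_U) x).1 hx

theorem u_conj_mem {K : Subgroup G} (hU : F.U ≤ normalizer (K : Set G)) {x : G} (hx : x ∈ K) :
    F.u * x * F.u⁻¹ ∈ K := (mem_normalizer_iff.1 (hU F.u_mem_U) x).1 hx

/-- An element inverted by `t` is `c * d * c` with `c` fixed by `u` and `d` by `t * u`, both inverted by `t`. -/
theorem exists_cdc {K : Subgroup G} (hK : Odd (Nat.card K)) (hU : F.U ≤ normalizer (K : Set G)) {b : G}
    (hb : b ∈ inverted K F.t) : ∃ c ∈ inverted K F.t, ∃ d ∈ inverted K F.t,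
      F.u * c * F.u⁻¹ = c ∧ F.u * d * F.u⁻¹ = d⁻¹ ∧ b = c * d * c := by
  obtain ⟨hbK, hbt⟩ := hb
  have ho : ∀ {x : G}, x ∈ K → Odd (orderOf x) := fun h => Frame.odd_orderOf hK h
  set e := (F.u * b * F.u⁻¹)⁻¹ with he
  have heK : e ∈ K := inv_mem (F.u_conj_mem hU hbK)
  have hue : F.u * b * F.u⁻¹ = e⁻¹ := by rw [he, inv_inv]
  have hub : F.u * e * F.u⁻¹ = b⁻¹ := by
    rw [he, ← conj_inv, inv_inj, F.u_inv, show F.u * (F.u * b * F.u) * F.u = (F.u * F.u) * b * (F.u * F.u) by group,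
      F.u_sq, one_mul, mul_one]
  have het : F.t * e * F.t⁻¹ = e⁻¹ := by
    rw [he, inv_inv, ← conj_inv, show F.t * (F.u * b * F.u⁻¹) * F.t⁻¹ = (F.t * F.u) * b * (F.t * F.u)⁻¹ by group,
      F.comm, show F.u * F.t * b * (F.u * F.t)⁻¹ = F.u * (F.t * b * F.t⁻¹) * F.u⁻¹ by group, hbt, ← conj_inv,
      inv_inv]
  set r := sr b
  have hrK : r ∈ K := sr_mem hbK
  set w := sr (r * e * r)
  have hwK : w ∈ K := sr_mem (mul_mem (mul_mem hrK heK) hrK)
  set y := r⁻¹ * w * r⁻¹ with hy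
  have hrr : r * r = b := sr_mul_sr (ho hbK)
  have hyK : y ∈ K := mul_mem (mul_mem (inv_mem hrK) hwK) (inv_mem hrK)
  have hyb : y * b * y = e := by
    rw [← hrr, hy, show r⁻¹ * w * r⁻¹ * (r * r) * (r⁻¹ * w * r⁻¹) = r⁻¹ * (w * w) * r⁻¹ by group,
      sr_mul_sr (ho (mul_mem (mul_mem hrK heK) hrK))]
    group
  have huniq : ∀ z ∈ K, z * b * z = e → z = y := by
    intro z hz hzb
    have h1 : (r * z * r) * (r * z * r) = w * w := by
      rw [sr_mul_sr (ho (mul_mem (mul_mem hrK heK) hrK)), ← hzb, ← hrr]; group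
    have h2 := sq_inj (ho (mul_mem (mul_mem hrK hz) hrK)) (ho hwK) h1
    rw [hy, ← h2]; group
  have hyt : F.t * y * F.t⁻¹ = y⁻¹ := by
    have hz := huniq (F.t * y * F.t⁻¹)⁻¹ (inv_mem (F.t_conj_mem hU hyK)) (by
      have h : (F.t * y * F.t⁻¹) * b⁻¹ * (F.t * y * F.t⁻¹) = e⁻¹ := by
        rw [← hbt, conj_mul, conj_mul, hyb, het]
      calc (F.t * y * F.t⁻¹)⁻¹ * b * (F.t * y * F.t⁻¹)⁻¹
          = ((F.t * y * F.t⁻¹) * b⁻¹ * (F.t * y * F.t⁻¹))⁻¹ := by group
        _ = e := by rw [h, inv_inv])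
    exact inv_eq_iff_eq_inv.1 hz
  have hyu : F.u * y * F.u⁻¹ = y := by
    refine huniq _ (F.u_conj_mem hU hyK) ?_
    have h : (F.u * y * F.u⁻¹) * e⁻¹ * (F.u * y * F.u⁻¹) = b⁻¹ := by
      rw [← hue, conj_mul, conj_mul, hyb, hub]
    calc (F.u * y * F.u⁻¹) * b * (F.u * y * F.u⁻¹)
        = (F.u * y * F.u⁻¹) * (b⁻¹)⁻¹ * (F.u * y * F.u⁻¹) := by rw [inv_inv]
      _ = e := by rw [← h]; group
  set c := sr y⁻¹ with hc
  have hcK : c ∈ K := sr_mem (inv_mem hyK)
  have hcc : c * c = y⁻¹ := sr_mul_sr (ho (inv_mem hyK))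
  have hct : F.t * c * F.t⁻¹ = c⁻¹ := by rw [hc, conj_sr, ← conj_inv, hyt, inv_inv, sr_inv, inv_inv]
  have hcu : F.u * c * F.u⁻¹ = c := by rw [hc, conj_sr, ← conj_inv, hyu]
  refine ⟨c, ⟨hcK, hct⟩, c⁻¹ * b * c⁻¹, ⟨mul_mem (mul_mem (inv_mem hcK) hbK) (inv_mem hcK), ?_⟩, hcu, ?_,
    by group⟩
  · rw [← conj_mul, ← conj_mul, ← conj_inv, hct, hbt]; group
  · rw [← conj_mul, ← conj_mul, ← conj_inv, hcu, hue, ← hyb, show y = (c * c)⁻¹ by rw [hcc, inv_inv]]; group

/-- The elements inverted by `t` are counted by their two kinds of components. -/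
theorem card_inverted {K : Subgroup G} (hK : Odd (Nat.card K)) (hU : F.U ≤ normalizer (K : Set G)) :
    Nat.card (inverted K F.t) = Nat.card (inverted (K ⊓ centralizer {F.u}) F.t) *
      Nat.card (inverted (K ⊓ centralizer {F.t * F.u}) F.t) := by
  have hfix : ∀ {s a : G}, a ∈ centralizer {s} ↔ s * a * s⁻¹ = a := fun {s a} => by
    rw [mem_centralizer_singleton_iff, mul_inv_eq_iff_eq_mul, eq_comm]
  have hud : ∀ d : G, F.t * d * F.t⁻¹ = d⁻¹ →
      (F.t * F.u * d * (F.t * F.u)⁻¹ = d ↔ F.u * d * F.u⁻¹ = d⁻¹) := by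
    intro d hd
    rw [show F.t * F.u * d * (F.t * F.u)⁻¹ = F.t * (F.u * d * F.u⁻¹) * F.t⁻¹ by group]
    refine ⟨fun h => (MulAut.conj F.t).injective ?_, fun h => by rw [h, ← conj_inv, hd, inv_inv]⟩
    show F.t * _ * F.t⁻¹ = F.t * d⁻¹ * F.t⁻¹
    rw [h, ← conj_inv, hd, inv_inv]
  rw [← Nat.card_prod]
  refine (Nat.card_eq_of_bijective (fun p : inverted (K ⊓ centralizer {F.u}) F.t ×
      inverted (K ⊓ centralizer {F.t * F.u}) F.t => (⟨(p.1 : G) * p.2 * p.1, ?_, ?_⟩ : inverted K F.t))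
    ⟨?_, ?_⟩).symm
  · exact mul_mem (mul_mem p.1.2.1.1 p.2.2.1.1) p.1.2.1.1
  · rw [← conj_mul, ← conj_mul, p.1.2.2, p.2.2.2]; group
  · rintro ⟨⟨c, hc, hct⟩, ⟨d, hd, hdt⟩⟩ ⟨⟨c', hc', hct'⟩, ⟨d', hd', hdt'⟩⟩ h
    have e : c * d * c = c' * d' * c' := congrArg Subtype.val h
    have e2 : c * d⁻¹ * c = c' * d'⁻¹ * c' := by
      rw [← (hud d hdt).1 (hfix.1 hd.2), ← (hud d' hdt').1 (hfix.1 hd'.2)]
      conv_lhs => rw [← hfix.1 hc.2, conj_mul, conj_mul, e]
      conv_rhs => rw [← hfix.1 hc'.2, conj_mul, conj_mul]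
    have hq : c' * c⁻¹ * (c⁻¹ * c') = 1 := by
      refine eq_one_of_conj_inv hK (mul_mem (mul_mem hc'.1 (inv_mem hc.1)) (mul_mem (inv_mem hc.1) hc'.1)) hd'.1 ?_
      have ed : d = (c⁻¹ * c') * d' * (c' * c⁻¹) := by
        rw [show c⁻¹ * c' * d' * (c' * c⁻¹) = c⁻¹ * (c' * d' * c') * c⁻¹ by group, ← e]; group
      have ed2 : d⁻¹ = (c⁻¹ * c') * d'⁻¹ * (c' * c⁻¹) := by
        rw [show c⁻¹ * c' * d'⁻¹ * (c' * c⁻¹) = c⁻¹ * (c' * d'⁻¹ * c') * c⁻¹ by group, ← e2]; group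
      have := mul_inv_cancel d
      rw [ed2, ed] at this
      calc d' * (c' * c⁻¹ * (c⁻¹ * c')) * d'⁻¹
          = (c⁻¹ * c')⁻¹ * (c⁻¹ * c' * d' * (c' * c⁻¹) * (c⁻¹ * c' * d'⁻¹ * (c' * c⁻¹))) * (c' * c⁻¹)⁻¹ := by
            group
        _ = (c' * c⁻¹ * (c⁻¹ * c'))⁻¹ := by rw [this]; simp [mul_assoc]
    have hcc : c = c' := by
      refine sq_inj (Frame.odd_orderOf hK hc.1) (Frame.odd_orderOf hK hc'.1) ?_
      have h0 : c⁻¹ * c⁻¹ * (c' * c') = 1 := by
        calc c⁻¹ * c⁻¹ * (c' * c') = c'⁻¹ * (c' * c⁻¹ * (c⁻¹ * c')) * c' := by group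
          _ = 1 := by rw [hq]; group
      calc c * c = c * c * (c⁻¹ * c⁻¹ * (c' * c')) := by rw [h0, mul_one]
        _ = c' * c' := by group
    subst hcc
    obtain rfl : d = d' := mul_left_cancel (mul_right_cancel e)
    rfl
  · rintro ⟨b, hb⟩
    obtain ⟨c, hc, d, hd, hcu, hdu, rfl⟩ := F.exists_cdc hK hU hb
    exact ⟨⟨⟨c, ⟨hc.1, hfix.2 hcu⟩, hc.2⟩, ⟨d, ⟨hd.1, hfix.2 ((hud d hd.2).2 hdu)⟩, hd.2⟩⟩, rfl⟩

theorem mem_normalizer_inf_centralizer {K : Subgroup G} (hU : F.U ≤ normalizer (K : Set G)) {s r : G}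
    (hs : s ∈ F.U) (hr : r ∈ F.U) : r ∈ normalizer ((K ⊓ centralizer {s} : Subgroup G) : Set G) := by
  refine mem_normalizer_iff.2 fun x => and_congr (mem_normalizer_iff.1 (hU hr) x) ?_
  change x ∈ centralizer {s} ↔ r * x * r⁻¹ ∈ centralizer {s}
  rw [mem_centralizer_singleton_iff, mem_centralizer_singleton_iff]
  have hrs := F.U_comm hr hs
  constructor
  · intro h
    calc r * x * r⁻¹ * s = r * x * (r⁻¹ * s) := by group
      _ = r * (x * s) * r⁻¹ := by rw [(Commute.inv_left (show Commute r s from hrs)).eq]; group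
      _ = r * (s * x) * r⁻¹ := by rw [h]
      _ = (r * s) * x * r⁻¹ := by group
      _ = s * (r * x * r⁻¹) := by rw [hrs]; group
  · intro h
    have e : r * (x * s) * r⁻¹ = r * (s * x) * r⁻¹ := by
      calc r * (x * s) * r⁻¹ = r * x * (s * r⁻¹) := by group
        _ = r * x * r⁻¹ * s := by rw [← (Commute.inv_left (show Commute r s from hrs)).eq]; group
        _ = s * (r * x * r⁻¹) := h
        _ = (s * r) * x * r⁻¹ := by group
        _ = r * (s * x) * r⁻¹ := by rw [← hrs]; group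
    exact (MulAut.conj r).injective e

/-- The order formula for a subgroup of odd order normalised by the four-group. -/
theorem card_formula {K : Subgroup G} (hK : Odd (Nat.card K)) (hU : F.U ≤ normalizer (K : Set G)) :
    Nat.card K * Nat.card ↥(K ⊓ centralizer (F.U : Set G)) ^ 2 =
      Nat.card ↥(K ⊓ centralizer {F.t}) * Nat.card ↥(K ⊓ centralizer {F.u}) *
        Nat.card ↥(K ⊓ centralizer {F.t * F.u}) := by
  have hodd : ∀ s : G, Odd (Nat.card ↥(K ⊓ centralizer {s})) := fun s => hK.of_dvd_nat (card_dvd_of_le inf_le_left)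
  have e1 : K ⊓ centralizer {F.u} ⊓ centralizer {F.t} = K ⊓ centralizer (F.U : Set G) := by
    ext x; simp [F.mem_centralizer_U, mem_centralizer_singleton_iff, and_assoc, and_comm, and_left_comm]
  have e2 : K ⊓ centralizer {F.t * F.u} ⊓ centralizer {F.t} = K ⊓ centralizer (F.U : Set G) := by
    ext x
    simp only [Subgroup.mem_inf, mem_centralizer_singleton_iff, F.mem_centralizer_U]
    constructor
    · rintro ⟨⟨hx, hv⟩, ht⟩
      refine ⟨hx, ht, mul_left_cancel (a := F.t) ?_⟩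
      rw [← mul_assoc, ← ht, mul_assoc, hv, mul_assoc]
    · rintro ⟨hx, ht, hu⟩
      exact ⟨⟨hx, ((show Commute x F.t from ht).mul_right hu).eq⟩, ht⟩
  rw [card_eq_fixed_mul_inverted hK F.t_sq (hU F.t_mem_U), F.card_inverted hK hU,
    card_eq_fixed_mul_inverted (hodd F.u) F.t_sq (F.mem_normalizer_inf_centralizer hU F.u_mem_U F.t_mem_U),
    card_eq_fixed_mul_inverted (hodd (F.t * F.u)) F.t_sq
      (F.mem_normalizer_inf_centralizer hU (mul_mem F.t_mem_U F.u_mem_U) F.t_mem_U), e1, e2]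
  ring

/-- A subgroup of odd order normalised by the four-group is generated by the centralisers of its involutions. -/
theorem le_of_components {K S : Subgroup G} (hK : Odd (Nat.card K)) (hU : F.U ≤ normalizer (K : Set G))
    (h1 : K ⊓ centralizer {F.t} ≤ S) (h2 : K ⊓ centralizer {F.u} ≤ S) (h3 : K ⊓ centralizer {F.t * F.u} ≤ S) :
    K ≤ S := by
  intro x hx
  have hfix : ∀ {s a : G}, s * a * s⁻¹ = a → a ∈ centralizer {s} := fun {s a} h =>
    mem_centralizer_singleton_iff.2 (mul_inv_eq_iff_eq_mul.1 h).symm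
  obtain ⟨a, ha, b, hb, h₁, h₂, rfl⟩ := exists_fixed_mul_inverted hK F.t_sq (hU F.t_mem_U) hx
  obtain ⟨c, hc, d, hd, hcu, hdu, rfl⟩ := F.exists_cdc hK hU ⟨hb, h₂⟩
  have hcS := h2 ⟨hc.1, hfix hcu⟩
  refine mul_mem (h1 ⟨ha, hfix h₁⟩) (mul_mem (mul_mem hcS (h3 ⟨hd.1, hfix ?_⟩)) hcS)
  rw [show F.t * F.u * d * (F.t * F.u)⁻¹ = F.t * (F.u * d * F.u⁻¹) * F.t⁻¹ by group, hdu, ← conj_inv, hd.2,
    inv_inv]

/-- An element of the normaliser of `U` taking `t` to `u` acts on `U` as `σ` does. -/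
theorem fusing_element (hm : Minimal G) {g : G} (hg : g ∈ normalizer (F.U : Set G))
    (h : g * F.t * g⁻¹ = F.u) :
    F.σ⁻¹ * g ∈ centralizer (F.U : Set G) ∧ g * F.u * g⁻¹ = F.t * F.u := by
  have hc := F.centralizes_of_normalizer hm (mul_mem (inv_mem F.σ_mem) hg) (by
    rw [show F.σ⁻¹ * g * F.t * (F.σ⁻¹ * g)⁻¹ = F.σ⁻¹ * (g * F.t * g⁻¹) * F.σ by group, h, ← F.σ_t]; group)
  refine ⟨hc, ?_⟩
  have := (F.mem_centralizer_U.1 hc).2
  rw [show g = F.σ * (F.σ⁻¹ * g) by group,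
    show F.σ * (F.σ⁻¹ * g) * F.u * (F.σ * (F.σ⁻¹ * g))⁻¹
      = F.σ * (F.σ⁻¹ * g * F.u * (F.σ⁻¹ * g)⁻¹) * F.σ⁻¹ by group, this, mul_inv_cancel_right, F.σ_u]

/-- A subgroup containing `U` in which two of its involutions are conjugate is fusing. -/
theorem fusing_of_conj (hm : Minimal G) {H : Subgroup G} (hU : F.U ≤ H) {g : G} (hg : g ∈ H)
    (h : g * F.t * g⁻¹ = F.u) : F.Fusing H := by
  haveI : Fact (Nat.Prime 2) := ⟨Nat.prime_two⟩
  let P : Sylow 2 H := (F.sylowU hm).subtype (by rw [F.coe_sylowU hm]; exact hU)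
  have hPc : (P : Subgroup H) = F.U.subgroupOf H := by simp [P, Sylow.coe_subtype, F.coe_sylowU hm]
  haveI : IsMulCommutative (P : Subgroup H) := by
    rw [hPc]
    exact ⟨⟨fun a b => Subtype.ext (Subtype.ext (F.U_comm a.2 b.2))⟩⟩
  obtain ⟨n, hn, e⟩ := Sylow.conj_eq_normalizer_conj_of_mem P ⟨F.t, hU F.t_mem_U⟩ (⟨g, hg⟩⁻¹ : H)
    (show _ ∈ (P : Subgroup H) by rw [hPc]; exact F.t_mem_U)
    (show _ ∈ (P : Subgroup H) by rw [hPc]; simp only [inv_inv]; show g * F.t * g⁻¹ ∈ F.U; rw [h]; exact F.u_mem_U)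
  refine ⟨hU, (n : G)⁻¹, inv_mem n.2, ?_, ?_⟩
  · refine inv_mem (mem_normalizer_iff.2 fun x => ⟨fun hx => ?_, fun hx => ?_⟩)
    · have := (mem_normalizer_iff.1 hn ⟨x, hU hx⟩).1 (by rw [hPc]; exact hx)
      rw [hPc] at this; exact this
    · have hxH : x ∈ H := by
        have := H.mul_mem (H.mul_mem (inv_mem n.2) (hU hx)) n.2
        group at this; exact this
      have := (mem_normalizer_iff.1 hn ⟨x, hxH⟩).2 (by rw [hPc]; exact hx)
      rw [hPc] at this; exact this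
  · have := congrArg Subtype.val e
    simp only [inv_inv] at this
    rw [inv_inv]
    exact this.symm.trans h

end Frame

end Cfsg.Lib.GW
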