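/-
GW four-group, local tools: `ZJ` in groups with abelian Sylow 2-subgroups (fusion and factorisation).
-/
import Cfsg.Agent.Components.ZJ.Glauberman
import Cfsg.Agent.Components.ZJ.Reduce
import Cfsg.Agent.Components.ZJ.Families
import Cfsg.Agent.Components.PComponents
import Cfsg.Agent.Quadratic.StableQd
import Cfsg.Agent.Coprime.Fitting
import Cfsg.Agent.Coprime.AbelianQSq.QdTwo
import Cfsg.Agent.OddChar.PF.OddOrder

set_option autoImplicit false
set_option linter.style.haveILetI false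
set_option linter.unusedSectionVars false

namespace Cfsg.Lib.GW

open Subgroup Cfsg.Lib.ZJ

universe u

variable {G : Type u} [Group G] [Finite G] {p : ℕ} [Fact p.Prime]

theorem qdFree (hp : p ≠ 2) (hab : ∀ S : Sylow 2 G, ∀ x ∈ S, ∀ y ∈ S, x * y = y * x) :
    ¬ Cfsg.Involves ↥(Cfsg.qd p) G := fun h => by
  obtain ⟨K, R, hR, e⟩ := h
  exact Cfsg.Lib.AbQSq.qd_free_of_abelian_two hp hab ⟨K, R, hR, e⟩

theorem abelian_two_map {H : Type u} [Group H] [Finite H] (f : G →* H) (hf : Function.Surjective f)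
    (hab : ∀ S : Sylow 2 G, ∀ x ∈ S, ∀ y ∈ S, x * y = y * x) :
    ∀ S : Sylow 2 H, ∀ x ∈ S, ∀ y ∈ S, x * y = y * x := by
  intro S x hx y hy
  haveI : Fact (Nat.Prime 2) := ⟨Nat.prime_two⟩
  obtain ⟨T, rfl⟩ := Sylow.mapSurjective_surjective hf 2 S
  obtain ⟨a, ha, rfl⟩ := hx
  obtain ⟨b, hb, rfl⟩ := hy
  rw [← map_mul, hab T a ha b hb, map_mul]

/-- `N(ZJ P)` controls fusion of subsets of `P` in a group without `Qd(p)` -/
theorem zj_fusion_of_qd (hp : p ≠ 2) (hqd : ¬ Cfsg.Involves ↥(Cfsg.qd p) G) (P : Sylow p G)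
    {A : Set G} (hA : A ⊆ (P : Subgroup G)) {g : G} (hg : ∀ a ∈ A, g * a * g⁻¹ ∈ (P : Subgroup G)) :
    ∃ n ∈ normalizer (Cfsg.centerThompsonAOf (P : Subgroup G) : Set G),
      ∀ a ∈ A, n * a * n⁻¹ = g * a * g⁻¹ := by
  have h := (Cfsg.Lib.CtrlD.controlsStrongFusionOf (Cfsg.Lib.CtrlD.ctl_of_qd_free hp hqd).1 P
    (Cfsg.Lib.ZJ.stronglyClosed_self _) A hA).2 g (by rintro _ ⟨a, ha, rfl⟩; exact hg a ha)
  rw [Cfsg.Lib.CtrlD.induced_zjW] at h
  obtain ⟨n, hn, hng⟩ := h
  exact ⟨n, hn, fun a ha => (hng a ha).symm⟩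

/-- `N(ZJ P)` controls fusion of subsets of `P` -/
theorem zj_fusion (hp : p ≠ 2) (hab : ∀ S : Sylow 2 G, ∀ x ∈ S, ∀ y ∈ S, x * y = y * x) (P : Sylow p G)
    {A : Set G} (hA : A ⊆ (P : Subgroup G)) {g : G} (hg : ∀ a ∈ A, g * a * g⁻¹ ∈ (P : Subgroup G)) :
    ∃ n ∈ normalizer (Cfsg.centerThompsonAOf (P : Subgroup G) : Set G),
      ∀ a ∈ A, n * a * n⁻¹ = g * a * g⁻¹ :=
  zj_fusion_of_qd hp (qdFree hp hab) P hA hg

/-- Glauberman's factorisation when `O_p` has a centralizer of odd order, without `Qd(p)` -/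
theorem sup_normalizer_zj_of_qd (hp : p ≠ 2) (hqd : ¬ Cfsg.Involves ↥(Cfsg.qd p) G)
    (hC : Odd (Nat.card ↥(centralizer (Cfsg.pCore p G : Set G)))) (P : Sylow p G) :
    Cfsg.pPrimeCore p G ⊔ normalizer (Cfsg.centerThompsonAOf (P : Subgroup G) : Set G) = ⊤ := by
  set N := Cfsg.pPrimeCore p G with hNdef
  have hN : (Nat.card N).Coprime p := Cfsg.Lib.Components.coprime_card_pPrimeCore p
  set π := QuotientGroup.mk' N with hπ
  have hπs : Function.Surjective π := QuotientGroup.mk'_surjective N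
  have hinj := injOn_mk hN P.2
  have hc0 : Cfsg.pPrimeCore p (G ⧸ N) = ⊥ := Cfsg.Lib.Components.pPrimeCore_quotient_eq_bot
  have hst : Stable p (G ⧸ N) := stable_of_isPStableOn fun B _ hB =>
    Cfsg.Lib.QuadPair.stable_of_qd_free hp (Nat.card B) (G ⧸ N)
      (fun h => hqd (Cfsg.Lib.QuadPair.involves_of_surjective hπs h)) B hB rfl
  -- the centralizer of `O_p` of the quotient has odd order
  set R := Cfsg.pCore p (G ⧸ N)
  set Op := Cfsg.pCore p G
  have hOpR : Op.map π ≤ R := by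
    haveI : (Op.map π).Normal := (inferInstance : Op.Normal).map π hπs
    exact Cfsg.Lib.Components.le_pCore ((Cfsg.Lib.Components.isPGroup_pCore p).map π)
  have hOpN : Op ⊓ N = ⊥ := by
    refine inf_eq_bot_of_coprime ?_
    obtain ⟨k, hk⟩ := IsPGroup.iff_card.1 (Cfsg.Lib.Components.isPGroup_pCore (G := G) p)
    rw [show Nat.card Op = p ^ k from hk]
    exact (Nat.Coprime.pow_right k hN).symm
  have hle : centralizer (R : Set (G ⧸ N)) ≤ (centralizer (Op : Set G)).map π := by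
    intro y hy
    obtain ⟨x, rfl⟩ := hπs y
    refine ⟨x, mem_centralizer_iff.2 fun a ha => ?_, rfl⟩
    have h1 := mem_centralizer_iff.1 hy (π a) (hOpR (mem_map_of_mem π ha))
    have h2 : x * a * x⁻¹ * a⁻¹ ∈ N := (QuotientGroup.eq_one_iff _).1 (show π (x * a * x⁻¹ * a⁻¹) = 1 by
      rw [map_mul, map_mul, map_mul, map_inv, map_inv, ← h1, mul_inv_cancel_right, mul_inv_cancel])
    have h3 : x * a * x⁻¹ * a⁻¹ ∈ Op :=
      mul_mem ((inferInstance : Op.Normal).conj_mem a ha x) (inv_mem ha)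
    have h4 : x * a * x⁻¹ * a⁻¹ = 1 := mem_bot.1 (hOpN ▸ mem_inf.2 ⟨h3, h2⟩)
    exact (mul_inv_eq_iff_eq_mul.1 (mul_inv_eq_one.1 h4)).symm
  set X := centralizer (R : Set (G ⧸ N)) with hX
  have hXodd : Odd (Nat.card X) := (hC.of_dvd_nat (card_map_dvd (centralizer (Op : Set G)) π)).of_dvd_nat (card_dvd_of_le hle)
  haveI : Group.IsSolvable X := Cfsg.Agent.PF.isSolvable_of_odd X hXodd
  haveI : X.Normal := Subgroup.normal_centralizer
  have hXc : Cfsg.pPrimeCore p X = ⊥ := by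
    haveI : (Cfsg.pPrimeCore p X).Characteristic := Cfsg.Lib.Components.pPrimeCore_characteristic
    haveI : ((Cfsg.pPrimeCore p X).map X.subtype).Normal := ConjAct.normal_of_characteristic_of_normal
    have h1 : (Cfsg.pPrimeCore p X).map X.subtype ≤ Cfsg.pPrimeCore p (G ⧸ N) :=
      Cfsg.Lib.Components.le_pPrimeCore (by
        rw [card_map_of_injective X.subtype_injective]
        exact Cfsg.Lib.Components.coprime_card_pPrimeCore p)
    rw [hc0, le_bot_iff] at h1
    exact (map_eq_bot_iff_of_injective _ X.subtype_injective).1 h1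
  have hcons : X ≤ R := by
    intro y hy
    haveI : ((Cfsg.pCore p X).map X.subtype).Normal := ConjAct.normal_of_characteristic_of_normal
    have hXR : (Cfsg.pCore p X).map X.subtype ≤ R :=
      Cfsg.Lib.Components.le_pCore ((Cfsg.Lib.Components.isPGroup_pCore p).map _)
    have h1 : (⟨y, hy⟩ : X) ∈ centralizer (Cfsg.pCore p X : Set X) := mem_centralizer_iff.2 fun a ha =>
      Subtype.ext (mem_centralizer_iff.1 hy a (hXR (mem_map_of_mem _ ha)))
    exact hXR ⟨_, Cfsg.Lib.Coprime.centralizer_pCore_le p hXc h1, rfl⟩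
  have hn := centerThompsonA_normal (S := P.mapSurjective hπs) hp hst hcons (stronglyClosed_self _)
  change (Cfsg.centerThompsonAOf ((P : Subgroup G).map π)).Normal at hn
  rw [← centerThompsonAOf_map_injOn hinj] at hn
  set Z := Cfsg.centerThompsonAOf (P : Subgroup G)
  haveI := hn
  set M := (Z.map π).comap π
  have hM : M = N ⊔ Z := by
    show (Z.map π).comap π = _
    rw [comap_map_eq, QuotientGroup.ker_mk', sup_comm]
  have hZP : Z ≤ (P : Subgroup G) :=
    (inf_le_left : Z ≤ Cfsg.thompsonSubgroupAOf (P : Subgroup G)).trans (map_subtype_le _)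
  have hPM : (P : Subgroup G) ⊓ M = Z := by
    refine le_antisymm (fun x hx => ?_) (le_inf hZP (hM ▸ le_sup_right))
    obtain ⟨z, hz, hzx⟩ := hx.2
    rw [← hinj (hZP hz) hx.1 hzx]
    exact hz
  have hfr := sup_normalizer_inf_eq_top M P
  rw [hPM, hM, sup_assoc, sup_eq_right.mpr le_normalizer] at hfr
  exact hfr

/-- Glauberman's factorisation when `O_p` has a centralizer of odd order -/
theorem sup_normalizer_zj (hp : p ≠ 2) (hab : ∀ S : Sylow 2 G, ∀ x ∈ S, ∀ y ∈ S, x * y = y * x)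
    (hC : Odd (Nat.card ↥(centralizer (Cfsg.pCore p G : Set G)))) (P : Sylow p G) :
    Cfsg.pPrimeCore p G ⊔ normalizer (Cfsg.centerThompsonAOf (P : Subgroup G) : Set G) = ⊤ :=
  sup_normalizer_zj_of_qd hp (qdFree hp hab) hC P

end Cfsg.Lib.GW
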