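/-
GW four-group, piece E: in a fusing proper subgroup the four-group centralises the `p`-part of the odd core
(`Lc`), given that no fusing subgroup normalises `ZJ` of a Sylow `p`-subgroup.
-/
import Cfsg.Agent.FourGroupGW.Coprime
import Cfsg.Agent.FourGroupGW.LocalZJ
import Cfsg.Agent.Coprime.Sylow
import Cfsg.Agent.InvolCalc.StronglyEmbedded
import Cfsg.Agent.OddLocal.CommutatorPLength

set_option autoImplicit false
set_option linter.unusedSectionVars false
set_option linter.style.haveILetI false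

namespace Cfsg.Lib.GW

open Subgroup

universe u

variable {G : Type u} [Group G] [Finite G]

namespace Frame

variable (F : Frame G)

/-- no fusing subgroup normalises `ZJ` of a Sylow `p`-subgroup -/
def NoZJ (p : ℕ) : Prop :=
  ∀ P : Sylow p G, ¬ F.Fusing (normalizer (Cfsg.centerThompsonAOf (P : Subgroup G) : Set G))

theorem fusing_mono {H K : Subgroup G} (h : F.Fusing H) (hle : H ≤ K) : F.Fusing K := by
  obtain ⟨hU, g, hg, hn, he⟩ := h
  exact ⟨hU.trans hle, g, hle hg, hn, he⟩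

/-- a fusing subgroup has an element acting as `σ` -/
theorem exists_rot (hm : Minimal G) {H : Subgroup G} (h : F.Fusing H) :
    ∃ g ∈ H, g ∈ normalizer (F.U : Set G) ∧ g * F.t * g⁻¹ = F.u ∧ g * F.u * g⁻¹ = F.t * F.u ∧
      g * (F.t * F.u) * g⁻¹ = F.t := by
  obtain ⟨-, g, hg, hn, he⟩ := h
  have hu := (F.fusing_element hm hn he).2
  refine ⟨g, hg, hn, he, hu, ?_⟩
  rw [← conj_mul, he, hu, ← mul_assoc, ← F.comm, mul_assoc, F.u_sq, mul_one]

/-- a set closed under a rotation and holding one involution of `U` holds all three -/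
theorem all_of_rot {g : G} (hg : g * F.t * g⁻¹ = F.u ∧ g * F.u * g⁻¹ = F.t * F.u ∧ g * (F.t * F.u) * g⁻¹ = F.t)
    {P : G → Prop} (hstep : ∀ s ∈ F.U, s ≠ 1 → P s → P (g * s * g⁻¹)) {s : G} (hs : s ∈ F.U) (hs1 : s ≠ 1)
    (h : P s) : P F.t ∧ P F.u := by
  have hv : F.t * F.u ∈ F.U := mul_mem F.t_mem_U F.u_mem_U
  have hv1 : F.t * F.u ≠ 1 := fun e => F.t_ne_u (by
    rw [mul_eq_one_iff_eq_inv, F.u_inv] at e; exact e)
  rcases F.mem_U.1 hs with e | e | e | e <;> subst e
  · exact absurd rfl hs1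
  · exact ⟨h, hg.1 ▸ hstep _ hs hs1 h⟩
  · have h1 := hg.2.1 ▸ hstep _ hs hs1 h
    exact ⟨hg.2.2 ▸ hstep _ hv hv1 h1, h⟩
  · have h1 := hg.2.2 ▸ hstep _ hs hs1 h
    exact ⟨h1, hg.1 ▸ hstep _ F.t_mem_U F.t_ne_one h1⟩

theorem le_centralizer_U {X : Subgroup G} (ht : X ≤ centralizer {F.t}) (hu : X ≤ centralizer {F.u}) :
    X ≤ centralizer (F.U : Set G) := fun _ hx =>
  F.mem_centralizer_U.2 ⟨mem_centralizer_singleton_iff.1 (ht hx), mem_centralizer_singleton_iff.1 (hu hx)⟩

/-- `U`-invariant Sylow subgroups of an odd subgroup are conjugate under the centraliser of `U` -/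
theorem conj_sylow {K : Subgroup G} (hK : Odd (Nat.card K)) (hUK : F.U ≤ normalizer (K : Set G))
    {p : ℕ} [Fact p.Prime] {P Q : Subgroup G} (hP : P ≤ K) (hPp : IsPGroup p P) (hPs : ¬ p ∣ P.relIndex K)
    (hPU : F.U ≤ normalizer (P : Set G)) (hQ : Q ≤ K) (hQp : IsPGroup p Q) (hQs : ¬ p ∣ Q.relIndex K)
    (hQU : F.U ≤ normalizer (Q : Set G)) :
    ∃ c ∈ K, c ∈ centralizer (F.U : Set G) ∧ P.map (MulAut.conj c).toMonoidHom = Q := by
  let P' : Sylow p K := (hPp.comap_subtype (K := K)).toSylow hPs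
  let Q' : Sylow p K := (hQp.comap_subtype (K := K)).toSylow hQs
  have eP : (P' : Subgroup K).map K.subtype = P := map_subgroupOf_eq_of_le hP
  have eQ : (Q' : Subgroup K).map K.subtype = Q := map_subgroupOf_eq_of_le hQ
  haveI := Cfsg.Agent.PF.isSolvable_of_odd K hK
  obtain ⟨c, hc, he⟩ := Cfsg.Lib.Coprime.invariant_sylow_conj hUK (F.coprime_U hK) (Or.inr inferInstance) p
    P' Q' (by rw [eP]; exact hPU) (by rw [eQ]; exact hQU)
  refine ⟨c, c.2, hc, ?_⟩
  have := congrArg (fun R : Sylow p K => (R : Subgroup K).map K.subtype) he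
  simp only [Cfsg.Lib.Coprime.map_subtype_smul, eP, eQ] at this
  exact this

/-- a `U`-invariant `p`-subgroup of an odd subgroup lies in an invariant Sylow subgroup -/
theorem exists_sylow_over {K : Subgroup G} (hK : Odd (Nat.card K)) (hUK : F.U ≤ normalizer (K : Set G))
    {p : ℕ} [Fact p.Prime] {X : Subgroup G} (hX : X ≤ K) (hXp : IsPGroup p X)
    (hXU : F.U ≤ normalizer (X : Set G)) :
    ∃ P : Subgroup G, X ≤ P ∧ P ≤ K ∧ IsPGroup p P ∧ ¬ p ∣ P.relIndex K ∧ F.U ≤ normalizer (P : Set G) := by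
  haveI := Cfsg.Agent.PF.isSolvable_of_odd K hK
  obtain ⟨P, hXP, hP⟩ := Cfsg.Lib.Coprime.exists_invariant_sylow_ge hUK (F.coprime_U hK)
    (Or.inr inferInstance) p hX hXp hXU
  refine ⟨_, hXP, map_subtype_le _, P.2.map _, ?_, hP⟩
  have h := P.not_dvd_index
  rwa [relIndex, show ((P : Subgroup K).map K.subtype).subgroupOf K = P from
    comap_map_eq_self_of_injective K.subtype_injective _]

/-- in an odd subgroup normalised by a fusing subgroup, an invariant Sylow subgroup centralised by one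
involution of `U` is centralised by `U` -/
theorem sylow_le_centralizer (hm : Minimal G) {H K : Subgroup G} (hf : F.Fusing H)
    (hHK : H ≤ normalizer (K : Set G)) (hK : Odd (Nat.card K)) {p : ℕ} [Fact p.Prime] {P : Subgroup G}
    (hP : P ≤ K) (hPp : IsPGroup p P) (hPs : ¬ p ∣ P.relIndex K) (hPU : F.U ≤ normalizer (P : Set G))
    {s : G} (hs : s ∈ F.U) (hs1 : s ≠ 1) (hsP : P ≤ centralizer {s}) : P ≤ centralizer (F.U : Set G) := by
  obtain ⟨g, hg, hgU, hrot⟩ := F.exists_rot hm hf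
  have hUK : F.U ≤ normalizer (K : Set G) := hf.1.trans hHK
  set Q := P.map (MulAut.conj g).toMonoidHom with hQdef
  have hKg : K.map (MulAut.conj g).toMonoidHom = K := Cfsg.Lib.Coprime.conjMap_eq_self (hHK hg)
  have hQK : Q ≤ K := by rw [← hKg]; exact map_mono hP
  have hQs : ¬ p ∣ Q.relIndex K := by
    rw [← hKg, hQdef, relIndex_map_map_of_injective _ _ (MulAut.conj g).injective]; exact hPs
  have hQU : F.U ≤ normalizer (Q : Set G) := by
    intro v hv
    have hv' : g⁻¹ * v * g ∈ F.U := by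
      simpa using (mem_normalizer_iff.1 (inv_mem hgU) v).1 hv
    refine mem_normalizer_iff.2 fun x => ?_
    rw [hQdef, mem_map_equiv, mem_map_equiv, MulAut.conj_symm_apply, MulAut.conj_symm_apply,
      show g⁻¹ * (v * x * v⁻¹) * g = g⁻¹ * v * g * (g⁻¹ * x * g) * (g⁻¹ * v * g)⁻¹ by group]
    exact mem_normalizer_iff.1 (hPU hv') _
  obtain ⟨c, -, hcU, hc⟩ := F.conj_sylow hK hUK hP hPp hPs hPU hQK (hPp.map _) hQs hQU
  have hall := F.all_of_rot hrot (P := fun s => P ≤ centralizer {s}) (fun s hsU _ h x hx => by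
    have hgs : g * s * g⁻¹ ∈ F.U := (mem_normalizer_iff.1 hgU s).1 hsU
    obtain ⟨y, hy, hye⟩ : c * x * c⁻¹ ∈ Q := by rw [← hc]; exact ⟨x, hx, rfl⟩
    have h1 : Commute y s := mem_centralizer_singleton_iff.1 (h hy)
    have h2 : Commute (c * x * c⁻¹) (g * s * g⁻¹) := by
      have := h1.map (MulAut.conj g).toMonoidHom
      simp only [MulEquiv.coe_toMonoidHom, MulAut.conj_apply] at this hye
      rwa [hye] at this
    have h3 := h2.map (MulAut.conj c⁻¹).toMonoidHom
    simp only [MulEquiv.coe_toMonoidHom, MulAut.conj_apply] at h3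
    have e : c⁻¹ * (g * s * g⁻¹) * c⁻¹⁻¹ = g * s * g⁻¹ := by
      rw [inv_inv, mul_assoc, mem_centralizer_iff.1 hcU _ hgs, inv_mul_cancel_left]
    rw [show c⁻¹ * (c * x * c⁻¹) * c⁻¹⁻¹ = x by group, e] at h3
    exact mem_centralizer_singleton_iff.2 h3.eq) hs hs1 hsP
  exact F.le_centralizer_U hall.1 hall.2

/-- elements of odd order of a subgroup with a normal 2-complement lie in it -/
theorem mem_core_of_odd' {H : Subgroup G} (hU : F.U ≤ H) (hH : H = Core H ⊔ F.U) {x : G} (hx : x ∈ H)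
    (ho : Odd (orderOf x)) : x ∈ Core H := by
  have hx' : x ∈ Core H ⊔ F.U := by rw [← hH]; exact hx
  obtain ⟨a, ha, b, hb, rfl⟩ :=
    (Cfsg.Lib.Coprime.mem_sup_of_le_normalizer' (hU.trans (le_normalizer_core H))).1 hx'
  refine Cfsg.Lib.GenDihedral.mem_of_sq ho ?_
  have haa : a * a = 1 := by
    rcases F.mem_U.1 ha with e | e | e | e <;> subst e
    exacts [one_mul 1, F.t_sq, F.u_sq, F.v_sq]
  have e : a * b * (a * b) = a * b * a⁻¹ * b := by
    rw [inv_eq_of_mul_eq_one_right haa]; group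
  rw [e]
  exact mul_mem ((mem_normalizer_iff.1 (le_normalizer_core H (hU ha)) b).1 hb) hb

theorem le_core {H X : Subgroup G} (hX : X ≤ H) (hn : H ≤ normalizer (X : Set G)) (ho : Odd (Nat.card X)) :
    X ≤ Core H := by
  haveI : (X.subgroupOf H).Normal := (normal_subgroupOf_iff_le_normalizer hX).2 hn
  rw [← map_subgroupOf_eq_of_le hX]
  exact map_mono (Cfsg.Lib.Components.le_pPrimeCore (Nat.coprime_two_right.2
    (by rw [Nat.card_congr (subgroupOfEquivOfLe hX).toEquiv]; exact ho)))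

include F in
theorem not_normal_pgroup (hm : Minimal G) {p : ℕ} (hp : p ≠ 2) [Fact p.Prime] {X : Subgroup G}
    (hX : IsPGroup p X) (hne : X ≠ ⊥) : normalizer (X : Set G) ≠ ⊤ := by
  intro h
  haveI := hm.simple
  haveI := normalizer_eq_top_iff.1 h
  rcases IsSimpleGroup.eq_bot_or_eq_top_of_normal X inferInstance with e | e
  · exact hne e
  · obtain ⟨k, hk⟩ := IsPGroup.iff_card.1 hX
    have h2 : 2 ∣ p ^ k := by
      rw [← hk, e, Nat.card_congr Subgroup.topEquiv.toEquiv, ← F.u_order]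
      exact orderOf_dvd_natCard F.u
    exact hp ((Nat.prime_dvd_prime_iff_eq Nat.prime_two Fact.out).1 (Nat.prime_two.dvd_of_dvd_pow h2)).symm

theorem odd_of_pgroup {p : ℕ} (hp : p ≠ 2) [hp' : Fact p.Prime] {X : Subgroup G} (hX : IsPGroup p X) :
    Odd (Nat.card X) := by
  obtain ⟨k, hk⟩ := IsPGroup.iff_card.1 hX
  rw [hk]; exact (hp'.out.odd_of_ne_two hp).pow

/-- `O_p` of a subgroup, inside the group -/
def opc (p : ℕ) (H : Subgroup G) : Subgroup G := (Cfsg.pCore p H).map H.subtype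

theorem opc_le (p : ℕ) (H : Subgroup G) : opc p H ≤ H := map_subtype_le _

theorem normalizer_opc (p : ℕ) (H : Subgroup G) : H ≤ normalizer (opc p H : Set G) :=
  fun _ h => Cfsg.Lib.OddP.le_normalizer_map_of_char (Cfsg.pCore p H) (le_normalizer h)

theorem le_opc {p : ℕ} {H X : Subgroup G} (hX : X ≤ H) (hn : H ≤ normalizer (X : Set G)) (hp : IsPGroup p X) :
    X ≤ opc p H := by
  haveI : (X.subgroupOf H).Normal := (normal_subgroupOf_iff_le_normalizer hX).2 hn
  rw [← map_subgroupOf_eq_of_le hX]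
  exact map_mono (Cfsg.Lib.Components.le_pCore (hp.comap_of_injective _ H.subtype_injective))

include F in
theorem abelian_two (hm : Minimal G) (H : Subgroup G) :
    ∀ S : Sylow 2 H, ∀ x ∈ S, ∀ y ∈ S, x * y = y * x := by
  intro S x hx y hy
  haveI : Fact (Nat.Prime 2) := ⟨Nat.prime_two⟩
  obtain ⟨T, hT⟩ := (S.2.map H.subtype).exists_le_sylow
  obtain ⟨g, hg⟩ := MulAction.exists_smul_eq G (F.sylowU hm) T
  have hmem : ∀ z ∈ (S : Subgroup H), g⁻¹ * (z : G) * g ∈ F.U := fun z hz => by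
    have h : (z : G) ∈ (T : Subgroup G) := hT ⟨z, hz, rfl⟩
    rw [← hg] at h
    obtain ⟨w, hw, he⟩ := h
    rw [show g⁻¹ * (z : G) * g = w by rw [← he]; simp [mul_assoc]]
    rw [← F.coe_sylowU hm]; exact hw
  have h := F.U_comm (hmem x hx) (hmem y hy)
  refine Subtype.ext ?_
  calc (x : G) * y = g * ((g⁻¹ * (x : G) * g) * (g⁻¹ * y * g)) * g⁻¹ := by group
    _ = g * ((g⁻¹ * (y : G) * g) * (g⁻¹ * x * g)) * g⁻¹ := by rw [h]
    _ = (y : G) * x := by group

/-- Frattini: the normaliser of an invariant Sylow subgroup of the core stays fusing -/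
theorem fusing_inf_normalizer (hm : Minimal G) {H : Subgroup G} (hf : F.Fusing H) {p : ℕ} [Fact p.Prime]
    {P : Subgroup G} (hP : P ≤ Core H) (hPp : IsPGroup p P) (hPs : ¬ p ∣ P.relIndex (Core H))
    (hPU : F.U ≤ normalizer (P : Set G)) : F.Fusing (H ⊓ normalizer (P : Set G)) := by
  obtain ⟨g, hg, hgU, hgt, -, -⟩ := F.exists_rot hm hf
  have hHK := le_normalizer_core H
  have hUK : F.U ≤ normalizer (Core H : Set G) := hf.1.trans hHK
  set Q := P.map (MulAut.conj g).toMonoidHom with hQdef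
  have hKg : (Core H).map (MulAut.conj g).toMonoidHom = Core H := Cfsg.Lib.Coprime.conjMap_eq_self (hHK hg)
  have hQK : Q ≤ Core H := by rw [← hKg]; exact map_mono hP
  have hQs : ¬ p ∣ Q.relIndex (Core H) := by
    rw [← hKg, hQdef, relIndex_map_map_of_injective _ _ (MulAut.conj g).injective]; exact hPs
  have hQU : F.U ≤ normalizer (Q : Set G) := by
    intro v hv
    have hv' : g⁻¹ * v * g ∈ F.U := by simpa using (mem_normalizer_iff.1 (inv_mem hgU) v).1 hv
    refine mem_normalizer_iff.2 fun x => ?_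
    rw [hQdef, mem_map_equiv, mem_map_equiv, MulAut.conj_symm_apply, MulAut.conj_symm_apply,
      show g⁻¹ * (v * x * v⁻¹) * g = g⁻¹ * v * g * (g⁻¹ * x * g) * (g⁻¹ * v * g)⁻¹ by group]
    exact mem_normalizer_iff.1 (hPU hv') _
  obtain ⟨c, hcK, hcU, hc⟩ := F.conj_sylow (odd_card_core H) hUK hP hPp hPs hPU hQK (hPp.map _) hQs hQU
  have hcn : c⁻¹ * g ∈ normalizer (P : Set G) := by
    have h : (P.map (MulAut.conj g).toMonoidHom).map (MulAut.conj c⁻¹).toMonoidHom = P := by
      rw [← hQdef, ← hc, map_map]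
      convert Subgroup.map_id P using 2
      ext x; simp [mul_assoc]
    rw [map_map] at h
    rw [← Cfsg.Lib.Transfer.map_conj_eq_self_iff]
    convert h using 2
    ext x; simp [mul_assoc]
  refine ⟨le_inf hf.1 hPU, c⁻¹ * g, mem_inf.2 ⟨mul_mem (inv_mem (core_le H hcK)) hg, hcn⟩,
    mul_mem (inv_mem (centralizer_le_normalizer _ hcU)) hgU, ?_⟩
  rw [show c⁻¹ * g * F.t * (c⁻¹ * g)⁻¹ = c⁻¹ * (g * F.t * g⁻¹) * c by group, hgt, mul_assoc,
    mem_centralizer_iff.1 hcU _ F.u_mem_U, inv_mul_cancel_left]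

theorem normalizer_le_zj (D : Subgroup G) :
    normalizer (D : Set G) ≤ normalizer ((Cfsg.centerThompsonAOf D : Subgroup G) : Set G) := fun x hx => by
  refine Cfsg.Lib.Transfer.map_conj_eq_self_iff.mp ?_
  rw [Cfsg.Lib.ZJ.centerThompsonAOf_map_injOn (MulAut.conj x).injective.injOn,
    Cfsg.Lib.Transfer.map_conj_eq_self_iff.mpr hx]

/-- what a fusing subgroup with a moved `O_p` gives -/
theorem exists_bigger (hm : Minimal G) (hNF : F.NonFusingSpec) (hOdd : F.OddSpec) {p : ℕ} (hp : p ≠ 2)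
    [Fact p.Prime] (hyp : F.NoZJ p) {H : Subgroup G} (hH : H ≠ ⊤) (hf : F.Fusing H)
    (hmov : ¬ opc p H ≤ centralizer (F.U : Set G)) :
    ∃ N : Subgroup G, N ≠ ⊤ ∧ F.Fusing N ∧ ¬ opc p N ≤ centralizer (F.U : Set G) ∧
      (Nat.card H).factorization p < (Nat.card N).factorization p := by
  haveI h2 : Fact (Nat.Prime 2) := ⟨Nat.prime_two⟩
  set R := opc p H with hR
  have hRp : IsPGroup p R := (Cfsg.Lib.Components.isPGroup_pCore p).map _
  have hRH : R ≤ H := opc_le p H
  have hHR : H ≤ normalizer (R : Set G) := normalizer_opc p H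
  obtain ⟨g₀, hg₀, hg₀U, hrot₀⟩ := F.exists_rot hm hf
  -- the centraliser of `R` in `H` has odd order
  have hCodd : Odd (Nat.card ↥(centralizer (Cfsg.pCore p H : Set H))) := by
    rw [← Nat.not_even_iff_odd]
    intro he
    obtain ⟨i, hi, hi2⟩ := Cfsg.Lib.StrongEmb.exists_involution_of_even he
    obtain ⟨T, hT⟩ := (IsPGroup.of_card (G := zpowers i) (p := 2) (n := 1)
      (by rw [Nat.card_zpowers, hi2, pow_one])).exists_le_sylow
    let P2 : Sylow 2 H := (F.sylowU hm).subtype (by rw [F.coe_sylowU hm]; exact hf.1)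
    obtain ⟨h, hh⟩ := MulAction.exists_smul_eq H T P2
    have hs : h * i * h⁻¹ ∈ (P2 : Subgroup H) := by
      rw [← hh]; exact ⟨i, hT (mem_zpowers i), rfl⟩
    rw [show (P2 : Subgroup H) = F.U.subgroupOf H by simp [P2, Sylow.coe_subtype, F.coe_sylowU hm]] at hs
    set s : G := ((h * i * h⁻¹ : H) : G) with hsdef
    have hsU : s ∈ F.U := mem_subgroupOf.1 hs
    have hs1 : s ≠ 1 := fun e => by
      have h0 : h * i * h⁻¹ = 1 := Subtype.ext e
      rw [conj_eq_one_iff] at h0
      rw [h0, orderOf_one] at hi2; omega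
    have hsR : R ≤ centralizer {s} := by
      rintro _ ⟨r, hr, rfl⟩
      refine mem_centralizer_singleton_iff.2 ?_
      have hr' : h⁻¹ * r * h⁻¹⁻¹ ∈ Cfsg.pCore p H := (inferInstance : (Cfsg.pCore p H).Normal).conj_mem r hr h⁻¹
      have h1 : Commute i (h⁻¹ * r * h⁻¹⁻¹) := (mem_centralizer_iff.1 hi _ hr').symm
      have h2 := h1.map (MulAut.conj h).toMonoidHom
      simp only [MulEquiv.coe_toMonoidHom, MulAut.conj_apply] at h2
      rw [show h * (h⁻¹ * r * h⁻¹⁻¹) * h⁻¹ = r by group] at h2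
      exact (congrArg Subtype.val h2.eq).symm
    have hall := F.all_of_rot hrot₀ (P := fun s => R ≤ centralizer {s}) (fun s _ _ hsR x hx => by
      refine mem_centralizer_singleton_iff.2 ?_
      have hx' := hsR ((mem_normalizer_iff''.1 (hHR hg₀) x).1 hx)
      have h1 : Commute (g₀⁻¹ * x * g₀) s := mem_centralizer_singleton_iff.1 hx'
      have h2 := h1.map (MulAut.conj g₀).toMonoidHom
      simp only [MulEquiv.coe_toMonoidHom, MulAut.conj_apply] at h2
      rw [show g₀ * (g₀⁻¹ * x * g₀) * g₀⁻¹ = x by group] at h2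
      exact h2.eq) hsU hs1 hsR
    exact hmov (F.le_centralizer_U hall.1 hall.2)
  -- Glauberman factorisation
  obtain ⟨P₁⟩ := (inferInstance : Nonempty (Sylow p H))
  set A := Cfsg.pPrimeCore p H with hA
  have hfac : ∀ P : Sylow p H, A ⊔ normalizer (Cfsg.centerThompsonAOf (P : Subgroup H) : Set H) = ⊤ := fun P =>
    GW.sup_normalizer_zj hp (F.abelian_two hm H) hCodd P
  have hAodd : Odd (Nat.card A) := by
    refine hCodd.of_dvd_nat (card_dvd_of_le fun a ha => mem_centralizer_iff.2 fun r hr => ?_)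
    have h0 : Disjoint A (Cfsg.pCore p H) := by
      refine Subgroup.disjoint_of_coprime_natCard ?_
      obtain ⟨k, hk⟩ := IsPGroup.iff_card.1 (Cfsg.Lib.Components.isPGroup_pCore (G := H) p)
      rw [hk]; exact Nat.Coprime.pow_right k (Cfsg.Lib.Components.coprime_card_pPrimeCore p)
    have h1 : a * r * a⁻¹ * r⁻¹ = 1 := disjoint_def.1 h0
      (by rw [show a * r * a⁻¹ * r⁻¹ = a * (r * a⁻¹ * r⁻¹) by group]
          exact mul_mem ha ((inferInstance : A.Normal).conj_mem _ (inv_mem ha) r))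
      (mul_mem ((inferInstance : (Cfsg.pCore p H).Normal).conj_mem r hr a) (inv_mem hr))
    exact (mul_inv_eq_iff_eq_mul.1 (mul_inv_eq_one.1 h1)).symm
  -- choose `P` with `U` in the normaliser of its `ZJ`
  obtain ⟨P, hPU⟩ : ∃ P : Sylow p H,
      F.U.subgroupOf H ≤ normalizer (Cfsg.centerThompsonAOf (P : Subgroup H) : Set H) := by
    set N₁ := normalizer (Cfsg.centerThompsonAOf (P₁ : Subgroup H) : Set H) with hN₁
    obtain ⟨T⟩ := (inferInstance : Nonempty (Sylow 2 N₁))
    have hidx : Odd N₁.index := by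
      have h := Cfsg.Lib.Coprime.card_sup_mul_card_inf
        (show N₁ ≤ normalizer (A : Set H) by rw [normalizer_eq_top_iff.2 inferInstance]; exact le_top)
      rw [hfac P₁, Nat.card_congr Subgroup.topEquiv.toEquiv, ← N₁.card_mul_index] at h
      have h' : N₁.index * Nat.card ↥(A ⊓ N₁) = Nat.card A :=
        Nat.eq_of_mul_eq_mul_left (Nat.card_pos (α := N₁)) (by rw [← mul_assoc, h, mul_comm])
      exact hAodd.of_dvd_nat ⟨_, h'.symm⟩
    have hT : ¬ 2 ∣ ((T : Subgroup N₁).map N₁.subtype).index := by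
      rw [index_map_subtype]
      exact fun h => (Nat.prime_two.dvd_mul.1 h).elim T.not_dvd_index
        (fun h => Nat.not_even_iff_odd.2 hidx (even_iff_two_dvd.2 h))
    let T' : Sylow 2 H := (T.2.map N₁.subtype).toSylow hT
    let P2 : Sylow 2 H := (F.sylowU hm).subtype (by rw [F.coe_sylowU hm]; exact hf.1)
    obtain ⟨h, hh⟩ := MulAction.exists_smul_eq H T' P2
    refine ⟨h • P₁, fun x hx => ?_⟩
    have hx2 : x ∈ (P2 : Subgroup H) := by
      rw [show (P2 : Subgroup H) = F.U.subgroupOf H by simp [P2, Sylow.coe_subtype, F.coe_sylowU hm]]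
      exact hx
    rw [← hh] at hx2
    obtain ⟨y, ⟨w, -, rfl⟩, he⟩ := hx2
    have hZ : Cfsg.centerThompsonAOf ((h • P₁ : Sylow p H) : Subgroup H) =
        (Cfsg.centerThompsonAOf (P₁ : Subgroup H)).map (MulAut.conj h).toMonoidHom := by
      rw [Cfsg.Lib.ZJ.centerThompsonAOf_map_injOn (MulAut.conj h).injective.injOn]
      rfl
    rw [hZ, ← he]
    refine mem_normalizer_iff.2 fun z => ?_
    rw [mem_map_equiv, mem_map_equiv, MulAut.conj_symm_apply, MulAut.conj_symm_apply]
    simp only [MulDistribMulAction.toMonoidEnd_apply, MulDistribMulAction.toMonoidHom_apply,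
      MulAut.smul_def, MulAut.conj_apply, Subgroup.coe_subtype]
    rw [show h⁻¹ * ((h * (w : H) * h⁻¹) * z * (h * (w : H) * h⁻¹)⁻¹) * h =
      (w : H) * (h⁻¹ * z * h) * (w : H)⁻¹ by group]
    exact mem_normalizer_iff.1 w.2 _
  set N₂ := normalizer (Cfsg.centerThompsonAOf (P : Subgroup H) : Set H) with hN₂
  set K := N₂.map H.subtype with hK
  set Pg := (P : Subgroup H).map H.subtype with hPg
  have hPgp : IsPGroup p Pg := P.2.map _
  have hKH : K ≤ H := map_subtype_le _
  have hUK : F.U ≤ K := fun x hx => ⟨⟨x, hf.1 hx⟩, hPU (mem_subgroupOf.2 hx), rfl⟩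
  have hZg : Cfsg.centerThompsonAOf Pg = (Cfsg.centerThompsonAOf (P : Subgroup H)).map H.subtype :=
    (Cfsg.Lib.ZJ.centerThompsonAOf_map_injOn H.subtype_injective.injOn).symm
  set N := normalizer (Cfsg.centerThompsonAOf Pg : Set G) with hN
  have hKN : K ≤ N := by
    rw [hN, hZg]
    exact le_normalizer_map H.subtype
  have hRne : R ≠ ⊥ := fun e => hmov (by rw [e]; exact bot_le)
  have hRPg : R ≤ Pg := map_mono (Cfsg.Lib.Coprime.pCore_le_sylow p P)
  have hPgne : Pg ≠ ⊥ := fun e => hRne (le_bot_iff.1 (e ▸ hRPg))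
  have hZle : Cfsg.centerThompsonAOf Pg ≤ Pg :=
    (inf_le_left : Cfsg.centerThompsonAOf Pg ≤ Cfsg.thompsonSubgroupAOf Pg).trans (map_subtype_le _)
  have hNtop : N ≠ ⊤ := F.not_normal_pgroup hm hp (hPgp.to_le hZle)
    (Cfsg.Lib.ZJ.centerThompsonAOf_ne_bot hPgp hPgne)
  -- `K` fuses
  have hKf : F.Fusing K := by
    by_contra hnf
    have hKtop : K ≠ ⊤ := fun e => hH (top_le_iff.1 (e ▸ hKH))
    have hKeq := hNF K hKtop hUK hnf
    obtain ⟨a, ha, b, hb, hab⟩ : ∃ a ∈ A, ∃ b ∈ N₂, a * b = (⟨g₀, hg₀⟩ : H) := by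
      have h : (⟨g₀, hg₀⟩ : H) ∈ A ⊔ N₂ := by rw [hfac P]; exact mem_top _
      rwa [mem_sup_of_normal_left] at h
    set k : G := (b : G) with hk
    have hkK : k ∈ K := ⟨b, hb, rfl⟩
    set w := k * F.t * k⁻¹ with hw
    have hwK : w ∈ K := mul_mem (mul_mem hkK (hUK F.t_mem_U)) (inv_mem hkK)
    have hcore : ∀ a₁ : H, a₁ ∈ A → (a₁ : G) ∈ K → (a₁ : G) ∈ Core K := fun a₁ ha₁ hk₁ =>
      F.mem_core_of_odd' hUK hKeq hk₁ (by
        rw [Subgroup.orderOf_coe]; exact Frame.odd_orderOf hAodd ha₁)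
    have hw1 : w * F.t ∈ Core K := by
      obtain ⟨v, hv, c, hc, hvc⟩ := (Cfsg.Lib.Coprime.mem_sup_of_le_normalizer'
        (hUK.trans (le_normalizer_core K))).1 (show k ∈ Core K ⊔ F.U by rw [← hKeq]; exact hkK)
      have hvt : v * F.t * v⁻¹ = F.t := by rw [F.U_comm hv F.t_mem_U, mul_inv_cancel_right]
      have e : w * F.t = v * (c * (F.t * c⁻¹ * F.t⁻¹)) * v⁻¹ := by
        have hvt' : v⁻¹ * F.t = F.t * v⁻¹ := F.U_comm (inv_mem hv) F.t_mem_U
        rw [hw, ← hvc, mul_inv_rev, F.t_inv]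
        calc v * c * F.t * (c⁻¹ * v⁻¹) * F.t = v * c * F.t * c⁻¹ * (v⁻¹ * F.t) := by group
          _ = v * c * F.t * c⁻¹ * (F.t * v⁻¹) := by rw [hvt']
          _ = _ := by group
      rw [e]
      exact (mem_normalizer_iff.1 (le_normalizer_core K (hUK hv)) _).1
        (mul_mem hc ((mem_normalizer_iff.1 (le_normalizer_core K (hUK F.t_mem_U)) _).1 (inv_mem hc)))
    have hw2 : w * F.u ∈ Core K := by
      set tH : H := ⟨F.t, hf.1 F.t_mem_U⟩
      set uH : H := ⟨F.u, hf.1 F.u_mem_U⟩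
      have e1 : (a * b) * tH * (a * b)⁻¹ = uH := by rw [hab]; exact Subtype.ext hrot₀.1
      have e2 : b * tH * b⁻¹ * uH = a⁻¹ * (uH * a * uH⁻¹) := by
        have hu : uH⁻¹ = uH := Subtype.ext F.u_inv
        calc b * tH * b⁻¹ * uH = a⁻¹ * ((a * b) * tH * (a * b)⁻¹) * a * uH := by group
          _ = a⁻¹ * uH * a * uH := by rw [e1]
          _ = _ := by rw [hu]; group
      have := hcore (b * tH * b⁻¹ * uH) (by
        rw [e2]; exact mul_mem (inv_mem ha) ((inferInstance : A.Normal).conj_mem a ha uH))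
        (mul_mem hwK (hUK F.u_mem_U))
      exact this
    have htu : F.t * F.u ∈ Core K := by
      have h0 := mul_mem (inv_mem hw1) hw2
      rwa [show (w * F.t)⁻¹ * (w * F.u) = F.t⁻¹ * F.u by group, F.t_inv] at h0
    have := Frame.odd_orderOf (odd_card_core K) htu
    rw [F.v_order] at this
    exact absurd this (by decide)
  have hNf : F.Fusing N := F.fusing_mono hKf hKN
  -- a larger `p`-part
  obtain ⟨S, hS⟩ := hPgp.exists_le_sylow
  have hlt : (Nat.card H).factorization p < (Nat.card N).factorization p := by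
    have hPS : Pg ≠ S := fun e => hyp S (by rw [← e]; exact hNf)
    haveI : Group.IsNilpotent (S : Subgroup G) := S.2.isNilpotent
    obtain ⟨q, hq, hqP⟩ := SetLike.exists_of_lt (Group.normalizerCondition_of_isNilpotent (Pg.subgroupOf S)
      (lt_top_iff_ne_top.2 fun h => hPS (le_antisymm hS (subgroupOf_eq_top.1 h))))
    have hqn : (q : G) ∈ normalizer (Pg : Set G) := by
      refine Cfsg.Lib.Coprime.mem_normalizer_of_conj_mem (fun x hx => ?_) (fun x hx => ?_)
      · exact mem_subgroupOf.1 ((mem_normalizer_iff.1 hq ⟨x, hS hx⟩).1 (mem_subgroupOf.2 hx))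
      · have h := (mem_normalizer_iff.1 (inv_mem hq) ⟨x, hS hx⟩).1 (mem_subgroupOf.2 hx)
        simpa using mem_subgroupOf.1 h
    set Q := Pg ⊔ zpowers (q : G) with hQ
    have hQp : IsPGroup p Q := S.2.to_le (sup_le hS (zpowers_le.2 q.2))
    have hPgN : Pg ≤ N :=
      le_normalizer.trans (normalizer_le_zj Pg)
    have hQN : Q ≤ N := sup_le hPgN (zpowers_le.2
      (normalizer_le_zj Pg hqn))
    obtain ⟨b, hb⟩ := IsPGroup.iff_card.1 hQp
    have hbN : p ^ b ∣ Nat.card N := hb ▸ card_dvd_of_le hQN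
    have hPgc : Nat.card Pg = p ^ (Nat.card H).factorization p := by
      rw [hPg, card_map_of_injective H.subtype_injective, P.card_eq_multiplicity]
    have hlt' : Nat.card Pg < Nat.card Q := lt_of_le_of_ne (card_le_of_le le_sup_left) fun e => hqP
      (mem_subgroupOf.2 (eq_of_le_of_card_ge (le_sup_left : Pg ≤ Q) e.ge ▸ mem_sup_right (mem_zpowers _)))
    rw [hPgc, hb] at hlt'
    exact lt_of_lt_of_le ((Nat.pow_lt_pow_iff_right (Fact.out : p.Prime).one_lt).1 hlt')
      ((Fact.out : p.Prime).pow_dvd_iff_le_factorization Nat.card_pos.ne' |>.1 hbN)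
  -- `R` is moved by the core of `N`
  have hRN : R ≤ N :=
    hRPg.trans (le_normalizer.trans (normalizer_le_zj Pg))
  have hUR : F.U ≤ normalizer (R : Set G) := hf.1.trans hHR
  have hUC : F.U ≤ normalizer (Core N : Set G) := hNf.1.trans (le_normalizer_core N)
  obtain ⟨s, hsU, hs1, hsR⟩ := hOdd N hNtop hNf.1 R hRN (odd_of_pgroup hp hRp) hUR
  obtain ⟨g₁, hg₁, hg₁U, hrot₁⟩ := F.exists_rot hm hKf
  have hmod := F.all_of_rot hrot₁ (P := fun s => ∀ k ∈ R, k⁻¹ * (s * k * s⁻¹) ∈ Core N)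
    (fun s _ _ h k hk => by
      have h1 := (mem_normalizer_iff.1 (le_normalizer_core N (hKN hg₁)) _).1
        (h _ ((mem_normalizer_iff''.1 (hHR (hKH hg₁)) k).1 hk))
      rwa [show g₁ * ((g₁⁻¹ * k * g₁)⁻¹ * (s * (g₁⁻¹ * k * g₁) * s⁻¹)) * g₁⁻¹ =
        k⁻¹ * (g₁ * s * g₁⁻¹ * k * (g₁ * s * g₁⁻¹)⁻¹) by group] at h1) hsU hs1 hsR
  obtain ⟨P₀, hP₀, hP₀K, hP₀p, hP₀s, hP₀U⟩ := F.exists_sylow_over (odd_card_core N) hUC
    (X := R ⊓ Core N) inf_le_right (hRp.to_le inf_le_left) (Cfsg.Lib.Coprime.le_normalizer_inf hUR hUC)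
  have hP₀mov : ¬ P₀ ≤ centralizer (F.U : Set G) := by
    intro hcen
    refine hmov fun x hx => ?_
    refine Cfsg.Lib.Coprime.centralizes_of_coprime_chain (A := F.U) (D := R ⊓ Core N)
      (F.coprime_U ((odd_of_pgroup hp hRp).of_dvd_nat (card_dvd_of_le inf_le_left)))
      (Subgroup.le_centralizer_iff.1 (hP₀.trans hcen)) fun a ha => ?_
    rw [show x⁻¹ * a * x * a⁻¹ = x⁻¹ * (a * x * a⁻¹) by group]
    refine mem_inf.2 ⟨mul_mem (inv_mem hx) ((mem_normalizer_iff.1 (hUR ha) x).1 hx), ?_⟩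
    rcases F.mem_U.1 ha with e | e | e | e <;> subst e
    · simp
    · exact hmod.1 x hx
    · exact hmod.2 x hx
    · have h1 := hmod.2 x hx
      have h2 := hmod.1 (F.u * x * F.u⁻¹) ((mem_normalizer_iff.1 (hUR F.u_mem_U) x).1 hx)
      have := mul_mem h1 h2
      rwa [show x⁻¹ * (F.u * x * F.u⁻¹) * ((F.u * x * F.u⁻¹)⁻¹ * (F.t * (F.u * x * F.u⁻¹) * F.t⁻¹)) =
        x⁻¹ * (F.t * F.u * x * (F.t * F.u)⁻¹) by group] at this
  refine ⟨N ⊓ normalizer (P₀ : Set G), fun e => hNtop (top_le_iff.1 (e ▸ inf_le_left)),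
    F.fusing_inf_normalizer hm hNf hP₀K hP₀p hP₀s hP₀U, fun h => hP₀mov ?_, ?_⟩
  · exact (le_opc (le_inf (hP₀K.trans (core_le N)) le_normalizer) inf_le_right hP₀p).trans h
  · refine hlt.trans_le (le_of_eq ?_)
    set N' := N ⊓ normalizer (P₀ : Set G) with hN'
    have hN'N : N' ≤ normalizer (Core N : Set G) := inf_le_left.trans (le_normalizer_core N)
    have hsup : Core N ⊔ N' = N := by
      refine le_antisymm (sup_le (core_le N) inf_le_left) fun g hg => ?_
      have hle : P₀.map (MulAut.conj g).toMonoidHom ≤ Core N := by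
        rintro _ ⟨x, hx, rfl⟩
        exact (mem_normalizer_iff.1 (le_normalizer_core N hg) x).1 (hP₀K hx)
      let S₀ : Sylow p (Core N) := (hP₀p.comap_subtype (K := Core N)).toSylow hP₀s
      let S₁ : Sylow p (Core N) := Sylow.ofCard ((P₀.map (MulAut.conj g).toMonoidHom).subgroupOf (Core N)) (by
        rw [Nat.card_congr (subgroupOfEquivOfLe hle).toEquiv, card_map_of_injective (MulAut.conj g).injective,
          ← S₀.card_eq_multiplicity]
        exact (Nat.card_congr (subgroupOfEquivOfLe hP₀K).toEquiv).symm)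
      obtain ⟨c, hc⟩ := MulAction.exists_smul_eq (Core N) S₀ S₁
      have h2 := congrArg (fun S : Sylow p (Core N) => (S : Subgroup (Core N)).map (Core N).subtype) hc
      simp only [Cfsg.Lib.Coprime.map_subtype_smul, S₁, Sylow.coe_ofCard, map_subgroupOf_eq_of_le hle,
        show (S₀ : Subgroup (Core N)).map (Core N).subtype = P₀ from map_subgroupOf_eq_of_le hP₀K] at h2
      rw [← mul_inv_cancel_left (c : G) g]
      refine mul_mem_sup c.2 (mem_inf.2 ⟨mul_mem (inv_mem (core_le N c.2)) hg, ?_⟩)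
      rw [← Cfsg.Lib.Coprime.conjMap_eq_self_iff, ← Cfsg.Lib.Coprime.conjMap_mul,
        show Cfsg.Lib.Coprime.conjMap g P₀ = Cfsg.Lib.Coprime.conjMap (c : G) P₀ from h2.symm,
        Cfsg.Lib.Coprime.conjMap_inv_conjMap]
    have hcard := Cfsg.Lib.Coprime.card_sup_mul_card_inf hN'N
    rw [hsup] at hcard
    have hinf : (Nat.card ↥(Core N ⊓ N')).factorization p = (Nat.card (Core N)).factorization p := by
      have hle : P₀ ≤ Core N ⊓ N' := le_inf hP₀K (le_inf (hP₀K.trans (core_le N)) le_normalizer)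
      obtain ⟨b, hb⟩ := IsPGroup.iff_card.1 hP₀p
      have hbb : b = (Nat.card (Core N)).factorization p := by
        have h1 := ((hP₀p.comap_subtype (K := Core N)).toSylow hP₀s).card_eq_multiplicity
        have h3 : Nat.card P₀ = p ^ (Nat.card (Core N)).factorization p := by
          rw [← h1]; exact (Nat.card_congr (subgroupOfEquivOfLe hP₀K).toEquiv).symm
        exact Nat.pow_right_injective (Fact.out : p.Prime).two_le (hb.symm.trans h3)
      refine le_antisymm ((Nat.factorization_le_iff_dvd Nat.card_pos.ne' Nat.card_pos.ne').2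
        (card_dvd_of_le inf_le_left) p) ?_
      rw [← hbb]
      exact ((Fact.out : p.Prime).pow_dvd_iff_le_factorization Nat.card_pos.ne').1 (hb ▸ card_dvd_of_le hle)
    have h := congrArg (fun n => n.factorization p) hcard
    simp only [Nat.factorization_mul Nat.card_pos.ne' Nat.card_pos.ne', Finsupp.coe_add, Pi.add_apply,
      hinf] at h
    omega

/-- `Lc`: in a fusing proper subgroup `U` centralises the invariant `p`-subgroups of the odd core -/
theorem core_fixed_of (hm : Minimal G) (hNF : F.NonFusingSpec) (hOdd : F.OddSpec) {p : ℕ} (hp : p ≠ 2)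
    [Fact p.Prime] (hyp : F.NoZJ p) :
    ∀ H : Subgroup G, H ≠ ⊤ → F.Fusing H → ∀ P : Subgroup G, IsPGroup p P → P ≤ Core H →
      F.U ≤ normalizer (P : Set G) → P ≤ centralizer (F.U : Set G) := by
  intro H hH hf X hXp hX hXU
  have hmain : ∀ m, ∀ N : Subgroup G, N ≠ ⊤ → F.Fusing N → Nat.card G - (Nat.card N).factorization p = m →
      opc p N ≤ centralizer (F.U : Set G) := by
    intro m
    induction m using Nat.strong_induction_on with
    | _ m ih =>
    intro N hN hNf hcard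
    by_contra hmov
    obtain ⟨N', h1, h2, h3, h4⟩ := F.exists_bigger hm hNF hOdd hp hyp hN hNf hmov
    have h5 : (Nat.card N').factorization p ≤ Nat.card G :=
      le_trans (Nat.factorization_lt p Nat.card_pos.ne').le (card_le_card_group N')
    exact h3 (ih _ (by omega) N' h1 h2 rfl)
  obtain ⟨P, hXP, hPK, hPp, hPs, hPU⟩ := F.exists_sylow_over (odd_card_core H)
    (hf.1.trans (le_normalizer_core H)) hX hXp hXU
  exact hXP.trans ((le_opc (le_inf (hPK.trans (core_le H)) le_normalizer) inf_le_right hPp).trans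
    (hmain _ _ (fun e => hH (top_le_iff.1 (e ▸ inf_le_left)))
      (F.fusing_inf_normalizer hm hf hPK hPp hPs hPU) rfl))

end Frame

end Cfsg.Lib.GW
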