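import Cfsg.Agent.FourGroupGW.FamilyFacts

/-!
# The lower bound for the degree

A character of `G` which is not trivial at `z` and whose values on `t O` are a multiple of a
`z`-invariant function has degree at least `(p - 1) |C(t)| / (2 p²)`.
-/

set_option autoImplicit false
set_option linter.unusedSectionVars false
set_option linter.style.haveILetI false

namespace Cfsg.Lib.GW

open scoped ComplexConjugate
open Cfsg.Lib.Chars

universe u

variable {G : Type u} [Group G] [Finite G] [Fintype G]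

/-- Two norm two differences which are orthogonal meet any irreducible character with different
coefficients, unless both avoid it. -/
theorem coeff_eq_zero {χ : IrrCharacter G} {f f' : G → ℂ} {a b a' b' : IrrCharacter G}
    (hne : a ≠ b) (hne' : a' ≠ b') (hf : f = (a : G → ℂ) - b) (hf' : f' = (a' : G → ℂ) - b')
    (horth : Cfsg.classInner f f' = 0) (heq : Cfsg.classInner (χ : G → ℂ) f = Cfsg.classInner (χ : G → ℂ) f') :
    Cfsg.classInner (χ : G → ℂ) f = 0 := by
  classical
  subst hf hf'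
  simp only [classInner_sub_left, classInner_sub_right, classInner_irrCharacter] at horth heq ⊢
  by_cases h1 : χ = a
  · subst h1
    simp only [↓reduceIte, if_neg hne] at heq ⊢
    by_cases h2 : χ = a'
    · subst h2
      simp only [↓reduceIte, if_neg hne', if_neg hne.symm] at horth
      by_cases h3 : b = b'
      · subst h3; norm_num at horth
      · simp [if_neg h3] at horth
    · by_cases h3 : χ = b'
      · simp only [if_neg h2, if_pos h3] at heq; norm_num at heq
      · simp [if_neg h2, if_neg h3] at heq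
  · by_cases h1' : χ = b
    · subst h1'
      simp only [↓reduceIte, if_neg h1] at heq ⊢
      by_cases h2 : χ = b'
      · subst h2
        simp only [↓reduceIte, if_neg hne'.symm, if_neg hne] at horth
        by_cases h3 : a = a'
        · subst h3; norm_num at horth
        · simp [if_neg h3] at horth
      · by_cases h3 : χ = a'
        · simp only [if_neg h2, if_pos h3] at heq; norm_num at heq
        · simp [if_neg h2, if_neg h3] at heq
    · simp [if_neg h1, if_neg h1']

namespace FamilyData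

variable {t u z : G} {O K A : Subgroup G} {p : ℕ} (D : FamilyData t u O K A z p)
include D

theorem indFun_inner [Fintype (CT t)] {f g : CT t → ℂ} (hg : Cfsg.IsClassFunction (CT t) g)
    (hf0 : ∀ c : CT t, (c : G) ∉ Sp t O K A → f c = 0)
    (hg0 : ∀ c : CT t, (c : G) ∉ Sp t O K A → g c = 0) :
    Cfsg.classInner (Cfsg.indFun (CT t) f) (Cfsg.indFun (CT t) g) = Cfsg.classInner f g := by
  rw [frobenius_reciprocity _ _ (isClassFunction_indFun _ g), classInner_def, classInner_def]
  refine congrArg _ (Finset.sum_congr rfl fun c _ => ?_)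
  by_cases hc : (c : G) ∈ Sp t O K A
  · have hc1 : c ≠ 1 := by
      rintro rfl
      rcases hc with ⟨-, h | ⟨-, h⟩⟩ | h
      · exact h (one_mem K)
      · exact h rfl
      · exact D.t_not_mem (by simpa using h)
    rw [indFun_TI_apply' (CT t) (Sp t O K A) (fun g hg x hx hy =>
      absurd hy (D.ti (fun h => hg (D.mem_C.2 h)) hx)) hg hg0 c hc hc1]
  · rw [hf0 c hc, zero_mul, zero_mul]

/-- The sign character of `C(t)` with kernel `O⟨u⟩`. -/
theorem exists_sign : ∃ ε : CT t →* ℂˣ, (∀ c : CT t, (c : G) ∈ O → ε c = 1) ∧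
    (∀ c : CT t, t * (c : G) ∈ O → ε c = -1) ∧ ∀ c : CT t, (ε c : ℂ) = 1 ∨ (ε c : ℂ) = -1 := by
  classical
  have hu2 : ∀ x : G, x * u * u = x := fun x => by rw [mul_assoc, D.uu, mul_one]
  have hconj : ∀ x ∈ O, u * x * u ∈ O := fun x hx => by simpa [D.u_inv] using D.unorm x hx
  let S : Subgroup (CT t) :=
    { carrier := {c | (c : G) ∈ O ∨ (c : G) * u ∈ O}
      one_mem' := Or.inl (by simp)
      mul_mem' := by
        rintro a b (ha | ha) (hb | hb)
        · exact Or.inl (mul_mem ha hb)
        · exact Or.inr (by rw [Subgroup.coe_mul, mul_assoc]; exact mul_mem ha hb)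
        · refine Or.inr ?_
          have := mul_mem ha (hconj _ hb)
          rwa [show (a : G) * u * (u * b * u) = (a : G) * (u * u) * b * u by group, D.uu, mul_one] at this
        · refine Or.inl ?_
          have := mul_mem ha (hconj _ hb)
          rwa [show (a : G) * u * (u * ((b : G) * u) * u) = (a : G) * (u * u) * b * (u * u) by group,
            D.uu, mul_one, mul_one] at this
      inv_mem' := by
        rintro a (ha | ha)
        · exact Or.inl (inv_mem ha)
        · refine Or.inr ?_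
          have := hconj _ (inv_mem ha)
          rwa [show u * ((a : G) * u)⁻¹ * u = u * u⁻¹ * (a : G)⁻¹ * u by group, mul_inv_cancel,
            one_mul] at this }
  have hmemS : ∀ c : CT t, c ∈ S ↔ (c : G) ∈ O ∨ (c : G) * u ∈ O := fun c => Iff.rfl
  have htS : ∀ c : CT t, t * (c : G) ∈ O → c ∉ S := by
    intro c hc hcS
    rcases (hmemS c).1 hcS with h | h
    · exact D.t_not_mem (by simpa using mul_mem hc (inv_mem h))
    · have h1 : t * u ∈ O := by
        have := mul_mem (mul_mem (inv_mem hc) (inv_mem hc)) (mul_mem hc h)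
        have h2 : (t * (c : G))⁻¹ * ((c : G) * u) = (t * u) := by
          rw [mul_inv_rev, D.t_inv, show (c : G)⁻¹ * t * ((c : G) * u) = (c : G)⁻¹ * (t * c) * u by group,
            ← D.mem_C.1 c.2, inv_mul_cancel_left]
        exact h2 ▸ mul_mem (inv_mem hc) h
      have := D.eq_one_of_sq h1 (by
        rw [mul_assoc, ← mul_assoc u t u, ← D.tu, mul_assoc t u u, D.uu, mul_one, D.tt])
      exact D.tnu (by rw [eq_inv_of_mul_eq_one_left this, D.u_inv])
  have hidx : S.index = 2 := by
    rw [Subgroup.index_eq_two_iff']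
    refine ⟨⟨t, D.t_mem_C⟩, fun b => ?_⟩
    rcases D.cover b (D.mem_C.1 b.2) with h | h | h | h
    · refine Or.inr ⟨(hmemS b).2 (Or.inl h), htS _ ?_⟩
      show t * (t * (b : G)) ∈ O
      rwa [← mul_assoc, D.tt, one_mul]
    · rw [D.mem_C.1 b.2] at h
      exact Or.inl ⟨(hmemS _).2 (Or.inl h), htS _ h⟩
    · refine Or.inr ⟨(hmemS b).2 (Or.inr h), fun hm => ?_⟩
      have := mul_mem hm (inv_mem ((hmemS b).2 (Or.inr h)))
      rw [mul_inv_cancel_right] at this
      exact htS ⟨t, D.t_mem_C⟩ (by simp [D.tt]) this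
    · refine Or.inl ⟨(hmemS _).2 (Or.inr ?_), fun hm => ?_⟩
      · show t * (b : G) * u ∈ O
        rw [← D.mem_C.1 b.2, mul_assoc]; exact h
      · have h' : (⟨t, D.t_mem_C⟩ * b : CT t) ∈ S := (hmemS _).2 (Or.inr (by
          show t * (b : G) * u ∈ O
          rw [← D.mem_C.1 b.2, mul_assoc]; exact h))
        have := mul_mem h' (inv_mem hm)
        rw [mul_inv_cancel_right] at this
        exact htS ⟨t, D.t_mem_C⟩ (by simp [D.tt]) this
  refine ⟨{ toFun := fun c => if c ∈ S then 1 else -1
            map_one' := if_pos (one_mem _)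
            map_mul' := fun a b => by
              have h := Subgroup.mul_mem_iff_of_index_two hidx (a := a) (b := b)
              by_cases ha : a ∈ S <;> by_cases hb : b ∈ S <;> simp [ha, hb, h] },
    fun c hc => if_pos ((hmemS c).2 (Or.inl hc)), fun c hc => if_neg (htS c hc), fun c => ?_⟩
  show ((if c ∈ S then (1 : ℂˣ) else -1 : ℂˣ) : ℂ) = 1 ∨ _
  by_cases h : c ∈ S
  · left; rw [if_pos h]; simp
  · right
    show ((if c ∈ S then (1 : ℂˣ) else -1 : ℂˣ) : ℂ) = -1
    rw [if_neg h]; simp

/-- A conjugate of `z` under `C(t)` is `z` or `z⁻¹`. -/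
theorem conj_z (g : CT t) : (g : G) * z * (g : G)⁻¹ = z ∨ (g : G) * z * (g : G)⁻¹ = z⁻¹ := by
  have hzz : ∀ o ∈ O, o * z * o⁻¹ = z := fun o ho => by
    rw [← D.acent z D.zA o ho, mul_inv_cancel_right]
  have hzz' : ∀ o ∈ O, o * z⁻¹ * o⁻¹ = z⁻¹ := fun o ho => by
    rw [← D.acent z⁻¹ (inv_mem D.zA) o ho, mul_inv_cancel_right]
  have huz : u * z * u⁻¹ = z⁻¹ := D.ainv z D.zA
  have htz : t * z * t⁻¹ = z := by rw [D.tcent z D.z_mem_O, mul_inv_cancel_right]
  rcases D.cover g (D.mem_C.1 g.2) with h | h | h | h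
  · exact Or.inl (hzz _ h)
  · left
    rw [show (g : G) * z * (g : G)⁻¹ = (g * t) * (t⁻¹ * z * t) * ((g : G) * t)⁻¹ by group,
      show t⁻¹ * z * t = z by rw [D.t_inv]; simpa [D.t_inv] using htz, hzz _ h]
  · right
    rw [show (g : G) * z * (g : G)⁻¹ = (g * u) * (u⁻¹ * z * u) * ((g : G) * u)⁻¹ by group,
      show u⁻¹ * z * u = z⁻¹ by rw [D.u_inv]; simpa [D.u_inv] using huz, hzz' _ h]
  · right
    rw [show (g : G) * z * (g : G)⁻¹ =
        (g * (t * u)) * (u⁻¹ * (t⁻¹ * z * t) * u) * ((g : G) * (t * u))⁻¹ by group,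
      show t⁻¹ * z * t = z by rw [D.t_inv]; simpa [D.t_inv] using htz,
      show u⁻¹ * z * u = z⁻¹ by rw [D.u_inv]; simpa [D.u_inv] using huz, hzz' _ h]

/-- A character of `C(t)` which is not trivial at `z` sums to zero on the cosets of `⟨z⟩` in `O`. -/
theorem sum_coset_eq_zero [Fintype (CT t)] {φ : CT t → ℂ} (hφ : Cfsg.IsIrrCharacter (CT t) φ)
    [Fintype (Subgroup.zpowers (⟨z, D.O_le_C D.z_mem_O⟩ : CT t))]
    (hz : φ ⟨z, D.O_le_C D.z_mem_O⟩ ≠ φ 1) (w : O.subgroupOf (CT t)) :
    ∑ x : Subgroup.zpowers (⟨z, D.O_le_C D.z_mem_O⟩ : CT t), φ ((x : CT t) * (w : CT t)) = 0 := by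
  classical
  haveI : (O.subgroupOf (CT t)).Normal := D.normal_O
  revert w
  set O' := O.subgroupOf (CT t)
  set zC : CT t := ⟨z, D.O_le_C D.z_mem_O⟩
  set Z := Subgroup.zpowers zC
  intro w
  have hzO : zC ∈ O' := Subgroup.mem_subgroupOf.2 D.z_mem_O
  have hle : Z ≤ O' := (Subgroup.zpowers_le).2 hzO
  set zO : O' := ⟨zC, hzO⟩
  have hcen : ∀ x : Z, (⟨x, hle x.2⟩ : O') ∈ Subgroup.center O' := by
    intro x
    have hz' : zO ∈ Subgroup.center O' := Subgroup.mem_center_iff.2 fun y => by
      refine Subtype.ext (Subtype.ext ?_)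
      exact (D.acent z D.zA _ (Subgroup.mem_subgroupOf.1 y.2)).symm
    obtain ⟨i, hi⟩ := Subgroup.mem_zpowers_iff.1 x.2
    rw [show (⟨x, hle x.2⟩ : O') = zO ^ i from Subtype.ext (by simpa using hi.symm)]
    exact zpow_mem hz' i
  obtain ⟨n, hn⟩ := IsCharacter.exists_decomp (IsCharacter.restrict (isCharacter_of_irr hφ) O')
  have hexp : ∑ x : Z, φ ((x : CT t) * w) =
      ∑ ψ : IrrCharacter O', (n ψ : ℂ) * ∑ x : Z, (ψ : O' → ℂ) (⟨x, hle x.2⟩ * w) := by
    simp only [Finset.mul_sum]
    rw [Finset.sum_comm]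
    refine Finset.sum_congr rfl fun x _ => ?_
    have := congrFun hn (⟨x, hle x.2⟩ * w)
    simpa [Finset.sum_apply] using this
  refine Eq.trans (Finset.sum_congr (by ext; simp) fun _ _ => rfl) (hexp.trans ?_)
  refine Finset.sum_eq_zero fun ψ _ => ?_
  by_cases h0 : n ψ = 0
  · simp [h0]
  refine mul_eq_zero_of_right _ ?_
  have hne : (ψ : O' → ℂ) zO ≠ (ψ : O' → ℂ) 1 := by
    intro heq
    refine hz ?_
    have hc : Cfsg.classInner (fun x : O' => φ x) (ψ : O' → ℂ) ≠ 0 := by
      rw [hn]; simp only [← Nat.cast_smul_eq_nsmul ℂ]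
      rw [classInner_irrSum (fun ψ => (n ψ : ℂ)) ψ]; exact_mod_cast h0
    have h := clifford O' hφ ψ.2 hc
    have hz' : ∀ f ∈ conjOrbit O' (ψ : O' → ℂ), f zO = f 1 := by
      intro f hf
      obtain ⟨g, rfl⟩ := (mem_conjOrbit O').1 hf
      show (ψ : O' → ℂ) _ = (ψ : O' → ℂ) _
      have h1 : (⟨g * ((1 : O') : CT t) * g⁻¹,
          Subgroup.Normal.conj_mem inferInstance _ (1 : O').2 g⟩ : O') = 1 :=
        Subtype.ext (by simp)
      rw [h1]
      have hz0 : zO ∈ kerSubgroup (ψ : O' → ℂ) (isCharacter_of_irr ψ.2) :=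
        (mem_kerSubgroup _ _).2 heq
      refine (mem_kerSubgroup (isCharacter_of_irr ψ.2) _).1 ?_
      rcases D.conj_z g with hk | hk
      · convert hz0 using 1; exact Subtype.ext (Subtype.ext hk)
      · convert inv_mem hz0 using 1; exact Subtype.ext (Subtype.ext hk)
    have e1 := congrFun h zO
    have e2 := congrFun h 1
    simp only [Pi.smul_apply, Finset.sum_apply] at e1 e2
    rw [Finset.sum_congr rfl hz'] at e1
    exact e1.trans e2.symm
  set T := ∑ x : Z, (ψ : O' → ℂ) (⟨x, hle x.2⟩ * w)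
  have h1 : (ψ : O' → ℂ) 1 * T = (ψ : O' → ℂ) zO * T := by
    calc (ψ : O' → ℂ) 1 * T
        = ∑ x : Z, (ψ : O' → ℂ) 1 *
            (ψ : O' → ℂ) (⟨zC * x, hle (mul_mem (Subgroup.mem_zpowers zC) x.2)⟩ * w) := by
          rw [Finset.mul_sum]
          exact (Fintype.sum_equiv (Equiv.mulLeft (⟨zC, Subgroup.mem_zpowers zC⟩ : Z)) _ _
            fun x => rfl).symm
      _ = _ := by
          rw [Finset.mul_sum]
          refine Finset.sum_congr rfl fun x _ => ?_
          rw [mul_comm, show (⟨zC * x, hle (mul_mem (Subgroup.mem_zpowers zC) x.2)⟩ : O') * w =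
            zO * (⟨x, hle x.2⟩ * w) from Subtype.ext (mul_assoc _ _ _)]
          exact center_mul_of_irr ψ.2 (hcen ⟨zC, Subgroup.mem_zpowers zC⟩) _
  exact (mul_eq_zero.1 (by linear_combination h1 :
    ((ψ : O' → ℂ) 1 - (ψ : O' → ℂ) zO) * T = 0)).resolve_left (sub_ne_zero.2 hne.symm)

/-- The bound. -/
theorem degree_bound {χ : G → ℂ} (hχ : Cfsg.IsIrrCharacter G χ) {θ : G → ℂ} {d : ℂ}
    (hval : ∀ y ∈ O, χ (t * y) = d * θ y) (hθ : ∀ y ∈ O, θ (z * y) = θ y) (hz : χ z ≠ χ 1) :
    (p - 1) * Nat.card (CT t) ≤ 2 * p ^ 2 * deg χ := by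
  classical
  haveI : Fact p.Prime := ⟨D.hp⟩
  haveI : (O.subgroupOf (CT t)).Normal := D.normal_O
  set zC : CT t := ⟨z, D.O_le_C D.z_mem_O⟩ with hzC
  set tC : CT t := ⟨t, D.t_mem_C⟩ with htC
  set O' := O.subgroupOf (CT t) with hO'
  have hzCp : zC ^ p = 1 := Subtype.ext D.zp
  have hzC1 : zC ≠ 1 := fun h => D.z1 (congrArg Subtype.val h)
  set S0 : Finset (IrrCharacter (CT t)) :=
    Finset.univ.filter fun φ => (φ : CT t → ℂ) zC ≠ (φ : CT t → ℂ) 1 with hS0
  have hfacts : ∀ φ ∈ S0, Facts t z O K A p (φ : CT t → ℂ) := fun φ hφ =>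
    D.facts φ.2 (Finset.mem_filter.1 hφ).2
  -- the multiplicities
  set res : CT t → ℂ := fun c => χ c
  have hres : Cfsg.IsCharacter (CT t) res := IsCharacter.restrict (isCharacter_of_irr hχ) _
  obtain ⟨m, hm⟩ := IsCharacter.exists_decomp hres
  have hinner : ∀ φ : IrrCharacter (CT t), Cfsg.classInner res (φ : CT t → ℂ) = m φ := by
    intro φ
    rw [hm]
    simp only [← Nat.cast_smul_eq_nsmul ℂ]
    exact classInner_irrSum (fun ψ => (m ψ : ℂ)) φ
  -- sums over `⟨z⟩`
  set Z := Subgroup.zpowers zC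
  have hZn : ∀ φ ∈ S0, ∑ x : Z, (φ : CT t → ℂ) x = 0 := by
    intro φ hφ
    have h := D.sum_coset_eq_zero φ.2 (Finset.mem_filter.1 hφ).2 1
    simpa only [OneMemClass.coe_one, mul_one] using h
  have hkey : ∀ φ ∈ S0, ∀ φ' ∈ S0, m φ = m φ' := by
    obtain ⟨ε, hε1, hεt, hε2⟩ := D.exists_sign
    let tw : IrrCharacter (CT t) → IrrCharacter (CT t) := fun φ =>
      ⟨fun c => (ε c : ℂ) * (φ : CT t → ℂ) c, IsIrrCharacter.mul_linear φ.2 ε⟩
    have htw : ∀ φ ∈ S0, tw φ ∈ S0 := by
      intro φ hφ
      refine Finset.mem_filter.2 ⟨Finset.mem_univ _, ?_⟩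
      show (ε zC : ℂ) * _ ≠ (ε 1 : ℂ) * _
      rw [hε1 zC D.z_mem_O, map_one, Units.val_one, one_mul, one_mul]
      exact (Finset.mem_filter.1 hφ).2
    have htC_cent : tC ∈ Subgroup.center (CT t) := Subgroup.mem_center_iff.2 fun x =>
      Subtype.ext (D.mem_C.1 x.2)
    have hmtw : ∀ φ ∈ S0, m (tw φ) = m φ := by
      intro φ hφ
      have F := hfacts φ hφ
      have h : Cfsg.classInner res (tw φ : CT t → ℂ) = Cfsg.classInner res (φ : CT t → ℂ) := by
        rw [← sub_eq_zero, ← classInner_sub_right, classInner_def]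
        refine mul_eq_zero_of_right _ ?_
        set φt := (φ : CT t → ℂ) tC
        have hsplit : ∀ c : CT t, res c * conj (((tw φ : CT t → ℂ) - (φ : CT t → ℂ)) c) =
            if t * (c : G) ∈ O then res c * conj (-2 * (φ : CT t → ℂ) c) else 0 := by
          intro c
          show _ * conj ((ε c : ℂ) * (φ : CT t → ℂ) c - (φ : CT t → ℂ) c) = _
          split_ifs with hc
          · rw [hεt c hc, Units.val_neg, Units.val_one]; ring_nf
          · by_cases hcO : (c : G) ∈ O
            · rw [hε1 c hcO, Units.val_one, one_mul, sub_self, map_zero, mul_zero]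
            · rw [F.vanish_out c hcO hc]; simp
        rw [Finset.sum_congr rfl fun c _ => hsplit c, ← Finset.sum_filter]
        rw [Finset.sum_nbij' (t := (Finset.univ.filter fun c : CT t => (c : G) ∈ O))
          (g := fun c => res (tC * c) * conj (-2 * (φ : CT t → ℂ) (tC * c)))
          (fun c => tC * c) (fun c => tC * c)
          (fun c hc => by simpa [htC] using hc)
          (fun c hc => by simpa [htC, ← mul_assoc, D.tt] using hc)
          (fun c _ => Subtype.ext (by simp [htC, ← mul_assoc, D.tt]))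
          (fun c _ => Subtype.ext (by simp [htC, ← mul_assoc, D.tt]))
          (fun c _ => by
            have e : tC * (tC * c) = c := Subtype.ext (by simp [htC, ← mul_assoc, D.tt])
            simp only [e])]
        set SO := Finset.univ.filter fun c : CT t => (c : G) ∈ O with hSO
        have hφ1 : (φ : CT t → ℂ) 1 ≠ 0 := IsIrrCharacter.apply_one_ne_zero φ.2
        have hform : ∀ c ∈ SO, res (tC * c) * conj (-2 * (φ : CT t → ℂ) (tC * c)) =
            (d * conj (-2 * φt / (φ : CT t → ℂ) 1)) * (θ c * conj ((φ : CT t → ℂ) c)) := by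
          intro c hc
          have e1 : res (tC * c) = d * θ c := hval c (Finset.mem_filter.1 hc).2
          have e2 : (φ : CT t → ℂ) (tC * c) = φt * (φ : CT t → ℂ) c / (φ : CT t → ℂ) 1 := by
            rw [eq_div_iff hφ1]; exact center_mul_of_irr φ.2 htC_cent c
          rw [e1, e2]
          simp only [map_mul, map_div₀]
          ring
        rw [Finset.sum_congr rfl hform, ← Finset.mul_sum]
        refine mul_eq_zero_of_right _ ?_
        have hshift : ∀ x : Z, ∑ c ∈ SO, θ c * conj ((φ : CT t → ℂ) c) =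
            ∑ c ∈ SO, θ c * conj ((φ : CT t → ℂ) ((x : CT t) * c)) := by
          intro x
          have hx : ((x : CT t) : G) ∈ O := by
            obtain ⟨i, hi⟩ := Subgroup.mem_zpowers_iff.1 x.2
            rw [← hi]; simpa [hzC] using zpow_mem D.z_mem_O i
          have hθx : ∀ y ∈ O, θ (((x : CT t) : G) * y) = θ y := by
            obtain ⟨i, hi⟩ := mem_powers_iff_mem_zpowers.2 x.2
            have hi' : zC ^ i = (x : CT t) := hi
            rw [← hi']
            clear hi hi' hx
            induction i with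
            | zero => intro y _; simp
            | succ i ih =>
              intro y hy
              rw [pow_succ', Subgroup.coe_mul, mul_assoc]
              show θ (z * _) = _
              rw [hθ _ (mul_mem (by simpa [hzC] using pow_mem D.z_mem_O i) hy), ih y hy]
          refine Finset.sum_nbij' (fun c => (x : CT t)⁻¹ * c) (fun c => (x : CT t) * c) ?_ ?_ ?_ ?_ ?_
          · intro c hc
            simp [hSO] at hc ⊢
            exact mul_mem (inv_mem hx) hc
          · intro c hc
            simp [hSO] at hc ⊢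
            exact mul_mem hx hc
          · intro c _; simp
          · intro c _; simp
          · intro c hc
            simp only [hSO, Finset.mem_filter, Finset.mem_univ, true_and] at hc
            have h2 := hθx _ (mul_mem (inv_mem hx) hc)
            rw [mul_inv_cancel_left] at h2
            show _ = θ (((x : CT t)⁻¹ * c : CT t) : G) * _
            rw [mul_inv_cancel_left, Subgroup.coe_mul, Subgroup.coe_inv, ← h2]
        have hsum : ∑ x : Z, ∑ c ∈ SO, θ c * conj ((φ : CT t → ℂ) ((x : CT t) * c)) = 0 := by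
          rw [Finset.sum_comm]
          refine Finset.sum_eq_zero fun c hc => ?_
          rw [← Finset.mul_sum, ← map_sum]
          refine mul_eq_zero_of_right _ ?_
          rw [map_eq_zero]
          exact D.sum_coset_eq_zero φ.2 (Finset.mem_filter.1 hφ).2
            ⟨c, Subgroup.mem_subgroupOf.2 (Finset.mem_filter.1 hc).2⟩
        rw [← Finset.sum_congr rfl fun x _ => hshift x, Finset.sum_const, nsmul_eq_mul] at hsum
        exact (mul_eq_zero.1 hsum).resolve_left (by simp [Fintype.card_ne_zero])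
      rw [hinner, hinner] at h
      exact_mod_cast h
    intro φ hφ φ' hφ'
    by_cases h1 : φ = φ'
    · rw [h1]
    by_cases h2 : tw φ = φ'
    · rw [← h2, hmtw φ hφ]
    by_cases h2' : tw φ' = φ
    · rw [← h2', hmtw φ' hφ']
    have hvan : ∀ a ∈ S0, ∀ b ∈ S0, ∀ c : CT t, (c : G) ∉ Sp t O K A →
        ((a : CT t → ℂ) - (b : CT t → ℂ)) c = 0 := by
      intro a ha b hb c hc
      have Fa := hfacts a ha
      have Fb := hfacts b hb
      by_cases hcO : (c : G) ∈ O
      · by_cases hcK : (c : G) ∈ K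
        · by_cases hcA : (c : G) ∈ A
          · have hc1 : c = 1 := by
              by_contra h
              exact hc (Or.inl ⟨hcO, Or.inr ⟨hcA, fun h' => h (Subtype.ext h')⟩⟩)
            rw [hc1, Pi.sub_apply, Fa.deg, Fb.deg, sub_self]
          · rw [Pi.sub_apply, Fa.vanish_K c hcK hcA, Fb.vanish_K c hcK hcA, sub_self]
        · exact absurd (Or.inl ⟨hcO, Or.inl hcK⟩) hc
      · have hct : t * (c : G) ∉ O := fun h => hc (Or.inr h)
        rw [Pi.sub_apply, Fa.vanish_out c hcO hct, Fb.vanish_out c hcO hct, sub_self]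
    have hcf : ∀ a b : IrrCharacter (CT t),
        Cfsg.IsClassFunction (CT t) ((a : CT t → ℂ) - (b : CT t → ℂ)) := fun a b x y => by
      simp only [Pi.sub_apply, isClassFunction_irr a x y, isClassFunction_irr b x y]
    have hpair : ∀ a ∈ S0, ∀ b ∈ S0, a ≠ b → ∃ μ ν : IrrCharacter G, μ ≠ ν ∧
        Cfsg.indFun (CT t) ((a : CT t → ℂ) - (b : CT t → ℂ)) = (μ : G → ℂ) - ν := by
      intro a ha b hb hab
      refine exists_sub_of_norm_two (IsGeneralizedCharacter.indFun
        ⟨_, _, isCharacter_of_irr a.2, isCharacter_of_irr b.2, rfl⟩) ?_ ?_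
      · rw [D.indFun_inner (hcf a b) (hvan a ha b hb) (hvan a ha b hb)]
        simp only [classInner_sub_left, classInner_sub_right, classInner_irrCharacter, if_pos,
          if_neg hab, if_neg hab.symm]
        norm_num
      · rw [indFun_one, Pi.sub_apply, (hfacts a ha).deg, (hfacts b hb).deg, sub_self, mul_zero]
    have htw2 : ∀ a, tw (tw a) = a := fun a => by
      refine Subtype.ext (funext fun c => ?_)
      show (ε c : ℂ) * ((ε c : ℂ) * _) = _
      rcases hε2 c with h | h <;> rw [h] <;> ring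
    have h3 : tw φ ≠ tw φ' := fun h => h1 (by rw [← htw2 φ, h, htw2])
    obtain ⟨μ, ν, hμν, e⟩ := hpair φ hφ φ' hφ' h1
    obtain ⟨μ', ν', hμν', e'⟩ := hpair (tw φ) (htw φ hφ) (tw φ') (htw φ' hφ') h3
    have htwne : ∀ a ∈ S0, a ≠ tw a := by
      intro a ha h
      have := congrFun (congrArg Subtype.val h) tC
      rw [show ((tw a : IrrCharacter (CT t)) : CT t → ℂ) tC = (ε tC : ℂ) * (a : CT t → ℂ) tC from rfl,
        hεt tC (by simp [htC, D.tt]), Units.val_neg, Units.val_one, neg_one_mul, eq_neg_iff_add_eq_zero,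
        ← two_mul, mul_eq_zero] at this
      have hne := mul_conj_center a.2 htC_cent
      rw [this.resolve_left two_ne_zero, zero_mul] at hne
      exact IsIrrCharacter.apply_one_ne_zero a.2 (mul_self_eq_zero.1 hne.symm)
    have hr : ∀ a b : IrrCharacter (CT t), Cfsg.classInner χ
        (Cfsg.indFun (CT t) ((a : CT t → ℂ) - (b : CT t → ℂ))) = (m a : ℂ) - m b := fun a b => by
      rw [frobenius_reciprocity' _ _ (isClassFunction_isChar (isCharacter_of_irr hχ)),
        classInner_sub_right, hinner, hinner]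
    have h0 := coeff_eq_zero (χ := ⟨χ, hχ⟩) hμν hμν' e e' (by
      rw [D.indFun_inner (hcf _ _) (hvan φ hφ φ' hφ') (hvan _ (htw φ hφ) _ (htw φ' hφ'))]
      simp only [classInner_sub_left, classInner_sub_right, classInner_irrCharacter,
        if_neg (htwne φ hφ), if_neg (htwne φ' hφ'), if_neg (fun h : φ = tw φ' => h2' h.symm),
        if_neg (fun h : φ' = tw φ => h2 h.symm)]
      norm_num) (by
      show Cfsg.classInner χ _ = Cfsg.classInner χ _
      rw [hr, hr, hmtw φ hφ, hmtw φ' hφ'])
    rw [hr] at h0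
    exact_mod_cast sub_eq_zero.1 h0
  -- some constituent is not trivial at `z`
  have hpos : ∀ φ ∈ S0, 1 ≤ m φ := by
    obtain ⟨φ₀, hφ₀, hm0⟩ : ∃ φ ∈ S0, m φ ≠ 0 := by
      by_contra h
      push Not at h
      refine hz ?_
      have e1 := congrFun hm zC
      have e2 := congrFun hm 1
      simp only [Finset.sum_apply, Pi.smul_apply, res] at e1 e2
      rw [show χ z = χ ((zC : CT t) : G) from rfl, e1, show χ 1 = χ ((1 : CT t) : G) from rfl, e2]
      refine Finset.sum_congr rfl fun φ _ => ?_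
      by_cases hφ : φ ∈ S0
      · simp [h φ hφ]
      · rw [not_not.1 fun h' => hφ (Finset.mem_filter.2 ⟨Finset.mem_univ _, h'⟩)]
    intro φ hφ
    rw [hkey φ hφ φ₀ hφ₀]
    exact Nat.one_le_iff_ne_zero.2 hm0
  -- the counting
  have hcount : p * ∑ φ ∈ S0, deg (φ : CT t → ℂ) ^ 2 = (p - 1) * Nat.card (CT t) := by
    have hZcard : Fintype.card Z = p := by
      rw [← Nat.card_eq_fintype_card, Nat.card_zpowers, orderOf_eq_prime hzCp hzC1]
    have h1 : ∑ φ : IrrCharacter (CT t), (φ : CT t → ℂ) 1 * ∑ x : Z, (φ : CT t → ℂ) x =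
        (Nat.card (CT t) : ℂ) := by
      simp only [Finset.mul_sum]
      rw [Finset.sum_comm, Finset.sum_congr rfl fun (x : Z) _ => sum_deg_mul (x : CT t)]
      rw [Finset.sum_eq_single (1 : Z)]
      · exact if_pos rfl
      · exact fun x _ hx => if_neg (fun h => hx (Subtype.ext h))
      · exact fun h => absurd (Finset.mem_univ _) h
    have h2 : ∀ φ ∉ S0, ∑ x : Z, (φ : CT t → ℂ) x = (p : ℂ) * (φ : CT t → ℂ) 1 := by
      intro φ hφ
      have hker : zC ∈ kerSubgroup (φ : CT t → ℂ) (isCharacter_of_irr φ.2) :=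
        (mem_kerSubgroup _ _).2 (not_not.1 fun h' => hφ (Finset.mem_filter.2 ⟨Finset.mem_univ _, h'⟩))
      rw [Finset.sum_congr rfl fun (x : Z) _ =>
          (mem_kerSubgroup _ _).1 ((Subgroup.zpowers_le.2 hker) x.2),
        Finset.sum_const, Finset.card_univ, hZcard, nsmul_eq_mul]
    rw [← Finset.sum_add_sum_compl S0, Finset.sum_eq_zero fun φ hφ => by rw [hZn φ hφ, mul_zero],
      zero_add, Finset.sum_congr rfl fun φ hφ => by rw [h2 φ (Finset.mem_compl.1 hφ)]] at h1
    have h3 : p * ∑ φ ∈ S0ᶜ, deg (φ : CT t → ℂ) ^ 2 = Nat.card (CT t) := by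
      apply Nat.cast_injective (R := ℂ)
      rw [← h1]
      push_cast
      rw [Finset.mul_sum]
      refine Finset.sum_congr rfl fun φ _ => ?_
      rw [irr_apply_one_eq_deg]; ring
    have h4 := sum_deg_sq_nat (G := CT t)
    rw [← Finset.sum_add_sum_compl S0] at h4
    obtain ⟨q, hq⟩ := Nat.exists_eq_add_of_le D.hp.one_lt.le
    rw [hq, Nat.add_sub_cancel_left]
    rw [hq] at h3
    nlinarith [h3, h4]
  have hdeg : ∀ φ ∈ S0, deg (φ : CT t → ℂ) = 2 * p := fun φ hφ => by
    apply Nat.cast_injective (R := ℂ)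
    rw [← irr_apply_one_eq_deg, (hfacts φ hφ).deg]; push_cast; rfl
  rw [Finset.sum_congr rfl (g := fun _ => (2 * p) ^ 2) fun φ hφ => by rw [hdeg φ hφ],
    Finset.sum_const, smul_eq_mul] at hcount
  have hlow : S0.card * (2 * p) ≤ deg χ := by
    have h : deg χ = ∑ φ : IrrCharacter (CT t), m φ * deg (φ : CT t → ℂ) := by
      apply Nat.cast_injective (R := ℂ)
      rw [← IsCharacter.apply_one_eq_deg (isCharacter_of_irr hχ),
        show χ 1 = res 1 from rfl, hm]
      simp [Finset.sum_apply, irr_apply_one_eq_deg]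
    rw [h]
    refine le_trans ?_ (Finset.sum_le_univ_sum_of_nonneg (s := S0) fun _ => Nat.zero_le _)
    rw [← smul_eq_mul S0.card, ← Finset.sum_const]
    refine Finset.sum_le_sum fun φ hφ => ?_
    rw [hdeg φ hφ]
    exact Nat.le_mul_of_pos_left _ (hpos φ hφ)
  calc (p - 1) * Nat.card (CT t) = p * (S0.card * (2 * p) ^ 2) := hcount.symm
    _ = 2 * p ^ 2 * (S0.card * (2 * p)) := by ring
    _ ≤ _ := Nat.mul_le_mul_left _ hlow

end FamilyData

end Cfsg.Lib.GW
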