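import Cfsg.Agent.FourGroupGW.Coprime
import Cfsg.Agent.GenDihedral.Four.L2TopOrd
import Cfsg.Agent.Components.Structure
import Cfsg.Agent.S0251

/-!
Gorenstein–Walter, four-group case, piece B: the structure of the proper subgroups containing the four-group, and the
facts about their tops `PSL₂(q)` extended by a group of odd order.
-/

set_option autoImplicit false
set_option linter.unusedSectionVars false
set_option linter.style.haveILetI false

namespace Cfsg.Lib.GW

open Subgroup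
open scoped Pointwise
open Cfsg.Lib.GenDihedral (IsFour isFour_of_comm mul_self_of_two inv_of_two conj_fix_iff mem_of_sq)
open Cfsg.Lib.FourGW (tor torT spreadQ)

universe u

variable {G : Type u} [Group G] [Finite G]

/-- The map to the quotient by the odd core. -/
abbrev qmap (H : Subgroup G) : H →* H ⧸ Cfsg.oddCore H := QuotientGroup.mk' (Cfsg.oddCore H)

theorem qmap_eq_one {H : Subgroup G} {x : H} : qmap H x = 1 ↔ (x : G) ∈ Core H := by
  rw [qmap, QuotientGroup.mk'_apply, QuotientGroup.eq_one_iff]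
  exact ⟨fun h => ⟨x, h, rfl⟩, fun ⟨y, hy, e⟩ => (Subtype.ext e : y = x) ▸ hy⟩

theorem qmap_eq {H : Subgroup G} {x y : H} : qmap H x = qmap H y ↔ (x : G)⁻¹ * y ∈ Core H := by
  rw [← inv_mul_eq_one, ← map_inv, ← map_mul, qmap_eq_one]
  rfl

theorem card_image {H S : Subgroup G} (hS : S ≤ H) :
    Nat.card S = Nat.card ↥(S ⊓ Core H) * Nat.card ↥((S.subgroupOf H).map (qmap H)) := by
  rw [← Nat.card_congr (subgroupOfEquivOfLe hS).toEquiv,
    card_eq_card_quotient_mul_card_subgroup ((qmap H).subgroupMap (S.subgroupOf H)).ker,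
    Nat.card_congr (QuotientGroup.quotientKerEquivOfSurjective _
      ((qmap H).subgroupMap_surjective (S.subgroupOf H))).toEquiv, mul_comm]
  congr 1
  refine Nat.card_congr ⟨fun x => ⟨((x : S.subgroupOf H) : H), mem_subgroupOf.1 x.1.2,
    qmap_eq_one.1 (congrArg Subtype.val x.2)⟩,
    fun y => ⟨⟨⟨y, hS y.2.1⟩, mem_subgroupOf.2 y.2.1⟩, Subtype.ext (qmap_eq_one.2 y.2.2)⟩,
    fun _ => rfl, fun _ => rfl⟩

/-- Two involutions congruent modulo a normalised subgroup of odd order are conjugate under it. -/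
theorem exists_conj_of_cong {N : Subgroup G} (hN : Odd (Nat.card N)) {a b : G} (ha : a * a = 1) (hb : b * b = 1)
    (h : a * b ∈ N) : ∃ x ∈ N, x⁻¹ * a * x = b := by
  obtain ⟨k, hk⟩ := Frame.odd_orderOf hN h
  refine ⟨(a * b) ^ (k + 1), pow_mem h _, ?_⟩
  have hx : (a * b) ^ (k + 1) * (a * b) ^ (k + 1) = a * b := by
    rw [← pow_add, show k + 1 + (k + 1) = orderOf (a * b) + 1 by omega, pow_succ, pow_orderOf_eq_one, one_mul]
  set x := (a * b) ^ (k + 1) with hxd
  have hinv : a * x * a⁻¹ = x⁻¹ := by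
    rw [hxd, ← conj_pow, ← inv_pow, inv_eq_of_mul_eq_one_right ha, mul_inv_rev, inv_eq_of_mul_eq_one_right hb,
      inv_eq_of_mul_eq_one_right ha, show a * (a * b) * a = a * a * (b * a) by group, ha, one_mul]
  calc x⁻¹ * a * x = (a * x * a⁻¹) * a * x := by rw [hinv]
    _ = a * (x * x) := by group
    _ = b := by rw [hx, ← mul_assoc, ha, one_mul]

namespace Frame

variable (F : Frame G) {H : Subgroup G} (hU : F.U ≤ H)
include hU

/-- `t` in `H` modulo the odd core. -/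
def tb : H ⧸ Cfsg.oddCore H := qmap H ⟨F.t, (F.U_le_iff.1 hU).1⟩

/-- `u` in `H` modulo the odd core. -/
def ub : H ⧸ Cfsg.oddCore H := qmap H ⟨F.u, (F.U_le_iff.1 hU).2⟩

theorem two_not_mem_core {x : G} (hx : orderOf x = 2) : x ∉ Core H := fun h => by
  have := Frame.odd_orderOf (odd_card_core H) h
  rw [hx] at this
  exact absurd this (by decide)

theorem four_q : IsFour (F.tb hU) (F.ub hU) (F.tb hU * F.ub hU) := by
  have ho : ∀ (x : H), orderOf (x : G) = 2 → orderOf (qmap H x) = 2 := fun x hx =>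
    orderOf_eq_prime (by rw [pow_two, ← map_mul, qmap_eq_one]; simp [mul_self_of_two hx, one_mem])
      fun e => F.two_not_mem_core hU hx (qmap_eq_one.1 e)
  refine isFour_of_comm (ho _ F.t_order) (ho _ F.u_order) ?_ fun e => ?_
  · rw [tb, ub, ← map_mul, ← map_mul]
    congr 1
    exact Subtype.ext F.comm
  · rw [tb, ub, qmap_eq] at e
    refine F.two_not_mem_core hU F.v_order (?_ : F.t * F.u ∈ Core H)
    simpa [F.t_inv] using e

theorem inj_q {x : G} (hx : x ∈ F.U) (h : x ∈ Core H) : x = 1 := by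
  rcases F.mem_U.1 hx with e | e | e | e <;> rw [e] at h ⊢
  · exact absurd h (F.two_not_mem_core hU F.t_order)
  · exact absurd h (F.two_not_mem_core hU F.u_order)
  · exact absurd h (F.two_not_mem_core hU F.v_order)

/-- With quotient of order four, the quotient is the image of `U`. -/
theorem eq_sup_of_card (h4 : Nat.card (H ⧸ Cfsg.oddCore H) = 4) (h : H) :
    ∃ a ∈ F.U, ∃ d ∈ Core H, (h : G) = a * d := by
  let f : F.U → H ⧸ Cfsg.oddCore H := fun a => qmap H ⟨a, hU a.2⟩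
  have hf : Function.Injective f := fun a b e => by
    have := F.inj_q hU (mul_mem (inv_mem a.2) b.2) (qmap_eq.1 e)
    exact Subtype.ext (inv_mul_eq_one.1 this)
  obtain ⟨a, ha⟩ := ((Nat.bijective_iff_injective_and_card f).2 ⟨hf, by rw [F.card_U, h4]⟩).2 (qmap H h)
  exact ⟨a, a.2, _, qmap_eq.1 ha, (mul_inv_cancel_left (a : G) h).symm⟩

theorem not_fusing_of_card (h4 : Nat.card (H ⧸ Cfsg.oddCore H) = 4) : ¬ F.Fusing H := by
  rintro ⟨-, g, hg, -, hgt⟩
  haveI : Fact (Nat.Prime 2) := ⟨Nat.prime_two⟩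
  have hc := (IsPGroup.commGroupOfCardEqPrimeSq (p := 2) (G := H ⧸ Cfsg.oddCore H) h4).mul_comm
  have h1 : qmap H ⟨g, hg⟩ * F.tb hU * (qmap H ⟨g, hg⟩)⁻¹ = F.ub hU := by
    rw [tb, ub, ← map_inv, ← map_mul, ← map_mul]
    congr 1
    exact Subtype.ext hgt
  rw [hc, inv_mul_cancel_left] at h1
  exact (F.four_q hU).ne_zt h1

/-- A proper subgroup containing `U` has quotient of order four or a top `PSL₂(q)`, `q = 3` included. -/
theorem card_or_top (hm : Minimal G) (hH : H ≠ ⊤) :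
    Nat.card (H ⧸ Cfsg.oddCore H) = 4 ∨ ∃ (K : Type) (_ : Field K) (_ : Fintype K)
      (L : Subgroup (H ⧸ Cfsg.oddCore H)), Cfsg.Lib.FourGW.Top K L := by
  have h4 : 4 ∣ Nat.card H := F.card_U ▸ card_dvd_of_le hU
  rcases hm.shape H hH h4 with h | ⟨⟨e⟩⟩ | ⟨K, i1, i2, hq, -, N, hN, hodd, he, -⟩
  · exact Or.inl h
  · haveI : Fact (Nat.Prime 3) := ⟨Nat.prime_three⟩
    obtain ⟨e'⟩ := Cfsg.Agent.S0251.result (F := ZMod 3) (ZMod.card 3)
    exact Or.inr ⟨ZMod 3, inferInstance, inferInstance, ⊤, inferInstance, by rw [index_top]; exact odd_one,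
      ⟨topEquiv.trans (e.trans e'.symm)⟩, Or.inl (by rw [ZMod.card])⟩
  · exact Or.inr ⟨K, i1, i2, N, hN, hodd, he, hq⟩

theorem fusing_of_top (hm : Minimal G) {K : Type} [Field K] [Fintype K] {L : Subgroup (H ⧸ Cfsg.oddCore H)}
    (hT : Cfsg.Lib.FourGW.Top K L) : F.Fusing H := by
  obtain ⟨l, -, hlt, -⟩ := hT.exists_rot_L (F.four_q hU)
  obtain ⟨h, rfl⟩ := QuotientGroup.mk'_surjective _ l
  have hz : ((h : G) * F.t * (h : G)⁻¹) * F.u ∈ Core H := by
    have h' : qmap H (h * ⟨F.t, (F.U_le_iff.1 hU).1⟩ * h⁻¹) = qmap H ⟨F.u, (F.U_le_iff.1 hU).2⟩ := by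
      rw [map_mul, map_mul, map_inv]; exact hlt
    rw [qmap_eq] at h'
    simpa [F.t_inv, mul_assoc] using h'
  obtain ⟨x, hx, e⟩ := exists_conj_of_cong (odd_card_core H)
    (a := (h : G) * F.t * (h : G)⁻¹) (b := F.u) (by rw [_root_.conj_mul, F.t_sq]; simp) F.u_sq hz
  refine F.fusing_of_conj hm hU (g := x⁻¹ * h) (mul_mem (inv_mem (core_le H hx)) h.2) ?_
  rw [← e]; group

theorem exists_top (hm : Minimal G) (hH : H ≠ ⊤) (hF : F.Fusing H) : ∃ (K : Type) (_ : Field K) (_ : Fintype K)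
    (L : Subgroup (H ⧸ Cfsg.oddCore H)), Cfsg.Lib.FourGW.Top K L :=
  (F.card_or_top hU hm hH).resolve_left fun h => F.not_fusing_of_card hU h hF

theorem comap_cent_t :
    (centralizer ({F.tb hU} : Set (H ⧸ Cfsg.oddCore H))).comap (qmap H) =
      (Core H ⊔ (H ⊓ F.C)).subgroupOf H := by
  have hN : Odd (Nat.card (Cfsg.oddCore H)) := by
    rw [← card_map_of_injective (K := Cfsg.oddCore H) H.subtype_injective]
    exact odd_card_core H
  have e : centralizer ({F.tb hU} : Set (H ⧸ Cfsg.oddCore H)) =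
      (centralizer ({(⟨F.t, (F.U_le_iff.1 hU).1⟩ : H)} : Set H)).map (qmap H) :=
    Cfsg.Lib.GenDihedral.cent_quot _ hN (by rw [Subgroup.orderOf_mk, F.t_order])
  rw [e, comap_map_eq, QuotientGroup.ker_mk', subgroupOf_sup (core_le H) inf_le_left, sup_comm]
  congr 1
  · ext x
    rw [mem_subgroupOf, ← qmap_eq_one, qmap, QuotientGroup.mk'_apply, QuotientGroup.eq_one_iff]
  · ext x
    rw [mem_subgroupOf, Subgroup.mem_inf, F.mem_C, mem_centralizer_singleton_iff, Subtype.ext_iff]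
    exact ⟨fun h => ⟨x.2, h⟩, fun h => h.2⟩

theorem map_cent_t :
    ((H ⊓ F.C).subgroupOf H).map (qmap H) = centralizer ({F.tb hU} : Set (H ⧸ Cfsg.oddCore H)) := by
  refine le_antisymm ?_ ?_
  · rintro _ ⟨x, hx, rfl⟩
    rw [mem_centralizer_singleton_iff, tb, ← map_mul, ← map_mul]
    congr 1
    exact Subtype.ext (F.mem_C.1 (mem_subgroupOf.1 hx).2)
  · rw [← map_comap_eq_self_of_surjective (QuotientGroup.mk'_surjective (Cfsg.oddCore H))
      (centralizer ({F.tb hU} : Set (H ⧸ Cfsg.oddCore H))), F.comap_cent_t hU,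
      subgroupOf_sup (core_le H) inf_le_left, Subgroup.map_sup]
    refine sup_le ?_ le_rfl
    rintro _ ⟨x, hx, rfl⟩
    have : qmap H x = 1 := qmap_eq_one.2 hx
    rw [this]; exact one_mem _

theorem card_eq_four_mul {X Y : Subgroup G} (hXY : X ≤ Y) (hUY : F.U ≤ Y) (hX : Odd (Nat.card X))
    (hdec : ∀ y ∈ Y, ∃ a ∈ F.U, a⁻¹ * y ∈ X) : Nat.card Y = 4 * Nat.card X := by
  rw [← F.card_U, ← Nat.card_prod]
  refine (Nat.card_eq_of_bijective (fun p : F.U × X => (⟨p.1 * p.2, mul_mem (hUY p.1.2) (hXY p.2.2)⟩ : Y))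
    ⟨?_, ?_⟩).symm
  · rintro ⟨⟨a, ha⟩, ⟨x, hx⟩⟩ ⟨⟨b, hb⟩, ⟨y, hy⟩⟩ h
    have e : a * x = b * y := congrArg Subtype.val h
    have h1 : b⁻¹ * a = y * x⁻¹ := by rw [eq_mul_inv_iff_mul_eq, mul_assoc, e, inv_mul_cancel_left]
    have hd := F.coprime_U hX
    have h2 : b⁻¹ * a = 1 := (disjoint_def.1 (Subgroup.disjoint_of_coprime_natCard hd))
      (mul_mem (inv_mem hb) ha) (h1 ▸ mul_mem hy (inv_mem hx))
    obtain rfl := inv_mul_eq_one.1 h2
    obtain rfl := mul_left_cancel e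
    rfl
  · rintro ⟨y, hy⟩
    obtain ⟨a, ha, hx⟩ := hdec y hy
    exact ⟨⟨⟨a, ha⟩, ⟨_, hx⟩⟩, Subtype.ext (mul_inv_cancel_left a y)⟩

theorem exists_U_mul (hm : Minimal G) {y : G} (hy : y ∈ H ⊓ F.C) : ∃ a ∈ F.U, a⁻¹ * y ∈ H ⊓ F.O := by
  have hy' : y ∈ F.O ⊔ F.U := F.C_eq hm ▸ hy.2
  obtain ⟨a, ha, b, hb, rfl⟩ := (Cfsg.Lib.Coprime.mem_sup_of_le_normalizer' F.U_le_normalizer_O).1 hy'
  refine ⟨a, ha, Subgroup.mem_inf.2 ⟨mul_mem (inv_mem (hU ha)) hy.1, ?_⟩⟩
  rw [inv_mul_cancel_left]; exact hb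

theorem card_inf_C (hm : Minimal G) : Nat.card ↥(H ⊓ F.C) = 4 * Nat.card ↥(H ⊓ F.O) :=
  F.card_eq_four_mul hU (inf_le_inf_left H F.O_le) (le_inf hU F.U_le_C)
    (F.odd_card_O.of_dvd_nat (card_dvd_of_le inf_le_right)) fun _ hy => F.exists_U_mul hU hm hy

theorem card_inf_centU (hm : Minimal G) :
    Nat.card ↥(H ⊓ centralizer (F.U : Set G)) = 4 * Nat.card ↥(H ⊓ F.W) := by
  refine F.card_eq_four_mul hU (inf_le_inf_left H F.W_le_centralizer_U)
    (le_inf hU fun a ha => mem_centralizer_iff.2 fun b hb => F.U_comm hb ha)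
    (F.odd_card_W.of_dvd_nat (card_dvd_of_le inf_le_right)) fun y hy => ?_
  obtain ⟨a, ha, hay⟩ := F.exists_U_mul hU hm ⟨hy.1, F.mem_C.2 (F.mem_centralizer_U.1 hy.2).1⟩
  refine ⟨a, ha, hay.1, F.mem_W.2 ⟨hay.2, (F.mem_centralizer_U.1 (mul_mem (inv_mem ?_) hy.2)).2⟩⟩
  exact mem_centralizer_iff.2 fun b hb => F.U_comm hb ha

theorem map_cent_U (hm : Minimal G) :
    ((H ⊓ centralizer (F.U : Set G)).subgroupOf H).map (qmap H) =
      centralizer ({F.tb hU} : Set (H ⧸ Cfsg.oddCore H)) ⊓ centralizer {F.ub hU} := by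
  refine le_antisymm ?_ ?_
  · rintro _ ⟨x, hx, rfl⟩
    have h := F.mem_centralizer_U.1 (mem_subgroupOf.1 hx).2
    refine Subgroup.mem_inf.2 ⟨?_, ?_⟩
    · rw [mem_centralizer_singleton_iff, tb, ← map_mul, ← map_mul]
      exact congrArg _ (Subtype.ext h.1)
    · rw [mem_centralizer_singleton_iff, ub, ← map_mul, ← map_mul]
      exact congrArg _ (Subtype.ext h.2)
  · rintro y ⟨hyt, hyu⟩
    rw [SetLike.mem_coe, ← F.map_cent_t hU] at hyt
    obtain ⟨x, hx, rfl⟩ := hyt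
    obtain ⟨a, ha, hb⟩ := F.exists_U_mul hU hm (mem_subgroupOf.1 hx)
    have hodd : Odd (Nat.card ↥(H ⊓ F.O)) := F.odd_card_O.of_dvd_nat (card_dvd_of_le inf_le_right)
    have huN : F.u ∈ normalizer ((H ⊓ F.O : Subgroup G) : Set G) := by
      refine mem_normalizer_iff.2 fun z => and_congr (mem_normalizer_iff.1 ?_ z)
        (mem_normalizer_iff.1 (F.U_le_normalizer_O F.u_mem_U) z)
      exact Subgroup.le_normalizer (hU F.u_mem_U)
    obtain ⟨p, hp, b, hb', hpf, hbi, e⟩ := exists_fixed_mul_inverted hodd F.u_sq huN hb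
    have hbH : qmap H ⟨b, hb'.1⟩ = 1 := by
      have hcomm : ∀ z : G, (hz : z ∈ H) → qmap H ⟨F.u * z * F.u⁻¹, mul_mem (mul_mem (hU F.u_mem_U) hz)
          (inv_mem (hU F.u_mem_U))⟩ = F.ub hU * qmap H ⟨z, hz⟩ * (F.ub hU)⁻¹ := fun z hz => by
        rw [ub, ← map_inv, ← map_mul, ← map_mul]; rfl
      have hxu : F.ub hU * qmap H x * (F.ub hU)⁻¹ = qmap H x := by
        rw [← mem_centralizer_singleton_iff.1 hyu, mul_inv_cancel_right]
      have hau : qmap H ⟨a, hU ha⟩ * F.ub hU = F.ub hU * qmap H ⟨a, hU ha⟩ := by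
        rw [ub, ← map_mul, ← map_mul]; exact congrArg _ (Subtype.ext (F.U_comm ha F.u_mem_U))
      have hx' : qmap H x = qmap H ⟨a, hU ha⟩ * (qmap H ⟨p, hp.1⟩ * qmap H ⟨b, hb'.1⟩) := by
        rw [← map_mul, ← map_mul]
        exact congrArg _ (Subtype.ext (by simp [← e]))
      have hpu : F.ub hU * qmap H ⟨p, hp.1⟩ * (F.ub hU)⁻¹ = qmap H ⟨p, hp.1⟩ := by
        rw [← hcomm p hp.1]; exact congrArg _ (Subtype.ext hpf)
      have hbu : F.ub hU * qmap H ⟨b, hb'.1⟩ * (F.ub hU)⁻¹ = (qmap H ⟨b, hb'.1⟩)⁻¹ := by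
        rw [← hcomm b hb'.1, ← map_inv]; exact congrArg _ (Subtype.ext hbi)
      rw [hx', ← _root_.conj_mul, ← _root_.conj_mul, hpu, hbu, conj_fix_iff.2 hau, mul_right_inj,
        mul_right_inj] at hxu
      refine Cfsg.Lib.GenDihedral.eq_one_of_sq_of_odd (mul_eq_one_iff_eq_inv.2 hxu.symm) ?_
      exact (Frame.odd_orderOf hodd hb').of_dvd_nat
        ((orderOf_map_dvd (qmap H) _).trans (Subgroup.orderOf_mk b hb'.1).dvd)
    refine ⟨⟨a * p, mul_mem (hU ha) hp.1⟩, ?_, ?_⟩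
    · refine mem_subgroupOf.2 ⟨mul_mem (hU ha) hp.1, mul_mem
        (mem_centralizer_iff.2 fun b hb => F.U_comm hb ha)
        (F.mem_centralizer_U.2 ⟨F.mem_C.1 (F.O_le hp.2), (mul_inv_eq_iff_eq_mul.1 hpf).symm⟩)⟩
    · have hx' : x = ⟨a * p, mul_mem (hU ha) hp.1⟩ * ⟨b, hb'.1⟩ :=
        Subtype.ext (by simp [mul_assoc, ← e])
      rw [hx', map_mul, hbH, mul_one]

theorem core_inf_cent_conj {g : G} (hg : g ∈ H) (s : G) :
    Nat.card ↥(Core H ⊓ centralizer {g * s * g⁻¹}) = Nat.card ↥(Core H ⊓ centralizer {s}) := by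
  rw [← card_map_of_injective (K := Core H ⊓ centralizer {s}) (f := (MulAut.conj g).toMonoidHom) (MulAut.conj g).injective]
  congr 2
  ext x
  rw [Subgroup.mem_map_equiv, MulAut.conj_symm_apply, Subgroup.mem_inf, Subgroup.mem_inf,
    mem_centralizer_singleton_iff, mem_centralizer_singleton_iff]
  refine and_congr ?_ ⟨fun h => ?_, fun h => ?_⟩
  · have := (mem_normalizer_iff.1 (le_normalizer_core H hg) (g⁻¹ * x * g))
    rw [show g * (g⁻¹ * x * g) * g⁻¹ = x by group] at this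
    exact this.symm
  · calc g⁻¹ * x * g * s = g⁻¹ * (x * (g * s * g⁻¹)) * g := by group
      _ = s * (g⁻¹ * x * g) := by rw [h]; group
  · calc x * (g * s * g⁻¹) = g * (g⁻¹ * x * g * s) * g⁻¹ := by group
      _ = g * s * g⁻¹ * x := by rw [h]; group

/-- The order formula and the parameters of the top. -/
theorem top_of (hm : Minimal G) (hF : F.Fusing H) {K : Type} [Field K] [Fintype K]
    {L : Subgroup (H ⧸ Cfsg.oddCore H)} (hT : Cfsg.Lib.FourGW.Top K L) :
    F.Top H (torT (Fintype.card K)) (spreadQ (Fintype.card K)) := by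
  have F4 := F.four_q hU
  have hinv : ∀ x : G, (hx : x ∈ H ⊓ F.O) → F.u * x * F.u⁻¹ * x ∈ Core H →
      qmap H ⟨x, hx.1⟩ ∈ tor L (F.tb hU) := by
    intro x hx hi
    refine hT.mem_tor_of_inverted F4.z2 F4.t2 ?_ ?_ ?_
    · rw [tb, ← map_mul, ← map_mul]
      exact congrArg _ (Subtype.ext (F.mem_C.1 (F.O_le hx.2)))
    · exact (Frame.odd_orderOf F.odd_card_O hx.2).of_dvd_nat
        ((orderOf_map_dvd (qmap H) _).trans (Subgroup.orderOf_mk x hx.1).dvd)
    · refine eq_inv_of_mul_eq_one_left ?_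
      rw [ub, ← map_inv, ← map_mul, ← map_mul, ← map_mul, qmap_eq_one]
      exact hi
  refine ⟨(Cfsg.Lib.FourGW.torT_spec hT.hq).1, (Cfsg.Lib.FourGW.spreadQ_spec hT.hq).1, ?_, ?_, ?_, ?_, ?_⟩
  · -- order
    have hHC := card_image (H := H) (S := H ⊓ F.C) inf_le_left
    rw [F.map_cent_t hU, hT.card_cent F4.z2, F.card_inf_C hU hm] at hHC
    have e1 : H ⊓ F.C ⊓ Core H = Core H ⊓ centralizer {F.t} := by
      refine le_antisymm (le_inf inf_le_right ?_) (le_inf (le_inf (inf_le_left.trans (core_le H)) inf_le_right) inf_le_left)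
      exact inf_le_left.trans inf_le_right
    rw [e1] at hHC
    have hHU := card_image (H := H) (S := H ⊓ centralizer (F.U : Set G)) inf_le_left
    rw [F.map_cent_U hU hm, hT.card_cent_four F4, F.card_inf_centU hU hm] at hHU
    have e2 : H ⊓ centralizer (F.U : Set G) ⊓ Core H = Core H ⊓ centralizer (F.U : Set G) := by
      refine le_antisymm (le_inf inf_le_right ?_) (le_inf (le_inf (inf_le_left.trans (core_le H)) inf_le_right) inf_le_left)
      exact inf_le_left.trans inf_le_right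
    rw [e2] at hHU
    have hHH := card_image (H := H) (S := H) le_rfl
    rw [inf_eq_right.2 (core_le H), subgroupOf_self,
      map_top_of_surjective _ (QuotientGroup.mk'_surjective _), card_top, ← card_mul_index L, hT.card_L] at hHH
    have hform := F.card_formula (odd_card_core H) (hU.trans (le_normalizer_core H))
    obtain ⟨-, g, hg, hgn, hgt⟩ := hF
    have hgu := (F.fusing_element hm hgn hgt).2
    rw [← hgu, F.core_inf_cent_conj hU hg, ← hgt, F.core_inf_cent_conj hU hg] at hform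
    set a := Nat.card ↥(Core H ⊓ centralizer {F.t})
    set b := Nat.card ↥(Core H ⊓ centralizer (F.U : Set G))
    set T := torT (Fintype.card K)
    set f := L.index
    have ho : Nat.card ↥(H ⊓ F.O) = a * (T * f) := by linarith
    have hw : Nat.card ↥(H ⊓ F.W) = b * f := by linarith
    rw [hHH, ho, hw]
    calc Nat.card ↥(Core H) * (4 * T * spreadQ (Fintype.card K) * f) * (b * f) ^ 2 * T ^ 2
        = (Nat.card ↥(Core H) * b ^ 2) * (4 * spreadQ (Fintype.card K) * (T * f) ^ 3) := by ring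
      _ = _ := by rw [hform]; ring
  · -- index
    rw [← hT.index_cent F4.z2, ← index_comap_of_surjective _ (QuotientGroup.mk'_surjective (Cfsg.oddCore H))]
    exact congrArg Subgroup.index (F.comap_cent_t hU).symm
  · -- torus
    intro X hX hXi
    have hXH : X ≤ H := hX.trans inf_le_left
    have hle : (X.subgroupOf H).map (qmap H) ≤ tor L (F.tb hU) := by
      rintro _ ⟨x, hx, rfl⟩
      exact hinv x (hX (mem_subgroupOf.1 hx)) (hXi x (mem_subgroupOf.1 hx))
    obtain ⟨τ, hτ, hτo⟩ := hT.exists_gen F4.z2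
    constructor
    · have h1 := card_image hXH
      have h2 : Nat.card ↥(X ⊓ Core H) * (Core H).relIndex X = Nat.card X := by
        rw [← inf_relIndex_left (H := X), ← relIndex_bot_left, ← relIndex_bot_left X,
          relIndex_mul_relIndex _ _ _ bot_le inf_le_left]
      rw [h1] at h2
      rw [Nat.eq_of_mul_eq_mul_left Nat.card_pos h2, ← hτo, ← Nat.card_zpowers, ← hτ]
      exact card_dvd_of_le hle
    · haveI : IsCyclic (tor L (F.tb hU)) := by rw [hτ]; infer_instance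
      haveI : IsCyclic ↥((X.subgroupOf H).map (qmap H)) := Subgroup.isCyclic_of_le hle
      obtain ⟨⟨y, x, hx, rfl⟩, hy⟩ := IsCyclic.exists_generator (α := ↥((X.subgroupOf H).map (qmap H)))
      refine ⟨x, mem_subgroupOf.1 hx, fun k hk => ?_⟩
      obtain ⟨n, hn⟩ := mem_zpowers_iff.1 (hy ⟨qmap H ⟨k, hXH hk⟩, ⟨k, hXH hk⟩, mem_subgroupOf.2 hk, rfl⟩)
      have h1 : qmap H x ^ n = qmap H ⟨k, hXH hk⟩ := congrArg Subtype.val hn
      rw [← map_zpow, qmap_eq] at h1
      have h2 := mul_mem_sup (zpow_mem (mem_zpowers (x : G)) n) h1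
      simpa using h2
  · -- inverted_comm
    intro x hx y hy hxi hyi
    have h := hT.tor_comm F4.z2 (hinv x hx (by rw [hxi, inv_mul_cancel]; exact one_mem _))
      (hinv y hy (by rw [hyi, inv_mul_cancel]; exact one_mem _))
    have h' : qmap H (⟨x, hx.1⟩ * ⟨y, hy.1⟩ * (⟨x, hx.1⟩ : H)⁻¹ * (⟨y, hy.1⟩ : H)⁻¹) = 1 := by
      rw [map_mul, map_mul, map_mul, map_inv, map_inv, h, mul_inv_cancel_right, mul_inv_cancel]
    exact qmap_eq_one.1 h'
  · -- centralizer_le
    intro x hx hxc hxi h hh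
    have h1 := hT.cent_tor_le F4.z2 (hinv x hx hxi) (fun e => hxc (qmap_eq_one.1 e))
      (g := qmap H ⟨h, hh.1⟩) (by
        rw [← map_mul, ← map_mul]
        exact congrArg _ (Subtype.ext (mem_centralizer_singleton_iff.1 hh.2)))
    have h2 : (⟨h, hh.1⟩ : H) ∈ (centralizer ({F.tb hU} : Set (H ⧸ Cfsg.oddCore H))).comap (qmap H) :=
      mem_centralizer_singleton_iff.2 h1
    rw [F.comap_cent_t hU] at h2
    exact h2

omit hU

theorem topSpec (hm : Minimal G) : F.TopSpec := fun _ hH hF => by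
  obtain ⟨K, i1, i2, L, hT⟩ := F.exists_top hF.1 hm hH hF
  exact ⟨_, _, F.top_of hF.1 hm hF hT⟩

theorem nonFusingSpec (hm : Minimal G) : F.NonFusingSpec := fun H hH hU hF => by
  rcases F.card_or_top hU hm hH with h4 | ⟨K, i1, i2, L, hT⟩
  · refine le_antisymm (fun h hh => ?_) (sup_le (core_le H) hU)
    obtain ⟨a, ha, d, hd, e⟩ := F.eq_sup_of_card hU h4 ⟨h, hh⟩
    rw [show h = a * d from e]
    exact mul_mem (mem_sup_right ha) (mem_sup_left hd)
  · exact absurd (F.fusing_of_top hU hm hT) hF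

theorem oddSpec (hm : Minimal G) : F.OddSpec := fun H hH hU X hX hXo hXn => by
  rcases F.card_or_top hU hm hH with h4 | ⟨K, i1, i2, L, hT⟩
  · refine ⟨F.t, F.t_mem_U, F.t_ne_one, fun k hk => ?_⟩
    have key : ∀ k ∈ X, k ∈ Core H := fun k hk => by
      obtain ⟨a, ha, d, hd, e⟩ := F.eq_sup_of_card hU h4 ⟨k, hX hk⟩
      refine mem_of_sq (Frame.odd_orderOf hXo hk) ?_
      have e' : k * k = a * d * a⁻¹ * d := by
        have ha2 : a⁻¹ = a := by
          rcases F.mem_U.1 ha with rfl | rfl | rfl | rfl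
          exacts [inv_one, F.t_inv, F.u_inv, inv_of_two F.v_order]
        rw [show k = a * d from e, ha2]; group
      rw [e']
      exact mul_mem ((mem_normalizer_iff.1 (le_normalizer_core H (hU ha)) d).1 hd) hd
    exact mul_mem (inv_mem (key k hk))
      ((mem_normalizer_iff.1 (le_normalizer_core H (hU F.t_mem_U)) k).1 (key k hk))
  · have F4 := F.four_q hU
    have hodd : Odd (Nat.card ↥((X.subgroupOf H).map (qmap H))) :=
      hXo.of_dvd_nat ((card_map_dvd _ _).trans (Nat.card_congr (subgroupOfEquivOfLe hX).toEquiv).dvd)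
    have hn : Cfsg.Lib.GenDihedral.Vg (F.tb hU) (F.ub hU) ≤
        normalizer (((X.subgroupOf H).map (qmap H) : Subgroup _) : Set (H ⧸ Cfsg.oddCore H)) := by
      have key : ∀ s : G, (hs : s ∈ F.U) → qmap H ⟨s, hU hs⟩ ∈
          normalizer (((X.subgroupOf H).map (qmap H) : Subgroup _) : Set (H ⧸ Cfsg.oddCore H)) := fun s hs => by
        refine le_normalizer_map (qmap H) ⟨⟨s, hU hs⟩, ?_, rfl⟩
        exact mem_normalizer_iff.2 fun z => mem_normalizer_iff.1 (hXn hs) z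
      exact F4.le_normalizer_iff.2 ⟨key F.t F.t_mem_U, key F.u F.u_mem_U⟩
    obtain ⟨x, hx, hfix⟩ := hT.exists_fix F4 hodd hn
    obtain ⟨s, hs, hs1, rfl⟩ : ∃ s : G, ∃ hs : s ∈ F.U, s ≠ 1 ∧ qmap H ⟨s, hU hs⟩ = x := by
      rcases hx with rfl | rfl | rfl
      · exact ⟨F.t, F.t_mem_U, F.t_ne_one, rfl⟩
      · exact ⟨F.u, F.u_mem_U, F.u_ne_one, rfl⟩
      · exact ⟨F.t * F.u, mul_mem F.t_mem_U F.u_mem_U,
          fun e => F.t_ne_u (by rw [mul_eq_one_iff_eq_inv.1 e, F.u_inv]), map_mul (qmap H)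
            ⟨F.t, (F.U_le_iff.1 hU).1⟩ ⟨F.u, (F.U_le_iff.1 hU).2⟩⟩
    refine ⟨s, hs, hs1, fun k hk => ?_⟩
    have hc := mem_centralizer_singleton_iff.1 (hfix ⟨⟨k, hX hk⟩, mem_subgroupOf.2 hk, rfl⟩)
    have h' : qmap H ((⟨k, hX hk⟩ : H)⁻¹ * (⟨s, hU hs⟩ * ⟨k, hX hk⟩ * (⟨s, hU hs⟩ : H)⁻¹)) = 1 := by
      rw [map_mul, map_mul, map_mul, map_inv, map_inv, ← hc, mul_inv_cancel_right, inv_mul_cancel]
    exact qmap_eq_one.1 h'

theorem compSpec (hm : Minimal G) : F.CompSpec := fun H hH hU hne => by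
  haveI : Fact (Nat.Prime 2) := ⟨Nat.prime_two⟩
  have hlay : Cfsg.layer H ≠ ⊥ := fun e => hne (by
    show Cfsg.layer H ⊔ Cfsg.fittingSubgroup H = _
    rw [e, bot_sup_eq])
  set E := Cfsg.layer H with hE
  haveI hEn : E.Normal := Subgroup.normal_of_characteristic E
  have hEp : ⁅E, E⁆ = E := Cfsg.Lib.Components.layer_perfect
  have hns : ¬ Group.IsSolvable E := fun hs => by
    haveI := hs
    haveI : Nontrivial E := (nontrivial_iff_ne_bot E).2 hlay
    refine (IsSolvable.commutator_lt_top_of_nontrivial E).ne (map_injective E.subtype_injective ?_)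
    rw [_root_.commutator_def, map_commutator, ← MonoidHom.range_eq_map, Subgroup.range_subtype, hEp]
  have hsol : Group.IsSolvable (Cfsg.oddCore H) := Cfsg.Agent.PF.isSolvable_of_odd _ (by
    rw [← card_map_of_injective (K := Cfsg.oddCore H) H.subtype_injective]
    exact odd_card_core H)
  have hEb : E.map (qmap H) ≠ ⊥ := fun e => by
    rw [Subgroup.map_eq_bot_iff, QuotientGroup.ker_mk'] at e
    exact hns (Cfsg.Lib.GenDihedral.solvable_of_le e hsol)
  have hEbp : ⁅E.map (qmap H), E.map (qmap H)⁆ = E.map (qmap H) := by rw [← map_commutator, hEp]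
  haveI : (E.map (qmap H)).Normal := hEn.map _ (QuotientGroup.mk'_surjective _)
  rcases F.card_or_top hU hm hH with h4 | ⟨K, i1, i2, L, hT⟩
  · exfalso
    refine hEb ?_
    rw [← hEbp, eq_bot_iff, commutator_le]
    intro a _ b _
    rw [mem_bot, commutatorElement_eq_one_iff_mul_comm]
    exact (IsPGroup.commGroupOfCardEqPrimeSq (p := 2) (G := H ⧸ Cfsg.oddCore H) h4).mul_comm a b
  refine ⟨F.fusing_of_top hU hm hT, E.map H.subtype, map_subtype_le _, ?_, ?_, ?_, ?_⟩
  · intro h hh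
    refine le_normalizer_map H.subtype ⟨⟨h, hh⟩, ?_, rfl⟩
    rw [normalizer_eq_top]; exact mem_top _
  · rw [← map_commutator, hEp]
  · have hcore : ∀ e ∈ E, ∀ n ∈ Cfsg.oddCore H, n * e = e * n := fun e he n hn =>
      mem_centralizer_iff.1 (Cfsg.Lib.Components.layer_le_centralizer_solvable_normal hsol he) n hn
    have hLE := hT.le_of_perfect hEbp hEb
    have key : ∀ s : G, (hs : s ∈ F.U) → s ∈ E.map H.subtype := fun s hs => by
      obtain ⟨e, he, hes⟩ : qmap H ⟨s, hU hs⟩ ∈ E.map (qmap H) := by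
        refine hLE ?_
        rcases F.mem_U.1 hs with rfl | rfl | rfl | rfl
        · rw [show (⟨1, hU hs⟩ : H) = 1 from rfl, map_one]; exact one_mem _
        · exact hT.mem_of_two (F.four_q hU).z2
        · exact hT.mem_of_two (F.four_q hU).t2
        · exact hT.mem_of_sq_mem (by
            rw [← map_mul, show (⟨F.t * F.u, hU hs⟩ : H) * ⟨F.t * F.u, hU hs⟩ = 1 from Subtype.ext F.v_sq, map_one]
            exact one_mem _)
      have hn : e⁻¹ * ⟨s, hU hs⟩ ∈ Cfsg.oddCore H := by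
        rw [← QuotientGroup.eq_one_iff]
        show qmap H (e⁻¹ * ⟨s, hU hs⟩) = 1
        rw [map_mul, map_inv, hes, inv_mul_cancel]
      set n := e⁻¹ * ⟨s, hU hs⟩ with hnd
      have ho : Odd (orderOf n) := by
        have := Frame.odd_orderOf (odd_card_core H) (show ((n : H) : G) ∈ Core H from ⟨n, hn, rfl⟩)
        rwa [orderOf_coe] at this
      have hc : Commute e n := (hcore e he n hn).symm
      have hs' : (⟨s, hU hs⟩ : H) = e * n := (mul_inv_cancel_left e _).symm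
      obtain ⟨k, hk⟩ := ho
      have hpow : (⟨s, hU hs⟩ : H) ^ orderOf n = ⟨s, hU hs⟩ := by
        rw [hk, pow_succ, pow_mul, pow_two, show (⟨s, hU hs⟩ : H) * ⟨s, hU hs⟩ = 1 from Subtype.ext (by
          rcases F.mem_U.1 hs with rfl | rfl | rfl | rfl
          exacts [one_mul 1, F.t_sq, F.u_sq, F.v_sq]), one_pow, one_mul]
      refine ⟨⟨s, hU hs⟩, ?_, rfl⟩
      rw [← hpow, hs', hc.mul_pow, pow_orderOf_eq_one, mul_one]
      exact pow_mem he _
    exact fun s hs => key s hs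
  · rintro _ ⟨d, hd, rfl⟩
    refine mem_centralizer_iff.2 ?_
    rintro _ ⟨e, he, rfl⟩
    exact congrArg Subtype.val
      (mem_centralizer_iff.1 (Cfsg.Lib.Components.layer_le_centralizer_solvable_normal hsol he) d hd).symm

end Frame

end Cfsg.Lib.GW
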