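import Cfsg.Agent.FourGroupGW.Basic
import Cfsg.Agent.CommValues.Solvable

/-!
Gorenstein–Walter, four-group case: if no prime is of kind (s) or (i) then `[O, u]` is abelian.
-/

set_option autoImplicit false
set_option linter.unusedSectionVars false
set_option linter.style.haveILetI false

namespace Cfsg.Lib.GW

open Subgroup
open Cfsg.Lib.CommValues (le_of_prime_powers fitting_le_pCore pCore_le_fitting mem_pCore_of_central
  pow_eq_one_of_isPGroup)

universe u

section OddAut

variable {K : Type u} [Group K] [Finite K]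

theorem not_dvd_orderOf {q r : ℕ} [hq : Fact q.Prime] {z : K} (hz : IsPGroup q (zpowers z)) (hr : r.Prime)
    (h : r ≠ q) : ¬ r ∣ orderOf z := fun hd => by
  obtain ⟨i, hi⟩ := pow_eq_one_of_isPGroup hz
  exact h ((Nat.prime_dvd_prime_iff_eq hr hq.out).1 (hr.dvd_of_dvd_pow (hd.trans (orderOf_dvd_of_pow_eq_one hi))))

theorem map_eq_inv_of_mem_zpowers (α : MulAut K) {y z : K} (hy : α y = y⁻¹) (hz : z ∈ zpowers y) :
    α z = z⁻¹ := by
  obtain ⟨i, rfl⟩ := mem_zpowers_iff.1 hz
  rw [map_zpow, hy, inv_zpow]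

/-- If the `p'`-elements inverted by an involutory automorphism of a group of odd order centralise `O_p` for every
`p`, then all inverted elements lie in the Fitting subgroup. -/
theorem inverted_mem_fitting (hK : Odd (Nat.card K)) (α : MulAut K) (hα : ∀ x, α (α x) = x)
    (h : ∀ p : ℕ, p.Prime → ∀ y : K, α y = y⁻¹ → ¬ p ∣ orderOf y → ∀ r ∈ Cfsg.pCore p K, y * r = r * y)
    {y : K} (hy : α y = y⁻¹) : y ∈ Cfsg.fittingSubgroup K := by
  haveI : (Cfsg.fittingSubgroup K).Normal := inferInstance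
  set Φ := Cfsg.fittingSubgroup K
  haveI : Group.IsSolvable K := Cfsg.Agent.PF.isSolvable_of_odd K hK
  set π := QuotientGroup.mk' Φ
  set L : Subgroup K := (Cfsg.fittingSubgroup (K ⧸ Φ)).comap π with hL
  have hker : ∀ x, π x = 1 ↔ x ∈ Φ := fun x => QuotientGroup.eq_one_iff x
  -- inverted elements of `L` lie in the Fitting subgroup
  have stepA : ∀ b ∈ L, α b = b⁻¹ → b ∈ Φ := by
    intro b hb hbi
    refine (zpowers_le.1 (le_of_prime_powers (K := zpowers b) (S := Φ) fun q hq z hz hzq => ?_))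
    haveI := hq
    have hzi := map_eq_inv_of_mem_zpowers α hbi hz
    have hzL : z ∈ L := zpowers_le.2 hb hz
    let D : Subgroup K := ⨅ r : {r : ℕ // r.Prime ∧ r ≠ q}, centralizer (Cfsg.pCore r.1 K : Set K)
    haveI hD : D.Normal := normal_iInf_normal fun r => by
      haveI : (Cfsg.pCore r.1 K).Normal := inferInstance
      infer_instance
    let N : Subgroup K := (Cfsg.pCore q (K ⧸ Φ)).comap π ⊓ D
    haveI : N.Normal := inferInstance
    have hzN : z ∈ N := by
      refine ⟨?_, mem_iInf.2 fun r => mem_centralizer_iff.2 fun x hx =>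
        (h r.1 r.2.1 z hzi (not_dvd_orderOf hzq r.2.1 r.2.2) x hx).symm⟩
      exact fitting_le_pCore (hzL : π z ∈ Cfsg.fittingSubgroup (K ⧸ Φ))
        (by rw [← MonoidHom.map_zpowers]; exact hzq.map π)
    refine pCore_le_fitting q (mem_pCore_of_central N (fun r hr hrq w hw hwr c hc => ?_) hzN hzq)
    haveI := hr
    have hwΦ : w ∈ Φ := by
      rw [← hker]
      have h1 : IsPGroup q (zpowers (π w)) :=
        (Cfsg.Lib.Components.isPGroup_pCore q).to_le (zpowers_le.2 hw.1)
      have h2 : IsPGroup r (zpowers (π w)) := by rw [← MonoidHom.map_zpowers]; exact hwr.map π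
      exact zpowers_eq_bot.1 ((IsPGroup.disjoint_of_ne r q hrq _ _ h2 h1).eq_bot_of_le le_rfl)
    exact (mem_centralizer_iff.1 (mem_iInf.1 hc.2 ⟨r, hr.out, hrq⟩) w (fitting_le_pCore hwΦ hwr)).symm
  -- `α` is trivial on `L` modulo `Φ`
  have hαΦ : ∀ b, b ∈ Φ → α b ∈ Φ := fun b hb =>
    (characteristic_iff_map_le (H := Φ)).1 inferInstance α ⟨b, hb, rfl⟩
  have hfixL : ∀ v ∈ L, π (α v) = π v := by
    intro v hv
    have hαL : π (α v) ∈ Cfsg.fittingSubgroup (K ⧸ Φ) := by
      have := (characteristic_iff_map_le (H := Cfsg.fittingSubgroup (K ⧸ Φ))).1 inferInstance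
        (QuotientGroup.congr Φ Φ α (le_antisymm (by rintro _ ⟨b, hb, rfl⟩; exact hαΦ b hb)
          (fun b hb => ⟨α b, hαΦ b hb, hα b⟩))) ⟨π v, hv, rfl⟩
      exact this
    set w := (α v)⁻¹ * v with hw
    have hwL : w ∈ L := by
      rw [hL, mem_comap, hw, map_mul, map_inv]; exact mul_mem (inv_mem hαL) hv
    have hwi : α w = w⁻¹ := by rw [hw, map_mul, map_inv, hα, mul_inv_rev, inv_inv]
    have := (hker w).2 (stepA w hwL hwi)
    rwa [hw, map_mul, map_inv, inv_mul_eq_one] at this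
  -- so every inverted element centralises `L` modulo `Φ`
  have hyy : π (y * y) ∈ centralizer (Cfsg.fittingSubgroup (K ⧸ Φ) : Set (K ⧸ Φ)) := by
    refine mem_centralizer_iff.2 fun c hc => ?_
    obtain ⟨v, rfl⟩ := QuotientGroup.mk'_surjective Φ c
    have h1 : y * v * y⁻¹ ∈ L := by
      rw [hL, mem_comap, map_mul, map_mul, map_inv]
      exact Normal.conj_mem inferInstance _ hc _
    have h2 := hfixL _ h1
    simp only [map_mul, map_inv, hy, inv_inv, hfixL v hc] at h2
    -- `y⁻¹ v y = y v y⁻¹`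
    calc π v * π (y * y) = π y * ((π y)⁻¹ * π v * π y) * π y := by rw [map_mul]; group
      _ = π y * (π y * π v * (π y)⁻¹) * π y := by rw [h2]
      _ = π (y * y) * π v := by rw [map_mul]; group
  have hyL : y * y ∈ L := Cfsg.Lib.Coprime.centralizer_fitting_le hyy
  exact stepA y (Cfsg.Lib.GenDihedral.mem_of_sq (hK.of_dvd_nat (orderOf_dvd_natCard y)) hyL) hy

/-- Inverted elements of the Fitting subgroup commute if they do so in every `O_p`. -/
theorem inverted_fitting_commute (α : MulAut K)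
    (h : ∀ p : ℕ, p.Prime → ∀ a ∈ Cfsg.pCore p K, ∀ b ∈ Cfsg.pCore p K, α a = a⁻¹ → α b = b⁻¹ → a * b = b * a)
    {a b : K} (ha : a ∈ Cfsg.fittingSubgroup K) (hb : b ∈ Cfsg.fittingSubgroup K) (hai : α a = a⁻¹)
    (hbi : α b = b⁻¹) : a * b = b * a := by
  have key : zpowers a ≤ centralizer {b} := le_of_prime_powers fun q hq a' ha' haq => by
    haveI := hq
    have haq' : a' ∈ Cfsg.pCore q K := fitting_le_pCore (zpowers_le.2 ha ha') haq
    have key2 : zpowers b ≤ centralizer {a'} := le_of_prime_powers fun r hr b' hb' hbr => by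
      haveI := hr
      have hbr' : b' ∈ Cfsg.pCore r K := fitting_le_pCore (zpowers_le.2 hb hb') hbr
      rw [mem_centralizer_singleton_iff]
      rcases eq_or_ne r q with rfl | hne
      · exact h r hr.out b' hbr' a' haq' (map_eq_inv_of_mem_zpowers α hbi hb')
          (map_eq_inv_of_mem_zpowers α hai ha')
      · exact (Cfsg.Lib.Components.pCore_commute hne b' a' hbr' haq').eq
    exact mem_centralizer_singleton_iff.2 (mem_centralizer_singleton_iff.1 (key2 (mem_zpowers b))).symm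
  exact mem_centralizer_singleton_iff.1 (key (mem_zpowers a))

end OddAut

namespace Frame

variable {G : Type u} [Group G] [Finite G] (F : Frame G)

/-- The action of `u` on `O`. -/
noncomputable def uAut : MulAut F.O :=
  Cfsg.Lib.GenDihedral.cj F.O F.u (F.U_le_normalizer_O F.u_mem_U)

theorem mem_R {p : ℕ} {x : F.O} : (x : G) ∈ F.R p ↔ x ∈ Cfsg.pCore p F.O := by
  simp only [Frame.R, mem_map, coe_subtype]
  exact ⟨fun ⟨y, hy, e⟩ => (Subtype.ext e : y = x) ▸ hy, fun h => ⟨x, h, rfl⟩⟩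

/-- If no prime is of kind (s) or (i) then `[O, u]` is abelian. -/
theorem isMulCommutative_T (hS : ∀ p, ¬ F.KindS p) (hI : ∀ p, ¬ F.KindI p) : IsMulCommutative F.T := by
  set α := F.uAut
  have hα : ∀ x, α (α x) = x := fun x => Subtype.ext (by
    show F.u * (F.u * (x : G) * F.u⁻¹) * F.u⁻¹ = x
    rw [F.u_inv, show F.u * (F.u * (x : G) * F.u) * F.u = (F.u * F.u) * x * (F.u * F.u) by group, F.u_sq,
      one_mul, mul_one])
  have hinv : ∀ x : F.O, α x = x⁻¹ ↔ F.u * (x : G) * F.u⁻¹ = (x : G)⁻¹ := fun x => Subtype.ext_iff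
  have hfit : ∀ y : F.O, α y = y⁻¹ → y ∈ Cfsg.fittingSubgroup F.O := fun y hy =>
    inverted_mem_fitting F.odd_card_O α hα (fun p hp z hz hpz r hr => by
      by_contra hne
      exact hS p ⟨hp, (z : G), z.2, (hinv z).1 hz, by rwa [Subgroup.orderOf_coe], (r : G), F.mem_R.2 hr,
        fun e => hne (Subtype.ext e)⟩) hy
  have hTfit : F.T ≤ (Cfsg.fittingSubgroup F.O).map F.O.subtype := (closure_le _).2 fun x hx =>
    ⟨⟨x, hx.1⟩, hfit ⟨x, hx.1⟩ ((hinv _).2 hx.2), rfl⟩
  have hinner : ∀ p, p.Prime → ∀ y ∈ F.T, ∃ r ∈ F.R p, ∀ x ∈ F.R p, y * x * y⁻¹ = r * x * r⁻¹ := by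
    intro p hp y hy
    haveI := Fact.mk hp
    obtain ⟨y', hy', rfl⟩ := hTfit hy
    have hle : Cfsg.fittingSubgroup F.O ≤ Cfsg.pCore p F.O ⊔ centralizer (Cfsg.pCore p F.O : Set F.O) := by
      rw [Cfsg.Lib.Components.fitting_eq_iSup_pCore]
      refine iSup_le fun s => ?_
      haveI := Fact.mk s.2
      rcases eq_or_ne s.1 p with e | hne
      · rw [e]; exact le_sup_left
      · exact le_trans (fun x hx => mem_centralizer_iff.2 fun z hz =>
          (Cfsg.Lib.Components.pCore_commute hne x z hx hz).eq.symm) le_sup_right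
    obtain ⟨r, hr, c, hc, e⟩ := mem_sup_of_normal_left.1 (hle hy')
    refine ⟨(r : G), F.mem_R.2 hr, ?_⟩
    rintro _ ⟨x, hx, rfl⟩
    rw [← e]
    show (r : G) * c * x * ((r : G) * c)⁻¹ = _
    rw [mul_assoc (r : G) c, ← show (x : G) * c = c * x from congrArg Subtype.val (mem_centralizer_iff.1 hc x hx)]
    show (r : G) * (x * c) * ((r : G) * c)⁻¹ = (r : G) * x * (r : G)⁻¹
    group
  have hcomm : ∀ p, p.Prime → ∀ a ∈ Cfsg.pCore p F.O, ∀ b ∈ Cfsg.pCore p F.O, α a = a⁻¹ → α b = b⁻¹ →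
      a * b = b * a := by
    intro p hp a ha b hb hai hbi
    by_contra hne
    exact hI p ⟨hp, hinner p hp, (a : G), F.mem_R.2 ha, (b : G), F.mem_R.2 hb, (hinv a).1 hai, (hinv b).1 hbi,
      fun e => hne (Subtype.ext e)⟩
  refine isMulCommutative_closure ?_
  intro a ha b hb
  exact congrArg Subtype.val (inverted_fitting_commute α hcomm (hfit ⟨a, ha.1⟩ ((hinv _).2 ha.2))
    (hfit ⟨b, hb.1⟩ ((hinv _).2 hb.2)) ((hinv _).2 ha.2) ((hinv _).2 hb.2))

end Frame

end Cfsg.Lib.GW
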