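import Cfsg.Agent.FourGroupGW.Coprime
import Cfsg.Agent.FourGroupGW.Kinds
import Cfsg.Agent.GenDihedral.CoreThm
import Cfsg.Agent.InvolCalc.KleinSylow
import Cfsg.Agent.S0204

/-!
Gorenstein–Walter, four-group case: assembly of the pieces.
-/

set_option autoImplicit false
set_option linter.unusedSectionVars false
set_option linter.style.haveILetI false

namespace Cfsg.Lib.GW

open Subgroup
open Cfsg.Lib.GenDihedral (inv_of_two mem_of_sq)

universe u

variable {G : Type u} [Group G] [Finite G]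

namespace Frame

variable (F : Frame G)

/-- The pieces give `W = 1`. -/
theorem W_eq_bot (hMax : F.Maximal) (hKill : F.LinearKill) (hMixed : F.NoMixed) (hInv : F.NoInverted) :
    F.W = ⊥ := by
  by_contra hW
  have hC := hMax hW
  refine hW (hKill (F.isMulCommutative_T (fun p hS => ?_) fun p => (hMixed hW hC p).2))
  exact (hMixed hW hC p).1 (hInv hW hC p hS)

/-- With `W = 1` the centraliser of `t` is generalised dihedral and the group is a `PSL₂`. -/
theorem iso_psl (hm : Minimal G) (hW : F.W = ⊥) :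
    ∃ (K : Type) (_ : Field K) (_ : Fintype K), Odd (Fintype.card K) ∧
      Nonempty (G ≃* Matrix.ProjectiveSpecialLinearGroup (Fin 2) K) := by
  haveI := hm.simple
  have ho : ∀ x ∈ F.O, Odd (orderOf x) := fun x hx => odd_orderOf F.odd_card_O hx
  -- `u` inverts `O`
  have hinv : ∀ x ∈ F.O, F.u * x * F.u⁻¹ = x⁻¹ := by
    intro x hx
    obtain ⟨a, ha, b, hb, hafix, hbinv, rfl⟩ :=
      exists_fixed_mul_inverted F.odd_card_O F.u_sq (F.U_le_normalizer_O F.u_mem_U) hx
    have ha1 : a = 1 := by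
      have : a ∈ F.W := F.mem_W.2 ⟨ha, (mul_inv_eq_iff_eq_mul.1 hafix).symm⟩
      rwa [hW, mem_bot] at this
    rw [ha1, one_mul, hbinv]
  have hcomm : ∀ a ∈ F.O, ∀ b ∈ F.O, a * b = b * a := by
    intro a ha b hb
    have := hinv _ (mul_mem ha hb)
    rw [← conj_mul, hinv a ha, hinv b hb, ← mul_inv_rev, inv_inj] at this
    exact this.symm
  set A : Subgroup G := F.O ⊔ zpowers F.t with hA
  have hAC : A ≤ F.C := sup_le F.O_le (zpowers_le.2 (F.mem_C.2 rfl))
  have hmem : ∀ x ∈ A, x ∈ F.O ∨ x * F.t ∈ F.O := by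
    intro x hx
    obtain ⟨a, ha, b, hb, rfl⟩ := (Cfsg.Lib.Coprime.mem_sup_of_le_normalizer
      ((zpowers_le.2 (F.mem_C.2 rfl : F.t ∈ F.C)).trans F.C_le_normalizer_O)).1 hx
    obtain ⟨i, rfl⟩ := mem_zpowers_iff.1 hb
    rcases Int.even_or_odd' i with ⟨j, rfl | rfl⟩
    · left
      rwa [zpow_mul, zpow_two, F.t_sq, one_zpow, mul_one]
    · right
      rwa [zpow_add, zpow_mul, zpow_two, F.t_sq, one_zpow, one_mul, zpow_one,
        mul_assoc, F.t_sq, mul_one]
  have htA : F.t ∈ A := mem_sup_right (mem_zpowers _)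
  have hOc : ∀ a ∈ F.O, a * F.t = F.t * a := fun a ha => F.mem_C.1 (F.O_le ha)
  have huA : F.u ∉ A := by
    intro h
    rcases hmem F.u h with h | h
    · have := ho _ h; rw [F.u_order] at this; exact absurd this (by decide)
    · have := ho _ h; rw [← F.comm, F.v_order] at this; exact absurd this (by decide)
  have hout : ∀ x ∈ F.C, x ∉ A → ∃ b ∈ F.O, x = F.u * b ∨ x = F.t * F.u * b := by
    intro x hx hxA
    rw [F.C_eq hm] at hx
    obtain ⟨a, ha, b, hb, rfl⟩ := (Cfsg.Lib.Coprime.mem_sup_of_le_normalizer' F.U_le_normalizer_O).1 hx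
    rcases F.mem_U.1 ha with rfl | rfl | rfl | rfl
    · exact absurd (by rw [one_mul]; exact mem_sup_left hb) hxA
    · exact absurd (mul_mem htA (mem_sup_left hb)) hxA
    · exact ⟨b, hb, Or.inl rfl⟩
    · exact ⟨b, hb, Or.inr rfl⟩
  have hsq : ∀ b ∈ F.O, F.u * b * (F.u * b) = 1 := fun b hb => by
    have h := hinv b hb
    rw [F.u_inv] at h
    rw [show F.u * b * (F.u * b) = (F.u * b * F.u) * b by group, h, inv_mul_cancel]
  have hH : Cfsg.Lib.GenDihedral.Hyp F.t A := by
    refine ⟨F.t_order, htA, hAC, ?_, ?_, ?_, ?_, ?_⟩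
    · intro a ha b hb
      have hAc : A ≤ centralizer (A : Set G) := by
        rw [hA]
        refine sup_le (fun x hx => mem_centralizer_iff.2 fun y hy => ?_) (zpowers_le.2 ?_)
        · rcases hmem y hy with h | h
          · exact hcomm y h x hx
          · rw [show y = y * F.t * F.t by rw [mul_assoc, F.t_sq, mul_one]]
            calc y * F.t * F.t * x = y * F.t * (F.t * x) := by group
              _ = (y * F.t * x) * F.t := by rw [← hOc x hx]; group
              _ = x * (y * F.t * F.t) := by rw [hcomm _ h x hx]; group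
        · exact mem_centralizer_iff.2 fun y hy => F.mem_C.1 (hAC hy)
      exact mem_centralizer_iff.1 (hAc hb) a ha
    · rw [relIndex, index_eq_two_iff]
      refine ⟨⟨F.u, F.U_le_C F.u_mem_U⟩, fun x => ?_⟩
      rw [Xor]
      by_cases hx : (x : G) ∈ A
      · refine Or.inr ⟨hx, fun h => huA ?_⟩
        exact (A.mul_mem_cancel_left hx).1 (mem_subgroupOf.1 h)
      · refine Or.inl ⟨?_, hx⟩
        rw [mem_subgroupOf]
        show (x : G) * F.u ∈ A
        obtain ⟨b, hb, h | h⟩ := hout x x.2 hx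
        · have h' := hinv b hb
          rw [F.u_inv] at h'
          rw [h, h']
          exact mem_sup_left (inv_mem hb)
        · rw [h, show F.t * F.u * b * F.u = F.t * (F.u * b * F.u⁻¹) by rw [F.u_inv]; group, hinv b hb]
          exact mul_mem htA (mem_sup_left (inv_mem hb))
    · intro a ha ha2
      rcases hmem a ha with h | h
      · have := ho _ h; rw [ha2] at this; exact absurd this (by decide)
      · have hc : a * F.t = F.t * a := F.mem_C.1 (hAC ha)
        have h1 : a * F.t * (a * F.t) = 1 := by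
          calc a * F.t * (a * F.t) = a * (F.t * a) * F.t := by group
            _ = (a * a) * (F.t * F.t) := by rw [← hc]; group
            _ = 1 := by rw [F.t_sq, Cfsg.Lib.GenDihedral.mul_self_of_two ha2, mul_one]
        have h2 : a * F.t = 1 := mem_bot.1 (mem_of_sq (W := ⊥) (ho _ h) (mem_bot.2 h1))
        rw [mul_eq_one_iff_eq_inv.1 h2, F.t_inv]
    · intro x hx hxA
      obtain ⟨b, hb, rfl | rfl⟩ := hout x hx hxA
      · exact hsq b hb
      · have hc : F.u * b * F.t = F.t * (F.u * b) := F.mem_C.1 (mul_mem (F.U_le_C F.u_mem_U) (F.O_le hb))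
        calc F.t * F.u * b * (F.t * F.u * b) = F.t * (F.u * b * F.t) * (F.u * b) := by group
          _ = (F.t * F.t) * (F.u * b * (F.u * b)) := by rw [hc]; group
          _ = 1 := by rw [F.t_sq, hsq b hb, one_mul]
    · haveI : Fact (Nat.Prime 2) := ⟨Nat.prime_two⟩
      rw [Nat.odd_iff, ← Nat.two_dvd_ne_zero]
      intro h
      exact (F.sylowU hm).not_dvd_index
        (h.trans (index_dvd_of_le (by rw [F.coe_sylowU hm]; exact F.U_le_C)))
  have hns : ¬ Group.IsSolvable G := fun hs =>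
    hm.nonab ⟨⟨fun a b => (IsSimpleGroup.comm_iff_isSolvable.2 hs) a b⟩⟩
  exact Cfsg.Lib.GenDihedral.Core.iso_psl (⟨hH, hm.simple, hns⟩ : Cfsg.Lib.GenDihedral.Core F.t A)

end Frame

theorem four_cases {P : Subgroup G} (hP : IsKleinFour P) {a b y : G} (ha : a ∈ P) (hb : b ∈ P) (hy : y ∈ P)
    (ha1 : a ≠ 1) (hb1 : b ≠ 1) (hab : a ≠ b) : y = 1 ∨ y = a ∨ y = b ∨ y = a * b := by
  haveI := hP
  by_cases h1 : y = 1
  · exact Or.inl h1
  by_cases h2 : y = a
  · exact Or.inr (Or.inl h2)
  by_cases h3 : y = b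
  · exact Or.inr (Or.inr (Or.inl h3))
  refine Or.inr (Or.inr (Or.inr ?_))
  have hne : ∀ {v w : G} (hv : v ∈ P) (hw : w ∈ P), v ≠ w → (⟨v, hv⟩ : P) ≠ ⟨w, hw⟩ :=
    fun _ _ h e => h (congrArg Subtype.val e)
  exact congrArg Subtype.val (IsKleinFour.eq_mul_of_ne_all (x := (⟨a, ha⟩ : P)) (y := ⟨b, hb⟩) (z := ⟨y, hy⟩)
    (fun e => ha1 (congrArg Subtype.val e)) (fun e => hb1 (congrArg Subtype.val e)) (hne ha hb hab)
    (fun e => h1 (congrArg Subtype.val e)) (hne hy ha h2) (hne hy hb h3))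

/-- An element normalising a four-group Sylow subgroup and fixing one of its involutions centralises it. -/
theorem centralizes_four {P : Sylow 2 G} (hP : IsKleinFour (P : Subgroup G)) {g w : G}
    (hg : g ∈ normalizer ((P : Subgroup G) : Set G)) (hw : w ∈ (P : Subgroup G)) (hw1 : w ≠ 1)
    (h : g * w * g⁻¹ = w) {x : G} (hx : x ∈ (P : Subgroup G)) : g * x * g⁻¹ = x := by
  haveI := hP
  haveI : Fact (Nat.Prime 2) := ⟨Nat.prime_two⟩
  haveI := Cfsg.Lib.KleinSylow.comm_of_klein P hP
  rcases eq_or_ne x 1 with rfl | hx1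
  · simp
  rcases eq_or_ne x w with rfl | hxw
  · exact h
  rcases four_cases hP hw hx ((mem_normalizer_iff.1 hg x).1 hx) hw1 hx1 (Ne.symm hxw) with e | e | e | e
  · exact absurd (conj_eq_one_iff.1 e) hx1
  · exact absurd ((MulAut.conj g).injective (show g * x * g⁻¹ = g * w * g⁻¹ by rw [e, h])) hxw
  · exact e
  exfalso
  obtain ⟨k, m, hm', hk⟩ := Nat.exists_eq_pow_mul_and_not_dvd (orderOf_pos g).ne' 2 (by norm_num)
  have hpow : ∀ j : ℕ, g ^ j * w * (g ^ j)⁻¹ = w ∧ g ^ j * x * (g ^ j)⁻¹ = if Even j then x else w * x := by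
    intro j
    induction j with
    | zero => simp
    | succ j ih =>
      have e' : ∀ z : G, g ^ (j + 1) * z * (g ^ (j + 1))⁻¹ = g * (g ^ j * z * (g ^ j)⁻¹) * g⁻¹ := fun z => by
        rw [pow_succ']; group
      refine ⟨by rw [e', ih.1, h], ?_⟩
      rw [e', ih.2]
      by_cases hj : Even j
      · simp [hj, Nat.even_add_one, e]
      · simp only [hj, if_false, Nat.even_add_one, not_false_eq_true, if_true]
        have hww : w * w = 1 := congrArg Subtype.val (IsKleinFour.mul_self (⟨w, hw⟩ : (P : Subgroup G)))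
        rw [← conj_mul, h, e, ← mul_assoc, hww, one_mul]
  have hy : IsPGroup 2 (zpowers (g ^ m)) := by
    refine IsPGroup.of_card (n := k) ?_
    rw [Nat.card_zpowers, orderOf_pow, hk, Nat.gcd_eq_right (dvd_mul_left m _),
      Nat.mul_div_cancel _ (Nat.pos_of_ne_zero fun e => hm' (by rw [e]; exact dvd_zero 2))]
  have hS := hy.to_sup_of_normal_right' P.2 (zpowers_le.2 (pow_mem hg m))
  have hmem : g ^ m ∈ (P : Subgroup G) := P.3 hS le_sup_right ▸ mem_sup_left (mem_zpowers _)
  have h2 := (hpow m).2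
  rw [if_neg (fun he => hm' (even_iff_two_dvd.1 he)),
    show g ^ m * x = x * g ^ m from congrArg Subtype.val (mul_comm' (⟨_, hmem⟩ : (P : Subgroup G)) ⟨_, hx⟩),
    mul_inv_cancel_right] at h2
  exact hw1 (mul_eq_right.1 h2.symm)

/-- A minimal counterexample has a frame. -/
theorem nonempty_frame (hm : Minimal G) : Nonempty (Frame G) := by
  haveI := hm.simple
  haveI : Fact (Nat.Prime 2) := ⟨Nat.prime_two⟩
  obtain ⟨V, hV⟩ := Cfsg.Agent.S0204.result (G := G) fun h => hm.nonab ⟨⟨fun a b => by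
    obtain ⟨g, hg⟩ := h.exists_generator
    obtain ⟨i, rfl⟩ := mem_zpowers_iff.1 (hg a)
    obtain ⟨j, rfl⟩ := mem_zpowers_iff.1 (hg b)
    exact zpow_mul_comm g i j⟩⟩
  obtain ⟨P, hP⟩ := (IsPGroup.of_card (G := V) (p := 2) (n := 2) (hV.card_four.trans rfl)).exists_le_sylow
  have hPV : (P : Subgroup G) = V := (Cfsg.Lib.Coprime.eq_of_le_of_card_eq hP (by
    rw [hV.card_four]; exact (hm.card_sylow P).symm)).symm
  have hPk : IsKleinFour (P : Subgroup G) := by rw [hPV]; exact hV
  haveI := Cfsg.Lib.KleinSylow.comm_of_klein P hPk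
  haveI := hPk
  have hsq : ∀ x : G, x ∈ (P : Subgroup G) → x ≠ 1 → orderOf x = 2 := fun x hx hx1 =>
    orderOf_eq_prime (by
      rw [pow_two]; exact congrArg Subtype.val (IsKleinFour.mul_self (⟨x, hx⟩ : (P : Subgroup G)))) hx1
  -- some element of the normaliser does not centralise the four-group
  obtain ⟨n, hn, x, hx, hne⟩ : ∃ n ∈ normalizer ((P : Subgroup G) : Set G), ∃ x ∈ (P : Subgroup G),
      n * x * n⁻¹ ≠ x := by
    by_contra hc
    push Not at hc
    have hN : normalizer ((P : Subgroup G) : Set G) ≤ centralizer ((P : Subgroup G) : Set G) := fun n hn =>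
      mem_centralizer_iff.2 fun x hx => (mul_inv_eq_iff_eq_mul.1 (hc n hn x hx)).symm
    have hker := MonoidHom.ker_transferSylow_isComplement' P hN
    rcases hm.simple.eq_bot_or_eq_top_of_normal _ (MonoidHom.normal_ker (MonoidHom.transferSylow P hN)) with h | h
    · have htop := hker.sup_eq_top
      rw [h, bot_sup_eq] at htop
      refine hm.nonab ⟨⟨fun a b => ?_⟩⟩
      exact congrArg Subtype.val (mul_comm' (⟨a, htop ▸ mem_top a⟩ : (P : Subgroup G)) ⟨b, htop ▸ mem_top b⟩)
    · have hd := hker.disjoint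
      rw [h, top_disjoint] at hd
      have := hPk.card_four
      rw [hd, card_bot] at this
      omega
  have hx1 : x ≠ 1 := fun e => hne (by subst e; simp)
  have hxmem : n * x * n⁻¹ ∈ (P : Subgroup G) := (mem_normalizer_iff.1 hn x).1 hx
  refine ⟨⟨x, n * x * n⁻¹, n, hsq x hx hx1, hsq _ hxmem (fun e => hx1 (conj_eq_one_iff.1 e)), fun e => hne e.symm,
    congrArg Subtype.val (mul_comm' (⟨x, hx⟩ : (P : Subgroup G)) ⟨_, hxmem⟩), rfl, ?_⟩⟩
  set y := n * x * n⁻¹ with hy
  have hy1 : y ≠ 1 := fun e => hx1 (conj_eq_one_iff.1 e)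
  have hny : n * y * n⁻¹ ∈ (P : Subgroup G) := (mem_normalizer_iff.1 hn _).1 hxmem
  have h1 : n * y * n⁻¹ ≠ y := fun e => hne ((MulAut.conj n).injective (show n * y * n⁻¹ = n * x * n⁻¹ from e))
  have hxx : x * x = 1 := congrArg Subtype.val (IsKleinFour.mul_self (⟨x, hx⟩ : (P : Subgroup G)))
  have hyy : y * y = 1 := congrArg Subtype.val (IsKleinFour.mul_self (⟨y, hxmem⟩ : (P : Subgroup G)))
  have h2 : n * y * n⁻¹ ≠ x := by
    intro e
    have hc : n * (x * y) * n⁻¹ = x * y := by
      rw [← conj_mul, ← hy, e]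
      exact congrArg Subtype.val (mul_comm' (⟨_, hxmem⟩ : (P : Subgroup G)) ⟨x, hx⟩)
    exact hne (centralizes_four hPk hn (mul_mem hx hxmem) (fun h0 => hne (by
      show y = x
      rw [eq_inv_of_mul_eq_one_right h0, inv_eq_of_mul_eq_one_right hxx])) hc hx)
  rcases four_cases hPk hx hxmem hny hx1 hy1 (fun e => hne e.symm) with e | e | e | e
  · exact absurd (conj_eq_one_iff.1 e) hy1
  · exact absurd e h2
  · exact absurd e h1
  · exact e

end Cfsg.Lib.GW
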