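import Cfsg.Agent.Chars.Extraspecial
import Cfsg.Agent.Chars.NDAD.Basic

/-!
# Characters which are non-trivial on a central commutator of a nilpotent-of-class-two layer

`A ≤ K` with `A` central, `K` normal with cyclic quotient, and every element of `K` outside `A` has a
non-trivial commutator in `⟨z⟩`.  An irreducible character which is not trivial at `z` vanishes on
`K` outside `A` and has degree the square root of `|K : A|`.
-/

set_option autoImplicit false
set_option linter.unusedSectionVars false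
set_option linter.style.haveILetI false

namespace Cfsg.Lib.GW

open scoped ComplexConjugate
open Cfsg.Lib.Chars

universe u

variable {G : Type u} [Group G] [Finite G]

/-- A central element at which an irreducible character is not trivial gives a vanishing rule. -/
theorem vanish_of_comm {χ : G → ℂ} (hχ : Cfsg.IsIrrCharacter G χ) {z : G} {p : ℕ} (hp : p.Prime)
    (hz : z ∈ Subgroup.center G) (hzp : z ^ p = 1) (hzχ : χ z ≠ χ 1) {k y : G}
    (hc : y * k * y⁻¹ * k⁻¹ ∈ Subgroup.zpowers z) (hc1 : y * k * y⁻¹ * k⁻¹ ≠ 1) : χ k = 0 := by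
  have h10 : χ 1 ≠ 0 := IsIrrCharacter.apply_one_ne_zero hχ
  set c := y * k * y⁻¹ * k⁻¹ with hcd
  have hcC : c ∈ Subgroup.center G := (Subgroup.zpowers_le.2 hz) hc
  have hck : χ (c * k) = χ k := by
    rw [hcd, inv_mul_cancel_right]
    exact isClassFunction_irr ⟨χ, hχ⟩ k y
  have h := center_mul_of_irr hχ hcC k
  rw [hck, mul_comm] at h
  by_contra hk
  have hc' : χ c = χ 1 := (mul_right_cancel₀ hk h).symm
  have hpow : ∀ n : ℕ, χ (c ^ n) = χ 1 := by
    intro n
    induction n with
    | zero => rw [pow_zero]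
    | succ n ih =>
      have h2 := center_mul_of_irr hχ hcC (c ^ n)
      rw [ih, hc', ← pow_succ'] at h2
      exact mul_right_cancel₀ h10 h2
  haveI : Fact p.Prime := ⟨hp⟩
  have hzc : z ∈ Subgroup.zpowers c := by
    have hz1 : z ≠ 1 := fun h => hc1 (by
      have : c ∈ Subgroup.zpowers (1 : G) := by rwa [h] at hc
      rwa [Subgroup.zpowers_one_eq_bot, Subgroup.mem_bot] at this)
    have hoz : orderOf z = p := orderOf_eq_prime hzp hz1
    have hoc : orderOf c = p := by
      rcases (Nat.dvd_prime hp).1 (hoz ▸ (orderOf_dvd_of_mem_zpowers hc)) with h' | h'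
      · exact absurd (orderOf_eq_one_iff.1 h') hc1
      · exact h'
    have heq : Subgroup.zpowers c = Subgroup.zpowers z :=
      Subgroup.eq_of_le_of_card_ge (Subgroup.zpowers_le.2 hc)
        (by rw [Nat.card_zpowers, Nat.card_zpowers, hoz, hoc])
    rw [heq]; exact Subgroup.mem_zpowers z
  obtain ⟨n, rfl⟩ := mem_powers_iff_mem_zpowers.2 hzc
  exact hzχ (hpow n)

/-- At a central element the values form the degree times a root of unity. -/
theorem mul_conj_center {χ : G → ℂ} (hχ : Cfsg.IsIrrCharacter G χ) {a : G}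
    (ha : a ∈ Subgroup.center G) : χ a * conj (χ a) = χ 1 * χ 1 := by
  have h := center_mul_of_irr hχ ha a⁻¹
  rw [mul_inv_cancel, IsCharacter.conj_inv (isCharacter_of_irr hχ)] at h
  exact h.symm

/-- Degree and zeros of a character over a non-trivial character of `⟨z⟩`. -/
theorem deg_of_pair [Fintype G] (K A : Subgroup G) [K.Normal] (hcyc : IsCyclic (G ⧸ K)) (hAK : A ≤ K)
    (hA : A ≤ Subgroup.center G) {z : G} {p n : ℕ} (hp : p.Prime) (hz : z ∈ A) (hzp : z ^ p = 1)
    (hcard : Nat.card K = n ^ 2 * Nat.card A)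
    (hnd : ∀ k ∈ K, k ∉ A →
      ∃ y ∈ K, y * k * y⁻¹ * k⁻¹ ∈ Subgroup.zpowers z ∧ y * k * y⁻¹ * k⁻¹ ≠ 1)
    {χ : G → ℂ} (hχ : Cfsg.IsIrrCharacter G χ) (hzχ : χ z ≠ χ 1) :
    χ 1 = n ∧ ∀ k ∈ K, k ∉ A → χ k = 0 := by
  classical
  have hvan : ∀ k ∈ K, k ∉ A → χ k = 0 := fun k hk hkA => by
    obtain ⟨y, -, h1, h2⟩ := hnd k hk hkA
    exact vanish_of_comm hχ hp (hA hz) hzp hzχ h1 h2
  refine ⟨?_, hvan⟩
  haveI : Fintype K := Fintype.ofFinite _
  have hχ1 := IsIrrCharacter.apply_one_ne_zero hχ
  obtain ⟨θ, hθ, hθc⟩ := exists_constituent K (isCharacter_of_irr hχ) hχ1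
  have hcl := clifford K hχ hθ hθc
  set e := Cfsg.classInner (fun k : K => χ k) θ
  have hcent : ∀ (a : K), (a : G) ∈ A → a ∈ Subgroup.center K := fun a ha =>
    Subgroup.mem_center_iff.2 fun x => Subtype.ext (Subgroup.mem_center_iff.1 (hA ha) x)
  have hconj : ∀ (g : G) (a : K), (a : G) ∈ A → conjN K g θ a = θ a := by
    intro g a ha
    show θ _ = θ a
    congr 1
    exact Subtype.ext (by
      show g * (a : G) * g⁻¹ = a
      rw [Subgroup.mem_center_iff.1 (hA ha) g, mul_inv_cancel_right])
  have hat : ∀ (a : K), (a : G) ∈ A → χ a = e * ((conjOrbit K θ).card : ℂ) * θ a := by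
    intro a ha
    have h := congrFun hcl a
    simp only [Pi.smul_apply, Finset.sum_apply, smul_eq_mul] at h
    rw [h, Finset.sum_congr rfl (g := fun _ => θ a) fun ψ hψ => ?_, Finset.sum_const, nsmul_eq_mul,
      mul_assoc]
    obtain ⟨g, rfl⟩ := (mem_conjOrbit K).1 hψ
    exact hconj g a ha
  set zK : K := ⟨z, hAK hz⟩
  have hθz : θ zK ≠ θ 1 := by
    intro h
    apply hzχ
    have h1 := hat zK hz
    have h2 := hat 1 (by simp)
    rw [h, ← h2] at h1
    simpa using h1
  have hθvan : ∀ k : K, (k : G) ∉ A → θ k = 0 := fun k hk => by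
    obtain ⟨y, hy, h1, h2⟩ := hnd k k.2 hk
    refine vanish_of_comm hθ hp (hcent zK hz) (Subtype.ext (by simp [zK, hzp])) hθz (y := ⟨y, hy⟩) ?_
      fun h => h2 (by simpa using congrArg Subtype.val h)
    obtain ⟨i, hi⟩ := Subgroup.mem_zpowers_iff.1 h1
    exact Subgroup.mem_zpowers_iff.2 ⟨i, Subtype.ext (by simpa [zK] using hi)⟩
  have hθ1 : θ 1 = n := by
    obtain ⟨m, hm, hm1⟩ := IsIrrCharacter.apply_one hθ
    have hsum : (Nat.card K : ℂ) = ∑ k : K, θ k * conj (θ k) := by
      have h := classInner_self_irr hθ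
      rw [classInner_def] at h
      field_simp at h
      exact h.symm
    rw [← Finset.sum_filter_of_ne (p := fun k : K => (k : G) ∈ A) (fun k _ hk => by
      by_contra hkA; exact hk (by rw [hθvan k hkA, zero_mul])),
      Finset.sum_congr rfl (g := fun _ => θ 1 * θ 1) fun k hk =>
        mul_conj_center hθ (hcent k (Finset.mem_filter.1 hk).2),
      Finset.sum_const, nsmul_eq_mul, ← Fintype.card_subtype, ← Nat.card_eq_fintype_card,
      show Nat.card {x : K // (x : G) ∈ A} = Nat.card A from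
        Nat.card_congr (Subgroup.subgroupOfEquivOfLe hAK).toEquiv, hm1] at hsum
    have hnat : Nat.card K = Nat.card A * (m * m) := by exact_mod_cast hsum
    rw [hm1, Nat.cast_inj]
    rw [hcard, mul_comm (n ^ 2)] at hnat
    have := Nat.eq_of_mul_eq_mul_left Nat.card_pos hnat
    exact (Nat.pow_left_injective two_ne_zero (this.trans (pow_two m).symm)).symm
  have hinv : inertia K θ = ⊤ := by
    refine Subgroup.eq_top_iff' _ |>.2 fun g => mem_inertia.2 (funext fun k => ?_)
    by_cases hk : (k : G) ∈ A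
    · exact hconj g k hk
    · rw [hθvan k hk]
      refine hθvan _ fun h => hk ?_
      have h' := Subgroup.mem_center_iff.1 (hA h) g
      simp only at h'
      rw [mul_assoc g (k : G)] at h'
      have h2 : (k : G) = g * k * g⁻¹ := by
        have h3 := congrArg (fun x => g⁻¹ * x) h'
        simp only [← mul_assoc, inv_mul_cancel, one_mul] at h3
        simpa [mul_assoc] using h3.symm
      rw [h2]; exact h
  have hd := Cfsg.Lib.NDAD.deg_eq_of_cyclic K hcyc hχ hθ hθc
  rw [hinv, Subgroup.index_top, one_mul] at hd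
  rw [IsCharacter.apply_one_eq_deg (isCharacter_of_irr hχ), hd,
    ← IsCharacter.apply_one_eq_deg (isCharacter_of_irr hθ), hθ1]

end Cfsg.Lib.GW
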