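import Cfsg.Agent.FourGroupGW.CharSpec
import Cfsg.Agent.FourGroupGW.Basic
import Cfsg.Agent.Chars.Values
import Cfsg.Agent.Chars.Construct
import Cfsg.Agent.OddChar.PF.OddOrder

/-!
# Four-group blocks: the bounds on `F₀` and the linear characters
-/

set_option autoImplicit false
set_option linter.unusedSectionVars false

namespace Cfsg.Lib.GW

open Subgroup
open Cfsg.Lib.Chars

universe u

/-- the possible signed degrees -/
def SignedDeg (s : ℤ) : Prop := s % 4 = 1 ∧ (5 ≤ s ∨ s ≤ -7)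

theorem signed_cases {s : ℤ} (h : SignedDeg s) :
    (5 ≤ s ∧ (0 : ℚ) < 1 / s ∧ (1 : ℚ) / s ≤ 1 / 5) ∨ (s ≤ -7 ∧ (1 : ℚ) / s < 0 ∧ -(1 / 7 : ℚ) ≤ 1 / s) := by
  rcases h.2 with h5 | h7
  · refine Or.inl ⟨h5, ?_, ?_⟩
    · exact div_pos one_pos (by exact_mod_cast (by omega : (0 : ℤ) < s))
    · exact one_div_le_one_div_of_le (by norm_num) (by exact_mod_cast h5)
  · have hs : (s : ℚ) ≤ -7 := by exact_mod_cast h7
    refine Or.inr ⟨h7, div_neg_of_pos_of_neg one_pos (by linarith), ?_⟩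
    rw [le_div_iff_of_neg (by linarith)]
    linarith

theorem four_zero_bound {a b c e : ℤ} (ha : SignedDeg a) (hb : SignedDeg b) (hc : SignedDeg c) (he : SignedDeg e)
    (h : a + b + c + e = 0) : (1 : ℚ) / a + 1 / b + 1 / c + 1 / e ≤ 3 / 5 := by
  rcases signed_cases ha with ⟨ha', ha1, ha2⟩ | ⟨ha', ha1, ha2⟩ <;>
    rcases signed_cases hb with ⟨hb', hb1, hb2⟩ | ⟨hb', hb1, hb2⟩ <;>
    rcases signed_cases hc with ⟨hc', hc1, hc2⟩ | ⟨hc', hc1, hc2⟩ <;>
    rcases signed_cases he with ⟨he', he1, he2⟩ | ⟨he', he1, he2⟩ <;>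
    first | omega | linarith

theorem three_bound {a b c : ℤ} (ha : SignedDeg a) (hb : SignedDeg b) (hc : SignedDeg c) (h : a + b + c = -1) :
    5 / 7 < 1 + ((1 : ℚ) / a + 1 / b + 1 / c) ∧ 1 + ((1 : ℚ) / a + 1 / b + 1 / c) < 7 / 5 := by
  rcases signed_cases ha with ⟨ha', ha1, ha2⟩ | ⟨ha', ha1, ha2⟩ <;>
    rcases signed_cases hb with ⟨hb', hb1, hb2⟩ | ⟨hb', hb1, hb2⟩ <;>
    rcases signed_cases hc with ⟨hc', hc1, hc2⟩ | ⟨hc', hc1, hc2⟩ <;>
    first | omega | constructor <;> linarith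

/-- no solution with one degree `x ∈ {7, 9, 11}`, ordered degrees -/
theorem no_move_sorted {x a b c : ℤ} (hx : x = 7 ∨ x = 9 ∨ x = 11) (ha : SignedDeg a) (hb : SignedDeg b)
    (hc : SignedDeg c) (hab : a ≤ b) (hbc : b ≤ c) (h : a + b + c = -1)
    (he : x * (a * b + b * c + c * a) = (8 - x) * (a * b * c)) : False := by
  obtain ⟨ha4, ha'⟩ := ha
  obtain ⟨hb4, hb'⟩ := hb
  obtain ⟨hc4, hc'⟩ := hc
  have hc5 : 5 ≤ c := by omega
  have ha7 : a ≤ -7 := by omega
  rcases hb' with hb5 | hb7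
  · -- two positive
    have hb_le : b ≤ 13 := by
      by_contra hb13
      have hb17 : 17 ≤ b := by omega
      have ha11 : 0 ≤ -a - 11 := by omega
      have hbc0 : 0 < b * c := by nlinarith
      rcases hx with rfl | rfl | rfl
      · have h17 : (0 : ℤ) ≤ (b - 17) * (c - 17) := mul_nonneg (by omega) (by omega)
        have h1 : 0 ≤ b * c - 7 * b - 7 * c := by nlinarith
        nlinarith [mul_nonneg (show (0 : ℤ) ≤ -a by omega) h1]
      · nlinarith [mul_nonneg ha11 (show (0 : ℤ) ≤ b * c + 9 * b + 9 * c by nlinarith)]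
      · nlinarith [mul_nonneg ha11 (show (0 : ℤ) ≤ 3 * (b * c) + 11 * b + 11 * c by nlinarith)]
    have : a = -1 - b - c := by omega
    subst this
    interval_cases b <;> rcases hx with rfl | rfl | rfl <;> try omega
    all_goals
      have hcb : c ≤ 40 := by nlinarith
      interval_cases c <;> omega
  · -- two negative
    have hb_ge : -17 ≤ b := by
      by_contra hb17
      have hc' : c = -1 - a - b := by omega
      have h1 : 0 ≤ a * b + 9 * a + 9 * b := by nlinarith
      have h2 : 0 < a * b := by nlinarith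
      rcases hx with rfl | rfl | rfl <;>
        nlinarith [mul_nonneg (by omega : (0 : ℤ) ≤ c) h1]
    have : c = -1 - a - b := by omega
    subst this
    interval_cases b <;> rcases hx with rfl | rfl | rfl <;> try omega
    all_goals
      have hab2 : -60 ≤ a := by nlinarith
      interval_cases a <;> omega

theorem no_move {x a b c : ℤ} (hx : x = 7 ∨ x = 9 ∨ x = 11) (ha : SignedDeg a) (hb : SignedDeg b)
    (hc : SignedDeg c) (h : a + b + c = -1)
    (he : x * (a * b + b * c + c * a) = (8 - x) * (a * b * c)) : False := by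
  rcases le_total a b with h1 | h1 <;> rcases le_total b c with h2 | h2 <;> rcases le_total a c with h3 | h3
  all_goals first
    | exact no_move_sorted hx ha hb hc (by omega) (by omega) (by omega) (by linarith [he])
    | exact no_move_sorted hx ha hc hb (by omega) (by omega) (by omega) (by linarith [he])
    | exact no_move_sorted hx hb ha hc (by omega) (by omega) (by omega) (by linarith [he])
    | exact no_move_sorted hx hb hc ha (by omega) (by omega) (by omega) (by linarith [he])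
    | exact no_move_sorted hx hc ha hb (by omega) (by omega) (by omega) (by linarith [he])
    | exact no_move_sorted hx hc hb ha (by omega) (by omega) (by omega) (by linarith [he])

variable {G : Type u} [Group G] [Finite G]

/-- the average of a representation over a four-group: multiplicity and vanishing -/
theorem four_average {V : Type*} [AddCommGroup V] [Module ℂ V] [FiniteDimensional ℂ V]
    (ρ : Representation ℂ G V) {t u : G} (ht : t * t = 1) (hu : u * u = 1) (htu : t * u = u * t) :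
    (∃ n : ℕ, ρ.character 1 + ρ.character t + ρ.character u + ρ.character (t * u) = 4 * n) ∧
    (ρ.character 1 + ρ.character t + ρ.character u + ρ.character (t * u) = 0 →
      ∀ w : G, ρ.character w + ρ.character (t * w) + ρ.character (u * w) + ρ.character (t * u * w) = 0) := by
  set S : V →ₗ[ℂ] V := ρ 1 + ρ t + ρ u + ρ (t * u) with hS
  have hut : u * (t * u) = t := by rw [htu, ← mul_assoc, hu, one_mul]
  have htt : t * (t * u) = u := by rw [← mul_assoc, ht, one_mul]
  have h1 : t * u * t = u := by rw [htu, mul_assoc, ht, mul_one]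
  have h2 : t * u * u = t := by rw [mul_assoc, hu, mul_one]
  have h3 : t * u * (t * u) = 1 := by rw [mul_assoc, hut, ht]
  have hSS : S * S = (4 : ℂ) • S := by
    simp only [hS, mul_add, add_mul, ← map_mul, one_mul, mul_one, ht, hu, htt, hut, h1, h2, h3, htu.symm]
    rw [show (4 : ℂ) = 1 + 1 + 1 + 1 by norm_num, add_smul, add_smul, add_smul, one_smul]
    abel
  have hP : IsIdempotentElem ((4 : ℂ)⁻¹ • S) := by
    show ((4 : ℂ)⁻¹ • S) * ((4 : ℂ)⁻¹ • S) = _
    rw [smul_mul_smul_comm, hSS, smul_smul]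
    congr 1
    norm_num
  have htr : LinearMap.trace ℂ V ((4 : ℂ)⁻¹ • S) =
      (4 : ℂ)⁻¹ * (ρ.character 1 + ρ.character t + ρ.character u + ρ.character (t * u)) := by
    simp only [hS, map_smul, map_add, smul_eq_mul, Representation.character]
  refine ⟨⟨Module.finrank ℂ (LinearMap.range ((4 : ℂ)⁻¹ • S)), ?_⟩, fun h0 w => ?_⟩
  · rw [← (LinearMap.IsIdempotentElem.isProj_range _ hP).trace, htr]
    ring
  · rw [h0, mul_zero] at htr
    have hz := LinearMap.IsIdempotentElem.eq_zero_of_trace_eq_zero hP htr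
    have hS0 : S = 0 := (smul_eq_zero.1 hz).resolve_left (by norm_num)
    have : LinearMap.trace ℂ V (S * ρ w) = 0 := by rw [hS0, zero_mul, map_zero]
    simpa only [hS, add_mul, ← map_mul, one_mul, map_add, Representation.character] using this

/-- a non-abelian simple group has one linear character -/
theorem eq_one_of_deg_one (hm : Minimal G) {χ : G → ℂ} (hχ : Cfsg.IsIrrCharacter G χ) (h1 : χ 1 = 1) :
    ∀ g, χ g = 1 := by
  haveI := hm.simple
  obtain ⟨f, rfl⟩ := exists_hom_of_deg_one (isCharacter_of_irr hχ) h1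
  intro g
  rcases IsSimpleGroup.eq_bot_or_eq_top_of_normal f.ker (MonoidHom.normal_ker f) with h | h
  · exact absurd ⟨⟨fun a b => (MonoidHom.ker_eq_bot_iff f).1 h (by rw [map_mul, map_mul, mul_comm])⟩⟩ hm.nonab
  · have : f g = 1 := MonoidHom.mem_ker.1 (h ▸ mem_top g)
    simp only [this, Units.val_one]

namespace Frame

variable (F : Frame G)

theorem conj_mem_W (hm : Minimal G) {w : G} (hw : w ∈ F.W) :
    F.σ * w * F.σ⁻¹ ∈ F.W ∧ F.σ⁻¹ * w * F.σ ∈ F.W := by
  refine ⟨(mem_normalizer_iff.1 (F.σ_mem_normalizer_W hm) w).1 hw, ?_⟩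
  have := (mem_normalizer_iff.1 (inv_mem (F.σ_mem_normalizer_W hm)) w).1 hw
  rwa [inv_inv] at this

/-- The signed degrees over a linear character. -/
theorem quad (hm : Minimal G) (hfix : F.FixSpec) (hW : F.W ≠ ⊥) (θ : ↥F.O →* ℂˣ)
    (hu : ∀ a b : F.O, F.u * (a : G) * F.u⁻¹ = b → θ b = θ a)
    (hσ : ∀ a b : F.O, (a : G) ∈ F.W → F.σ * (a : G) * F.σ⁻¹ = b → θ b = θ a) :
    ∃ (X : Finset (Cfsg.IrrCharacter G)) (s : Cfsg.IrrCharacter G → ℤ),
      X.card = 4 ∧ ∑ χ ∈ X, s χ = 0 ∧ ∑ χ ∈ X, (1 : ℚ) / s χ = F.F0 ∧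
      (∀ χ ∈ X, χ ≠ principal G → SignedDeg (s χ)) ∧
      (principal G ∈ X → (∀ a : F.O, θ a = 1) ∧ s (principal G) = 1) ∧
      ((∀ a : F.O, θ a = 1) → principal G ∈ X) := by
  classical
  haveI : Fintype ↥F.W := Fintype.ofFinite _
  haveI : Fintype ↥F.O := Fintype.ofFinite _
  let θ' : Cfsg.IrrCharacter F.O := ⟨fun a => (θ a : ℂ), isIrrCharacter_linear θ⟩
  let ψ : ↥F.W →* ℂˣ := θ.comp (Subgroup.inclusion (inf_le_left : F.W ≤ F.O))
  have hθ1 : deg (θ' : F.O → ℂ) = 1 := by simp [deg, θ']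
  obtain ⟨X, d, hcard, hd, hval, hout, hsum, hF0⟩ := hfix θ' ψ
    (fun a b h => by show (θ b : ℂ) = θ a; rw [hu a b h])
    (fun a b h => hσ (Subgroup.inclusion inf_le_left a) (Subgroup.inclusion inf_le_left b) a.2 h)
    ⟨1, odd_one, by
      rw [finsum_eq_sum_of_fintype, Nat.cast_one, one_mul, Nat.card_eq_fintype_card]
      rw [Finset.sum_congr rfl (g := fun _ => (1 : ℂ)) ?_]
      · simp [Finset.card_univ]
      · intro a _
        have hroot : (ψ a : ℂ) ^ orderOf a = 1 := by
          rw [← Units.val_pow_eq_pow_val, ← map_pow, pow_orderOf_eq_one, map_one, Units.val_one]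
        have hn := Complex.norm_eq_one_of_pow_eq_one hroot (orderOf_pos a).ne'
        show (ψ a : ℂ) * _ = 1
        rw [Complex.mul_conj, Complex.normSq_eq_norm_sq, hn]
        simp⟩
  have hone : ((1 : F.O) : G) = 1 := rfl
  have ht : ∀ χ ∈ X, (χ : G → ℂ) F.t = (d χ : ℂ) := by
    intro χ hχ
    have := hval χ hχ 1
    rw [hone, mul_one] at this
    rw [this]
    simp [θ']
  -- the values on the other involutions
  have hUW : ∀ χ ∈ X, ∀ w : F.O, (w : G) ∈ F.W →
      (χ : G → ℂ) (F.t * w) = d χ * (θ w : ℂ) ∧ (χ : G → ℂ) (F.u * w) = d χ * (θ w : ℂ) ∧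
      (χ : G → ℂ) (F.t * F.u * w) = d χ * (θ w : ℂ) := by
    intro χ hχ w hw
    obtain ⟨hw1, hw2⟩ := F.conj_mem_W hm hw
    have hcl : ∀ g x : G, (χ : G → ℂ) (g * x * g⁻¹) = (χ : G → ℂ) x := by
      obtain ⟨n, ρ, -, hρ⟩ := χ.2
      intro g x
      rw [← hρ, Representation.char_conj]
    refine ⟨hval χ hχ w, ?_, ?_⟩
    · let w' : F.O := ⟨_, F.W_le hw2⟩
      have e : θ w = θ w' := hσ w' w hw2 (by show F.σ * (F.σ⁻¹ * (w : G) * F.σ) * F.σ⁻¹ = w; group)
      rw [show F.u * (w : G) = F.σ * (F.t * (w' : G)) * F.σ⁻¹ by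
        show F.u * (w : G) = F.σ * (F.t * (F.σ⁻¹ * w * F.σ)) * F.σ⁻¹
        rw [← F.σ_t]; group, hcl, hval χ hχ w', e]
    · let w' : F.O := ⟨_, F.W_le hw1⟩
      have e : θ w' = θ w := hσ w w' hw rfl
      rw [show F.t * F.u * (w : G) = F.σ⁻¹ * (F.t * (w' : G)) * F.σ⁻¹⁻¹ by
        show F.t * F.u * (w : G) = F.σ⁻¹ * (F.t * (F.σ * w * F.σ⁻¹)) * F.σ⁻¹⁻¹
        conv_rhs => rw [← F.σ_v]
        group, hcl, hval χ hχ w', ← e]
  have hprin : principal G ∈ X → (∀ a : F.O, θ a = 1) ∧ d (principal G) = 1 := by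
    intro hp
    have h1 : (1 : ℂ) = d (principal G) := ht _ hp
    have hd1 : d (principal G) = 1 := by exact_mod_cast h1.symm
    refine ⟨fun a => Units.ext ?_, hd1⟩
    have h2 : (1 : ℂ) = d (principal G) * (θ a : ℂ) := hval _ hp a
    rw [hd1, Int.cast_one, one_mul] at h2
    exact h2.symm
  refine ⟨X, fun χ => d χ * (deg (χ : G → ℂ) : ℤ), hcard, hsum, ?_, ?_, fun hp => ⟨(hprin hp).1, ?_⟩, ?_⟩
  · rw [hθ1] at hF0
    rw [Nat.cast_one, one_pow, div_one] at hF0
    rw [← hF0]
    refine Finset.sum_congr rfl fun χ hχ => ?_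
    show (1 : ℚ) / ((d χ * (deg (χ : G → ℂ) : ℤ) : ℤ) : ℚ) = _
    rcases hd χ hχ with h | h <;> rw [h] <;> push_cast <;> ring
  · intro χ hχ hne
    obtain ⟨n, ρ, hirr, hρ⟩ := χ.2
    obtain ⟨⟨m, hm'⟩, hzero⟩ := four_average ρ F.t_sq F.u_sq F.comm
    have hdeg := irr_apply_one_eq_deg χ
    have h1O : ((1 : F.O) : G) ∈ F.W := one_mem F.W
    obtain ⟨e1, e2, e3⟩ := hUW χ hχ 1 h1O
    rw [hone, mul_one] at e1 e2 e3
    rw [hρ, hdeg, e1, e2, e3] at hm'
    simp only [map_one, Units.val_one, mul_one] at hm'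
    have hmZ : (deg (χ : G → ℂ) : ℤ) + 3 * d χ = 4 * m := by
      have : ((deg (χ : G → ℂ) : ℤ) + 3 * d χ : ℂ) = ((4 * m : ℤ) : ℂ) := by push_cast; linear_combination hm'
      exact_mod_cast this
    have hpos := deg_irr_pos χ
    have hne1 : ¬ (deg (χ : G → ℂ) = 1 ∧ d χ = 1) := fun ⟨h, _⟩ => hne (Subtype.ext (funext fun g =>
      eq_one_of_deg_one hm χ.2 (by rw [hdeg, h, Nat.cast_one]) g))
    have hne3 : ¬ (deg (χ : G → ℂ) = 3 ∧ d χ = -1) := by
      rintro ⟨h3, hdm⟩
      obtain ⟨w, hw, hw1⟩ : ∃ w ∈ F.W, w ≠ 1 := by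
        by_contra hc
        push Not at hc
        exact hW (eq_bot_iff.2 fun x hx => mem_bot.2 (hc x hx))
      have h0 : ρ.character 1 + ρ.character F.t + ρ.character F.u + ρ.character (F.t * F.u) = 0 := by
        rw [hρ, hdeg, e1, e2, e3, h3, hdm]
        simp only [map_one, Units.val_one]
        push_cast; ring
      obtain ⟨f1, f2, f3⟩ := hUW χ hχ ⟨w, F.W_le hw⟩ hw
      have hv := hzero h0 w
      rw [hρ, f1, f2, f3, hdm, ← hρ] at hv
      have hchw : ρ.character w = 3 * (θ ⟨w, F.W_le hw⟩ : ℂ) := by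
        push_cast at hv
        linear_combination hv
      have hroot : (θ ⟨w, F.W_le hw⟩ : ℂ) ^ orderOf (⟨w, F.W_le hw⟩ : F.O) = 1 := by
        rw [← Units.val_pow_eq_pow_val, ← map_pow, pow_orderOf_eq_one, map_one, Units.val_one]
      have hfin : (Module.finrank ℂ (Fin n → ℂ) : ℂ) = 3 := by
        rw [← ρ.char_one, hρ, hdeg, h3]; norm_num
      have hfin' : Module.finrank ℂ (Fin n → ℂ) = 3 := by exact_mod_cast hfin
      obtain ⟨ω, hω, -⟩ := scalar_of_norm_character_eq ρ w (by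
        rw [hchw, norm_mul, Complex.norm_eq_one_of_pow_eq_one hroot (orderOf_pos _).ne', hfin']
        norm_num)
      -- `ρ` is faithful
      haveI := hm.simple
      have hker : ∀ g : G, ρ g = 1 → g = 1 := by
        intro g hg
        rcases IsSimpleGroup.eq_bot_or_eq_top_of_normal ρ.asGroupHom.ker (MonoidHom.normal_ker _) with h | h
        · have : g ∈ ρ.asGroupHom.ker := MonoidHom.mem_ker.2 (Units.ext hg)
          rwa [h, mem_bot] at this
        · exfalso
          have ht1 : ρ F.t = 1 := congrArg Units.val (MonoidHom.mem_ker.1 (h ▸ mem_top F.t))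
          have h2 : (χ : G → ℂ) F.t = (χ : G → ℂ) 1 := by
            rw [← hρ]; simp only [Representation.character, ht1, map_one]
          rw [e1, hdeg, h3, hdm] at h2
          simp only [map_one, Units.val_one] at h2
          norm_num at h2
      have hcomm : ∀ g : G, g * w = w * g := fun g => by
        refine mul_inv_eq_one.1 (hker _ ?_)
        have e : ρ (g * w) = ρ (w * g) := by
          rw [map_mul, map_mul, hω]
          ext v
          simp
        rw [map_mul, e, ← map_mul, mul_inv_cancel, map_one]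
      rcases IsSimpleGroup.eq_bot_or_eq_top_of_normal (center G) inferInstance with h | h
      · exact hw1 (mem_bot.1 (h ▸ mem_center_iff.2 hcomm))
      · exact hm.nonab ⟨⟨fun a b => mem_center_iff.1 (h ▸ mem_top b) a⟩⟩
    show (d χ * (deg (χ : G → ℂ) : ℤ)) % 4 = 1 ∧
      (5 ≤ d χ * (deg (χ : G → ℂ) : ℤ) ∨ d χ * (deg (χ : G → ℂ) : ℤ) ≤ -7)
    rcases hd χ hχ with h | h <;> rw [h] at hmZ hne1 hne3 ⊢ <;> refine ⟨by omega, ?_⟩
    · simp only [and_true] at hne1
      omega
    · simp only [and_true] at hne3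
      omega
  · show d (principal G) * (deg ((principal G : Cfsg.IrrCharacter G) : G → ℂ) : ℤ) = 1
    rw [(hprin hp).2]
    simp [deg, principal]
  · intro hall
    by_contra hp
    have h0 := hout _ hp
    rw [finsum_eq_sum_of_fintype] at h0
    simp [θ', principal, hall, Finset.card_univ] at h0

/-- `5/7 < F₀ < 7/5`. -/
theorem charBound (hm : Minimal G) (hfix : F.FixSpec) : F.CharBound := by
  intro hW
  obtain ⟨X, s, hcard, hsum, hF0, hs, hp, hp'⟩ := F.quad hm hfix hW 1 (fun _ _ _ => rfl) (fun _ _ _ _ => rfl)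
  classical
  have hpX := hp' fun _ => rfl
  have hcard3 : (X.erase (principal G)).card = 3 := by rw [Finset.card_erase_of_mem hpX, hcard]
  obtain ⟨a, b, c, hab, hac, hbc, he⟩ := Finset.card_eq_three.1 hcard3
  have hmem : ∀ χ ∈ X.erase (principal G), SignedDeg (s χ) := fun χ hχ =>
    hs χ (Finset.mem_of_mem_erase hχ) (Finset.ne_of_mem_erase hχ)
  rw [← Finset.add_sum_erase X _ hpX, he, (hp hpX).2] at hsum hF0
  simp only [Finset.sum_insert, Finset.mem_insert, Finset.mem_singleton, hab, hac, hbc, or_self, not_false_eq_true,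
    Finset.sum_singleton] at hsum hF0
  rw [he] at hmem
  have hb := three_bound (hmem a (by simp)) (hmem b (by simp)) (hmem c (by simp)) (by omega)
  rw [← hF0]
  push_cast
  constructor <;> linarith [hb.1, hb.2]

/-- A `u`-invariant linear character of `O` with `σ`-invariant restriction to `W` is trivial on `W`. -/
theorem linearFixed (hm : Minimal G) (hfix : F.FixSpec) : F.LinearFixed := by
  intro θ hu hσ a ha
  by_contra hne
  have hW : F.W ≠ ⊥ := fun h => hne (by
    have : (a : G) = 1 := mem_bot.1 (h ▸ ha)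
    rw [show a = 1 from Subtype.ext this, map_one])
  obtain ⟨X, s, hcard, hsum, hF0, hs, hp, -⟩ := F.quad hm hfix hW θ hu hσ
  classical
  have hpX : principal G ∉ X := fun h => hne ((hp h).1 a)
  obtain ⟨e, Y, heY, rfl, hY⟩ := Finset.card_eq_succ.1 hcard
  obtain ⟨x, y, z, hxy, hxz, hyz, rfl⟩ := Finset.card_eq_three.1 hY
  have hmem : ∀ χ ∈ insert e ({x, y, z} : Finset (Cfsg.IrrCharacter G)), SignedDeg (s χ) := fun χ hχ =>
    hs χ hχ fun h => hpX (h ▸ hχ)
  simp only [Finset.mem_insert, Finset.mem_singleton, not_or] at heY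
  simp only [Finset.sum_insert, Finset.mem_insert, Finset.mem_singleton, hxy, hxz, hyz, heY.1, heY.2.1, heY.2.2,
    or_self, not_false_eq_true, Finset.sum_singleton] at hsum hF0
  have hb := four_zero_bound (hmem e (by simp)) (hmem x (by simp)) (hmem y (by simp)) (hmem z (by simp))
    (by omega)
  have := (F.charBound hm hfix hW).1
  linarith

/-- If `[O, u]` is abelian every linear character of `W` lifts. -/
theorem exists_lift (hm : Minimal G) (hT : IsMulCommutative F.T) (ψ : ↥F.W →* ℂˣ) :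
    ∃ θ : ↥F.O →* ℂˣ, (∀ a b : F.O, F.u * (a : G) * F.u⁻¹ = b → θ b = θ a) ∧
      ∀ a : F.W, θ (Subgroup.inclusion inf_le_left a) = ψ a := by
  haveI := hT
  have hcomm : ∀ a ∈ F.T, ∀ b ∈ F.T, a * b = b * a := fun a ha b hb =>
    congrArg Subtype.val (mul_comm' (⟨a, ha⟩ : F.T) ⟨b, hb⟩)
  have hinv : ∀ a ∈ F.T, F.u * a * F.u⁻¹ = a⁻¹ := by
    intro a ha
    induction ha using closure_induction with
    | mem x hx => exact hx.2
    | one => simp
    | mul a b ha' hb' iha ihb =>
      rw [← conj_mul, iha, ihb, mul_inv_rev]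
      exact hcomm _ (inv_mem ha') _ (inv_mem hb')
    | inv a _ iha => rw [← conj_inv, iha]
  have hWT : ∀ w ∈ F.W, ∀ a ∈ F.T, w * a * w⁻¹ ∈ F.T := by
    intro w hw a ha
    refine F.mem_T (mul_mem (mul_mem (F.W_le hw) (F.T_le ha)) (inv_mem (F.W_le hw))) ?_
    have hwu : F.u * w * F.u⁻¹ = w := mul_inv_eq_iff_eq_mul.2 (F.mem_W.1 hw).2.symm
    rw [← conj_mul, ← conj_mul, ← conj_inv, hwu, hinv a ha]
    group
  have hdec : ∀ x : F.O, ∃ w : F.W, ∃ a ∈ F.T, (x : G) = w * a := by
    intro x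
    obtain ⟨a, ha, b, hb, hafix, hbinv, he⟩ :=
      exists_fixed_mul_inverted F.odd_card_O F.u_sq (F.U_le_normalizer_O F.u_mem_U) x.2
    exact ⟨⟨a, F.mem_W.2 ⟨ha, (mul_inv_eq_iff_eq_mul.1 hafix).symm⟩⟩, b, F.mem_T hb hbinv, he⟩
  have huniq : ∀ (w w' : F.W) (a a' : G), a ∈ F.T → a' ∈ F.T → (w : G) * a = w' * a' → w = w' := by
    intro w w' a a' ha ha' h
    have hm' : (w' : G)⁻¹ * w ∈ F.T := by
      rw [show (w' : G)⁻¹ * w = a' * a⁻¹ by
        calc (w' : G)⁻¹ * w = (w' : G)⁻¹ * (w * a) * a⁻¹ := by group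
          _ = a' * a⁻¹ := by rw [h]; group]
      exact mul_mem ha' (inv_mem ha)
    have hW' : (w' : G)⁻¹ * w ∈ F.W := mul_mem (inv_mem w'.2) w.2
    have h1 := eq_one_of_fixed_inverted (odd_orderOf F.odd_card_W hW')
      (mul_inv_eq_iff_eq_mul.2 (F.mem_W.1 hW').2.symm) (hinv _ hm')
    exact Subtype.ext (inv_mul_eq_one.1 h1).symm
  choose w a ha he using hdec
  have hmul : ∀ x y : F.O, w (x * y) = w x * w y := by
    intro x y
    refine huniq _ _ (a (x * y)) ((((w y : G))⁻¹ * a x * w y) * a y) (ha _) (mul_mem ?_ (ha y)) ?_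
    · have := hWT _ (inv_mem (w y).2) _ (ha x)
      rwa [inv_inv] at this
    · rw [← he, Subgroup.coe_mul, he x, he y, Subgroup.coe_mul]; group
  let θ : ↥F.O →* ℂˣ := MonoidHom.mk' (fun x => ψ (w x)) fun x y => by rw [hmul, map_mul]
  refine ⟨θ, fun x y h => ?_, fun x => ?_⟩
  · show ψ (w y) = ψ (w x)
    congr 1
    refine huniq _ _ (a y) (a x)⁻¹ (ha y) (inv_mem (ha x)) ?_
    rw [← he, ← h, he x, ← conj_mul, hinv _ (ha x)]
    rw [show F.u * (w x : G) * F.u⁻¹ = w x from mul_inv_eq_iff_eq_mul.2 (F.mem_W.1 (w x).2).2.symm]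
  · show ψ (w _) = ψ x
    congr 1
    exact huniq _ _ (a _) 1 (ha _) (one_mem _) (by rw [← he, mul_one]; rfl)

/-- If `[O, u]` is abelian then `W = 1`. -/
theorem linearKill (hm : Minimal G) (hfix : F.FixSpec) (hmove : F.MoveSpec) : F.LinearKill := by
  intro hT
  by_contra hW
  obtain ⟨hlow, hhigh⟩ := F.charBound hm hfix hW
  have htriv : ∀ ψ : ↥F.W →* ℂˣ, ∀ a, ψ a = 1 := by
    intro ψ
    by_cases hfixed : ∀ a b : F.W, F.σ * (a : G) * F.σ⁻¹ = b → ψ b = ψ a
    · intro a
      obtain ⟨θ, hu, hres⟩ := F.exists_lift hm hT ψ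
      rw [← hres]
      refine F.linearFixed hm hfix θ hu (fun x y hx h => ?_) _ a.2
      have hy : (y : G) ∈ F.W := h ▸ (F.conj_mem_W hm hx).1
      have := hfixed ⟨x, hx⟩ ⟨y, hy⟩ h
      rwa [← hres, ← hres] at this
    · exfalso
      push Not at hfixed
      obtain ⟨a, b, h, hne⟩ := hfixed
      obtain ⟨x, hodd, hx⟩ := hmove (fun ψ => F.exists_lift hm hT ψ) ψ a b h hne
      obtain ⟨X, s, hcard, hsum, hF0, hs, hp, hp'⟩ :=
        F.quad hm hfix hW 1 (fun _ _ _ => rfl) (fun _ _ _ _ => rfl)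
      classical
      have hpX := hp' fun _ => rfl
      obtain ⟨p, q, r, hpq, hpr, hqr, he⟩ :=
        Finset.card_eq_three.1 (show (X.erase (principal G)).card = 3 by rw [Finset.card_erase_of_mem hpX, hcard])
      have hmem : ∀ χ ∈ ({p, q, r} : Finset (Cfsg.IrrCharacter G)), SignedDeg (s χ) := fun χ hχ =>
        hs χ (Finset.mem_of_mem_erase (he ▸ hχ)) (Finset.ne_of_mem_erase (he ▸ hχ))
      rw [← Finset.add_sum_erase X _ hpX, he, (hp hpX).2] at hsum hF0
      simp only [Finset.sum_insert, Finset.mem_insert, Finset.mem_singleton, hpq, hpr, hqr, or_self,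
        not_false_eq_true, Finset.sum_singleton] at hsum hF0
      have hx0 : (0 : ℚ) < x := by exact_mod_cast hodd.pos
      have hx1 : 5 < x := by
        by_contra hle
        have : (x : ℚ) ≤ 5 := by exact_mod_cast (by omega : x ≤ 5)
        nlinarith
      have hx2 : x < 12 := by
        by_contra hle
        have : (12 : ℚ) ≤ x := by exact_mod_cast (by omega : 12 ≤ x)
        nlinarith
      obtain ⟨k, hk⟩ := hodd
      have hsp := hmem p (by simp)
      have hsq := hmem q (by simp)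
      have hsr := hmem r (by simp)
      have hne' : ∀ v : ℤ, SignedDeg v → (v : ℚ) ≠ 0 := fun v hv => by
        have : v ≠ 0 := by rcases hv.2 with h | h <;> omega
        exact_mod_cast this
      refine no_move (x := x) (by omega) hsp hsq hsr (by omega) ?_
      rw [← hF0] at hx
      have := hne' _ hsp
      have := hne' _ hsq
      have := hne' _ hsr
      have key : (x : ℚ) * (s p * s q + s q * s r + s r * s p) = (8 - x) * (s p * s q * s r) := by
        push_cast at hx
        field_simp at hx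
        linear_combination hx
      exact_mod_cast key
  -- `W` is then perfect
  haveI : Group.IsSolvable F.W := Cfsg.Agent.PF.isSolvable_of_odd F.W F.odd_card_W
  haveI : Nontrivial F.W := (nontrivial_iff_ne_bot _).2 hW
  have hab : Nontrivial (Abelianization F.W) := by
    rw [← not_subsingleton_iff_nontrivial]
    intro hsub
    have htop : commutator F.W = ⊤ := eq_top_iff.2 fun z _ =>
      (QuotientGroup.eq_one_iff z).1 (@Subsingleton.elim _ hsub _ _)
    exact (Group.IsSolvable.commutator_lt_top_of_nontrivial F.W).ne htop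
  obtain ⟨z, hz⟩ := exists_ne (1 : Abelianization F.W)
  obtain ⟨φ, hφ⟩ := CommGroup.exists_apply_ne_one_of_hasEnoughRootsOfUnity (Abelianization F.W) ℂ hz
  obtain ⟨w, rfl⟩ := QuotientGroup.mk'_surjective _ z
  exact hφ (htriv (φ.comp Abelianization.of) w)

end Frame

end Cfsg.Lib.GW
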