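import Cfsg.Agent.FourGroupGW.Setting
import Cfsg.Agent.Chars.Irr

/-!
# Four-group blocks: the statement used at a `σ`-fixed character of `W`

A `u`-invariant irreducible character `θ` of `O` whose restriction to `W` contains a `σ`-invariant linear `ψ` with odd
multiplicity determines four irreducible characters of `G`, with values `± θ` on the coset `t O`.  If a moved linear character of
`W` and its conjugates lift to invariant linear characters of `O`, the four characters over it have one odd degree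
`8 / F₀`.
-/

set_option autoImplicit false

namespace Cfsg.Lib.GW

open Cfsg.Lib.Chars
open scoped ComplexConjugate

universe u

variable {G : Type u} [Group G]

namespace Frame

variable (F : Frame G)

/-- FIX: the four characters over a `σ`-fixed linear character of `W`. -/
def FixSpec : Prop :=
  ∀ (θ : Cfsg.IrrCharacter F.O) (ψ : ↥F.W →* ℂˣ),
    (∀ a b : F.O, F.u * (a : G) * F.u⁻¹ = b → (θ : F.O → ℂ) b = (θ : F.O → ℂ) a) →
    (∀ a b : F.W, F.σ * (a : G) * F.σ⁻¹ = b → ψ b = ψ a) →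
    (∃ n : ℕ, Odd n ∧ ∑ᶠ a : F.W,
      (θ : F.O → ℂ) (Subgroup.inclusion inf_le_left a) * conj (ψ a : ℂ) = (n : ℂ) * Nat.card F.W) →
      ∃ (X : Finset (Cfsg.IrrCharacter G)) (d : Cfsg.IrrCharacter G → ℤ),
        X.card = 4 ∧ (∀ χ ∈ X, d χ = 1 ∨ d χ = -1) ∧
        (∀ χ ∈ X, ∀ y : F.O, (χ : G → ℂ) (F.t * y) = (d χ : ℂ) * (θ : F.O → ℂ) y) ∧
        (∀ χ, χ ∉ X → ∑ᶠ y : F.O, (χ : G → ℂ) (F.t * y) * conj ((θ : F.O → ℂ) y) = 0) ∧
        (∑ χ ∈ X, d χ * (deg (χ : G → ℂ) : ℤ) = 0) ∧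
        ∑ χ ∈ X, (d χ : ℚ) / (deg (χ : G → ℂ) : ℚ) = F.F0 / (deg (θ : F.O → ℂ) : ℚ) ^ 3

/-- MOVE: the four characters over a moved linear character of `W` have the same odd degree `x = 8 / F₀`. -/
def MoveSpec : Prop :=
  (∀ ψ : ↥F.W →* ℂˣ, ∃ θ : ↥F.O →* ℂˣ, (∀ a b : F.O, F.u * (a : G) * F.u⁻¹ = b → θ b = θ a) ∧
    ∀ a : F.W, θ (Subgroup.inclusion inf_le_left a) = ψ a) →
  ∀ (ψ : ↥F.W →* ℂˣ) (a b : F.W), F.σ * (a : G) * F.σ⁻¹ = b → ψ b ≠ ψ a →
    ∃ x : ℕ, Odd x ∧ (x : ℚ) * F.F0 = 8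

end Frame

end Cfsg.Lib.GW
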