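/-
GW four-group, piece E: the local facts at a prime with `O_p(O) ≠ 1` and a moved Sylow subgroup, when `C(t)` is
maximal (notes/gw_four_v3.md, section 3).
-/
import Cfsg.Agent.FourGroupGW.LocalLc
import Cfsg.Agent.InvolCalc.Dihedral
import Cfsg.Agent.PGroups.Basic
import Cfsg.Agent.Fusion.GTApply

set_option autoImplicit false
set_option linter.unusedSectionVars false
set_option linter.style.haveILetI false

namespace Cfsg.Lib.GW

open Subgroup

universe u

variable {G : Type u} [Group G] [Finite G]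

theorem commute_of_sq' {a b : G} (ha : Odd (orderOf a)) (h : Commute (a * a) b) : Commute a b := by
  obtain ⟨k, hk⟩ := ha
  have e : (a * a) ^ (k + 1) = a := by
    rw [← pow_two, ← pow_mul, show 2 * (k + 1) = orderOf a + 1 by omega, pow_succ, pow_orderOf_eq_one, one_mul]
  have h' := h.pow_left (k + 1)
  rwa [e] at h'

theorem mem_normalizer_finite {V : Subgroup G} {m : G} (h : ∀ x ∈ V, m * x * m⁻¹ ∈ V) :
    m ∈ normalizer (V : Set G) := by
  rw [← Cfsg.Lib.Transfer.map_conj_eq_self_iff]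
  exact eq_of_le_of_card_ge (by rintro _ ⟨x, hx, rfl⟩; exact h x hx)
    (card_map_of_injective (MulAut.conj m).injective).ge

theorem abelian_two_top (hm : Minimal G) (F : Frame G) :
    ∀ S : Sylow 2 G, ∀ x ∈ S, ∀ y ∈ S, x * y = y * x := by
  have h := F.abelian_two hm (⊤ : Subgroup G)
  exact abelian_two_map (Subgroup.topEquiv (G := G)).toMonoidHom Subgroup.topEquiv.surjective h

namespace Frame

variable (F : Frame G)

/-- the inverted elements of an invariant `p`-subgroup of `O` inside a subgroup with a cyclic torus form a cyclic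
group meeting the core trivially -/
theorem inverted_cyclic_of {H X : Subgroup G} (hU : F.U ≤ H)
    (htor : ∀ K : Subgroup G, K ≤ H ⊓ F.O → (∀ k ∈ K, F.u * k * F.u⁻¹ * k ∈ Core H) →
      ∃ g ∈ K, K ≤ zpowers g ⊔ Core H)
    (hic : ∀ x ∈ H ⊓ F.O, ∀ y ∈ H ⊓ F.O, F.u * x * F.u⁻¹ = x⁻¹ → F.u * y * F.u⁻¹ = y⁻¹ →
      x * y * x⁻¹ * y⁻¹ ∈ Core H)
    (hXH : X ≤ H) (hXO : X ≤ F.O) (hXU : F.U ≤ normalizer (X : Set G))
    (hfix : X ⊓ Core H ≤ centralizer (F.U : Set G)) :
    ∃ g ∈ X, F.u * g * F.u⁻¹ = g⁻¹ ∧ (∀ x ∈ X, F.u * x * F.u⁻¹ = x⁻¹ → x ∈ zpowers g) ∧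
      X ≤ normalizer (zpowers g : Set G) ∧ zpowers g ⊓ Core H = ⊥ := by
  have hXodd : Odd (Nat.card X) := F.odd_card_O.of_dvd_nat (card_dvd_of_le hXO)
  have hHC : H ≤ normalizer (Core H : Set G) := le_normalizer_core H
  set cj : H →* H := (MulAut.conj (⟨F.u, hU F.u_mem_U⟩ : H)).toMonoidHom with hcj
  set π := QuotientGroup.mk' (Cfsg.oddCore H) with hπ
  have hπ1 : ∀ x : H, π x = 1 ↔ (x : G) ∈ Core H := fun x => by
    rw [hπ, QuotientGroup.mk'_apply, QuotientGroup.eq_one_iff]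
    exact (mem_map_iff_mem H.subtype_injective).symm
  set s : Set H := {x | (x : G) ∈ X ∧ F.u * (x : G) * F.u⁻¹ = (x : G)⁻¹} with hs
  set L := closure s with hL
  have hLX : ∀ x ∈ L, (x : G) ∈ X := fun x hx =>
    ((closure_le (X.subgroupOf H)).2 (fun y hy => mem_subgroupOf.2 hy.1) hx : _)
  -- commutative modulo the core
  have hgen : ∀ a ∈ s, ∀ b ∈ s, π a * π b = π b * π a := by
    intro a ha b hb
    have h := (hπ1 (a * b * a⁻¹ * b⁻¹)).2
      (hic a (mem_inf.2 ⟨a.2, hXO ha.1⟩) b (mem_inf.2 ⟨b.2, hXO hb.1⟩) ha.2 hb.2)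
    rw [map_mul, map_mul, map_mul, map_inv, map_inv] at h
    exact mul_inv_eq_iff_eq_mul.1 (mul_inv_eq_one.1 h)
  have hcommL : ∀ a ∈ L, ∀ b ∈ L, π a * π b = π b * π a := by
    intro a ha b hb
    induction hb using closure_induction with
    | mem y hy =>
      induction ha using closure_induction with
      | mem x hx => exact hgen x hx y hy
      | one => simp
      | mul x z _ _ h1 h2 =>
        rw [map_mul]; exact ((show Commute (π x) (π y) from h1).mul_left h2).eq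
      | inv x _ h1 => rw [map_inv]; exact (show Commute (π x) (π y) from h1).inv_left.eq
    | one => simp
    | mul x z _ _ h1 h2 => rw [map_mul]; exact ((show Commute (π a) (π x) from h1).mul_right h2).eq
    | inv x _ h1 => rw [map_inv]; exact (show Commute (π a) (π x) from h1).inv_right.eq
  have hinvL : ∀ a ∈ L, π (cj a) * π a = 1 := by
    intro a ha
    induction ha using closure_induction with
    | mem x hx =>
      rw [← map_mul, hπ1]
      show F.u * (x : G) * F.u⁻¹ * (x : G) ∈ Core H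
      rw [hx.2, inv_mul_cancel]; exact one_mem _
    | one => simp
    | mul x y hx hy h1 h2 =>
      rw [map_mul, map_mul, map_mul, mul_assoc, hcommL x hx y hy, ← mul_assoc (π (cj y)), h2, one_mul, h1]
    | inv x _ h1 =>
      rw [map_inv, map_inv, map_inv, ← mul_inv_rev, inv_eq_one, mul_eq_one_iff_eq_inv]
      exact (inv_eq_of_mul_eq_one_right h1).symm
  set Γ := L.map H.subtype with hΓ
  have hΓX : Γ ≤ X := by rintro _ ⟨x, hx, rfl⟩; exact hLX x hx
  obtain ⟨g, hgΓ, hg⟩ := htor Γ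
    (fun x hx => mem_inf.2 ⟨map_subtype_le L hx, hXO (hΓX hx)⟩) (by
      rintro _ ⟨x, hx, rfl⟩
      have h := hinvL x hx
      rwa [← map_mul, hπ1] at h)
  -- `X ⊓ Core H` is central in `Γ`
  have hcent : ∀ x ∈ Γ, ∀ q ∈ X ⊓ Core H, Commute x q := by
    rintro _ ⟨x, hx, rfl⟩ q hq
    induction hx using closure_induction with
    | mem y hy =>
      have hyn : (y : G) * q * (y : G)⁻¹ ∈ X ⊓ Core H := mem_inf.2
        ⟨mul_mem (mul_mem hy.1 (mem_inf.1 hq).1) (inv_mem hy.1), (mem_normalizer_iff.1 (hHC y.2) q).1 (mem_inf.1 hq).2⟩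
      have hqu : F.u * q * F.u⁻¹ = q := mul_inv_eq_iff_eq_mul.2 (F.mem_centralizer_U.1 (hfix hq)).2.symm
      have h1 := mul_inv_eq_iff_eq_mul.2 (F.mem_centralizer_U.1 (hfix hyn)).2.symm
      rw [← conj_mul, ← conj_mul, ← conj_inv, hy.2, hqu, inv_inv] at h1
      refine Cfsg.Lib.GW.commute_of_sq' (Frame.odd_orderOf hXodd hy.1) ?_
      show (y : G) * y * q = q * ((y : G) * y)
      calc (y : G) * y * q = (y : G) * ((y : G) * q * (y : G)⁻¹) * y := by group
        _ = (y : G) * ((y : G)⁻¹ * q * y) * y := by rw [h1]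
        _ = q * ((y : G) * y) := by group
    | one => simp
    | mul a b _ _ h1 h2 => exact h1.mul_left h2
    | inv a _ h1 => exact h1.inv_left
  have hnorm : zpowers g ≤ normalizer (Core H : Set G) :=
    (zpowers_le.2 (map_subtype_le L hgΓ)).trans hHC
  have hsplit : ∀ x ∈ Γ, ∃ i : ℤ, g ^ (-i) * x ∈ X ⊓ Core H := by
    intro x hx
    obtain ⟨_, ⟨i, rfl⟩, c, hc, he⟩ := (Cfsg.Lib.Coprime.mem_sup_of_le_normalizer' hnorm).1 (sup_comm (zpowers g) (Core H) ▸ hg hx)
    refine ⟨i, ?_⟩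
    have e : g ^ (-i) * x = c := by rw [← he, zpow_neg, inv_mul_cancel_left]
    exact mem_inf.2 ⟨mul_mem (zpow_mem (hΓX hgΓ) _) (hΓX hx), by rw [e]; exact hc⟩
  have hab : ∀ a ∈ Γ, ∀ b ∈ Γ, Commute a b := by
    intro a ha b hb
    obtain ⟨i, hi⟩ := hsplit a ha
    obtain ⟨j, hj⟩ := hsplit b hb
    have ea : a = g ^ i * (g ^ (-i) * a) := by rw [zpow_neg, mul_inv_cancel_left]
    have eb : b = g ^ j * (g ^ (-j) * b) := by rw [zpow_neg, mul_inv_cancel_left]
    rw [ea, eb]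
    have c1 := (hcent g hgΓ _ hj).zpow_left i
    have c2 := (hcent g hgΓ _ hi).zpow_left j
    have c3 : Commute (g ^ (-i) * a) (g ^ (-j) * b) :=
      hcent _ (mul_mem (zpow_mem hgΓ _) ha) _ hj
    exact (((Commute.refl g).zpow_zpow i j).mul_right c1).mul_left (c2.symm.mul_right c3)
  have hinv : ∀ a ∈ Γ, F.u * a * F.u⁻¹ = a⁻¹ := by
    rintro _ ⟨x, hx, rfl⟩
    induction hx using closure_induction with
    | mem y hy => exact hy.2
    | one => simp
    | mul a b ha hb h1 h2 =>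
      rw [map_mul, ← conj_mul, h1, h2, ← mul_inv_rev,
        (hab _ ⟨a, ha, rfl⟩ _ ⟨b, hb, rfl⟩).eq]
    | inv a _ h1 => rw [map_inv, ← conj_inv, h1]
  have hΓcore : ∀ x ∈ Γ, x ∈ Core H → x = 1 := fun x hx hc =>
    Frame.eq_one_of_fixed_inverted (Frame.odd_orderOf hXodd (hΓX hx))
      (mul_inv_eq_iff_eq_mul.2 (F.mem_centralizer_U.1 (hfix (mem_inf.2 ⟨hΓX hx, hc⟩))).2.symm) (hinv x hx)
  have hzp : ∀ x ∈ Γ, x ∈ zpowers g := by
    intro x hx
    obtain ⟨i, hi⟩ := hsplit x hx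
    have h := hΓcore _ (mul_mem (zpow_mem hgΓ _) hx) (mem_inf.1 hi).2
    exact ⟨i, by rw [← mul_inv_cancel_left (g ^ i) x, ← zpow_neg, h, mul_one]⟩
  have hmem : ∀ x ∈ X, F.u * x * F.u⁻¹ = x⁻¹ → x ∈ zpowers g := fun x hx hi =>
    hzp x ⟨⟨x, hXH hx⟩, subset_closure ⟨hx, hi⟩, rfl⟩
  have hgu := hinv g hgΓ
  refine ⟨g, hΓX hgΓ, hgu, hmem, fun x hx => ?_, ?_⟩
  · -- `X` normalises
    have hstep : ∀ y ∈ X, ∀ w ∈ zpowers g, y * w * y⁻¹ ∈ zpowers g := by
      intro y hy w hw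
      obtain ⟨a, ha, b, hb, hau, hbu, rfl⟩ :=
        Frame.exists_fixed_mul_inverted hXodd F.u_sq (hXU F.u_mem_U) hy
      obtain ⟨i, rfl⟩ := hw
      have hbw : b * g ^ i * b⁻¹ = g ^ i := by
        obtain ⟨j, rfl⟩ := hmem b hb hbu
        rw [(Commute.refl g).zpow_zpow j i, mul_inv_cancel_right]
      rw [show a * b * g ^ i * (a * b)⁻¹ = a * (b * g ^ i * b⁻¹) * a⁻¹ by group, hbw]
      refine hmem _ (mul_mem (mul_mem ha (zpow_mem (hΓX hgΓ) i)) (inv_mem ha)) ?_
      rw [← conj_mul, ← conj_mul, ← conj_inv, hau, ← conj_zpow, hgu, inv_zpow]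
      group
    exact Cfsg.Lib.Coprime.mem_normalizer_of_conj_mem (hstep x hx)
      (fun w hw => by simpa using hstep x⁻¹ (inv_mem hx) w hw)
  · rw [eq_bot_iff]
    intro x hx
    exact mem_bot.2 (hΓcore x ((zpowers_le.2 hgΓ) (mem_inf.1 hx).1) (mem_inf.1 hx).2)

/-- the inverted elements of an invariant `p`-subgroup of `O` inside a fusing subgroup form a cyclic group
meeting the core trivially -/
theorem inverted_cyclic_in (hTop : F.TopSpec) {H X : Subgroup G} (hH : H ≠ ⊤)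
    (hf : F.Fusing H) (hXH : X ≤ H) (hXO : X ≤ F.O) (hXU : F.U ≤ normalizer (X : Set G))
    (hfix : X ⊓ Core H ≤ centralizer (F.U : Set G)) :
    ∃ g ∈ X, F.u * g * F.u⁻¹ = g⁻¹ ∧ (∀ x ∈ X, F.u * x * F.u⁻¹ = x⁻¹ → x ∈ zpowers g) ∧
      X ≤ normalizer (zpowers g : Set G) ∧ zpowers g ⊓ Core H = ⊥ := by
  obtain ⟨T, Q, hT⟩ := hTop H hH hf
  exact F.inverted_cyclic_of hf.1 (fun K h1 h2 => (hT.torus K h1 h2).2) hT.inverted_comm hXH hXO hXU hfix

/-- central elements of a Sylow subgroup lie in its `ZJ` -/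
theorem mem_zj_of_central {S : Subgroup G} {z : G} (hz : z ∈ S) (hc : ∀ x ∈ S, Commute x z) :
    z ∈ Cfsg.centerThompsonAOf S := by
  rw [Cfsg.Lib.Fusion.centerThompsonAOf_eq]
  simp only [mem_iInf]
  intro A hA
  obtain ⟨hAS, hAc, hmax⟩ := hA
  haveI := hAc
  have hle : A ⊔ zpowers z ≤ S := sup_le hAS (zpowers_le.2 hz)
  have hcent : A ⊔ zpowers z ≤ centralizer ((A ⊔ zpowers z : Subgroup G) : Set G) := by
    have h1 : A ≤ centralizer (A : Set G) := fun a ha => mem_centralizer_iff.2 fun b hb =>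
      congrArg Subtype.val (IsMulCommutative.is_comm.comm (⟨b, hb⟩ : A) ⟨a, ha⟩)
    have h2 : zpowers z ≤ centralizer (A : Set G) :=
      zpowers_le.2 (mem_centralizer_iff.2 fun a ha => (hc a (hAS ha)).eq)
    have h3 : zpowers z ≤ centralizer (zpowers z : Set G) := by
      rintro _ ⟨i, rfl⟩
      refine mem_centralizer_iff.2 ?_
      rintro _ ⟨j, rfl⟩
      exact zpow_mul_comm z j i
    exact sup_le (le_centralizer_iff.1 (sup_le h1 h2))
      (le_centralizer_iff.1 (sup_le (le_centralizer_iff.1 h2) h3))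
  have heq : A = A ⊔ zpowers z := eq_of_le_of_card_ge le_sup_left
    (hmax _ hle ⟨⟨fun a b => Subtype.ext (mem_centralizer_iff.1 (hcent b.2) a a.2)⟩⟩)
  rw [heq]
  exact mem_sup_right (mem_zpowers z)

/-- the meet with a subgroup normalised by a Sylow subgroup is a Sylow subgroup of it -/
theorem not_dvd_relIndex_inf {p : ℕ} [Fact p.Prime] (P : Sylow p G) {L : Subgroup G}
    (h : (P : Subgroup G) ≤ normalizer (L : Set G)) : ¬ p ∣ (L ⊓ (P : Subgroup G)).relIndex L := by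
  intro hd
  have h1 := Cfsg.Lib.Coprime.card_sup_mul_card_inf h
  have h2 := Subgroup.relIndex_mul_relIndex ⊥ (L ⊓ (P : Subgroup G)) L bot_le inf_le_left
  simp only [relIndex_bot_left] at h2
  have h3 := Subgroup.relIndex_mul_relIndex ⊥ (P : Subgroup G) (L ⊔ (P : Subgroup G)) bot_le le_sup_right
  simp only [relIndex_bot_left] at h3
  rw [← h2, ← h3] at h1
  have h4 : (P : Subgroup G).relIndex (L ⊔ (P : Subgroup G)) = (L ⊓ (P : Subgroup G)).relIndex L := by
    refine Nat.eq_of_mul_eq_mul_left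
      (Nat.mul_pos (Nat.card_pos (α := (P : Subgroup G))) (Nat.card_pos (α := ↥(L ⊓ (P : Subgroup G))))) ?_
    linear_combination h1
  refine P.not_dvd_index ?_
  rw [← relIndex_mul_index (le_sup_right : (P : Subgroup G) ≤ L ⊔ (P : Subgroup G)), h4]
  exact hd.trans (dvd_mul_right _ _)

/-- a `p`-subgroup with a proper `p`-overgroup has a normalising element outside -/
theorem exists_grow {p : ℕ} [Fact p.Prime] {X : Subgroup G} (hX : IsPGroup p X) (hne : ∀ P : Sylow p G, (P : Subgroup G) ≠ X) :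
    ∃ q ∈ normalizer (X : Set G), q ∉ X ∧ IsPGroup p ↥(X ⊔ zpowers q) ∧ ∃ k, orderOf q = p ^ k := by
  obtain ⟨S, hS⟩ := hX.exists_le_sylow
  haveI : Group.IsNilpotent (S : Subgroup G) := S.2.isNilpotent
  obtain ⟨q, hq, hqX⟩ := SetLike.exists_of_lt (Group.normalizerCondition_of_isNilpotent (X.subgroupOf S)
    (lt_top_iff_ne_top.2 fun h => hne S (le_antisymm (subgroupOf_eq_top.1 h) hS)))
  obtain ⟨k, hk⟩ := IsPGroup.iff_orderOf.1 S.2 q
  refine ⟨q, ?_, fun h => hqX (mem_subgroupOf.2 h), S.2.to_le (sup_le hS (zpowers_le.2 q.2)), k,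
    by rw [← hk, Subgroup.orderOf_coe]⟩
  refine Cfsg.Lib.Coprime.mem_normalizer_of_conj_mem (fun x hx => ?_) (fun x hx => ?_)
  · exact mem_subgroupOf.1 ((mem_normalizer_iff.1 hq ⟨x, hS hx⟩).1 (mem_subgroupOf.2 hx))
  · have h := (mem_normalizer_iff.1 (inv_mem hq) ⟨x, hS hx⟩).1 (mem_subgroupOf.2 hx)
    simpa using mem_subgroupOf.1 h

/-- an invariant `p`-subgroup with its Sylow property in an odd overgroup absorbs -/
theorem mem_of_pgroup_sylow {p : ℕ} [Fact p.Prime] {X K : Subgroup G} (hXK : X ≤ K) (hXp : IsPGroup p X)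
    (hs : ¬ p ∣ X.relIndex K) {q : G} (hqK : q ∈ K) (hq : IsPGroup p ↥(X ⊔ zpowers q)) : q ∈ X := by
  let P : Sylow p K := (hXp.comap_subtype (K := K)).toSylow hs
  have h := P.3 (hq.comap_subtype (K := K)) (comap_mono le_sup_left)
  have h1 : (⟨q, hqK⟩ : K) ∈ (X ⊔ zpowers q).subgroupOf K := mem_subgroupOf.2 (mem_sup_right (mem_zpowers q))
  rw [show (X ⊔ zpowers q).subgroupOf K = X.subgroupOf K from h] at h1
  exact mem_subgroupOf.1 h1

/-- THE LOCAL FACTS -/
theorem local_facts (hm : Minimal G) (hNF : F.NonFusingSpec) (hOdd : F.OddSpec) (hTop : F.TopSpec) : F.Local := by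
  intro hmax p S hp hR hS
  haveI : Fact p.Prime := ⟨hp⟩
  obtain ⟨hSO, hSp, hSsyl, hSU, x₀, hx₀, hmov⟩ := hS
  have hSne : S ≠ ⊥ := fun e => hmov (by rw [e, mem_bot] at hx₀; simp [hx₀])
  have hp2 : p ≠ 2 := by
    rintro rfl
    obtain ⟨k, hk⟩ := IsPGroup.iff_card.1 hSp
    have hk0 : k ≠ 0 := fun e => hSne (eq_bot_of_card_eq _ (by rw [hk, e, pow_zero]))
    exact Nat.not_even_iff_odd.2 (F.odd_card_O.of_dvd_nat (card_dvd_of_le hSO))
      (by rw [hk]; exact Nat.even_pow.2 ⟨even_two, hk0⟩)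
  -- `O_p(O)` is in `S`, its normaliser is `C`
  have hRS : F.R p ≤ S := by
    let P : Sylow p F.O := (hSp.comap_subtype (K := F.O)).toSylow hSsyl
    rw [← map_subgroupOf_eq_of_le hSO]
    exact map_mono (Cfsg.Lib.Coprime.pCore_le_sylow p P)
  have hCR : F.C ≤ normalizer (F.R p : Set G) := fun c hc =>
    Cfsg.Lib.OddP.le_normalizer_map_of_char (Cfsg.pCore p F.O) (F.C_le_normalizer_O hc)
  have hNR : normalizer (F.R p : Set G) = F.C := by
    rcases eq_or_lt_of_le hCR with h | h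
    · exact h.symm
    · exact absurd (hmax.2 _ h)
        (F.not_normal_pgroup hm hp2 ((Cfsg.Lib.Components.isPGroup_pCore p).map _) hR)
  have hCSC : centralizer (S : Set G) ≤ F.C :=
    ((centralizer_le (SetLike.coe_subset_coe.2 hRS)).trans (centralizer_le_normalizer _)).trans hNR.le
  have htS : F.t ∈ centralizer (S : Set G) := mem_centralizer_iff.2 fun x hx => F.mem_C.1 (F.O_le (hSO hx))
  -- `t` is the only involution of `C(S)`, so `N(S) ≤ C`
  have honly : ∀ c ∈ centralizer (S : Set G), orderOf c = 2 → c = F.t := by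
    intro c hc hc2
    have hc' : c ∈ F.O ⊔ F.U := F.C_eq hm ▸ hCSC hc
    obtain ⟨a, ha, o, ho, rfl⟩ := (Cfsg.Lib.Coprime.mem_sup_of_le_normalizer' F.U_le_normalizer_O).1 hc'
    have hoodd := Frame.odd_orderOf F.odd_card_O ho
    have haS : ∀ x ∈ S, a * (o * x * o⁻¹) * a⁻¹ = x := fun x hx => by
      rw [show a * (o * x * o⁻¹) * a⁻¹ = a * o * x * (a * o)⁻¹ by group, ← mem_centralizer_iff.1 hc x hx,
        mul_inv_cancel_right]
    have haU : ∀ x, a * (a * x * a⁻¹) * a⁻¹ = x := fun x => by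
      have haa : a * a = 1 := by
        rcases F.mem_U.1 ha with e | e | e | e <;> subst e
        exacts [one_mul 1, F.t_sq, F.u_sq, F.v_sq]
      rw [show a * (a * x * a⁻¹) * a⁻¹ = (a * a) * x * (a * a)⁻¹ by group, haa]; simp
    have hoS : ∀ x ∈ S, o * x * o⁻¹ = a * x * a⁻¹ := fun x hx => by
      conv_lhs => rw [← haU (o * x * o⁻¹)]
      rw [haS x hx]
    have hoo : o * o ∈ centralizer (S : Set G) := mem_centralizer_iff.2 fun x hx => by
      have hax : a * x * a⁻¹ ∈ S := (mem_normalizer_iff.1 (hSU ha) x).1 hx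
      refine (mul_inv_eq_iff_eq_mul.1 ?_).symm
      rw [show o * o * x * (o * o)⁻¹ = o * (o * x * o⁻¹) * o⁻¹ by group, hoS x hx, hoS _ hax, haU]
    have hoC : o ∈ centralizer (S : Set G) := Cfsg.Lib.GenDihedral.mem_of_sq hoodd hoo
    have haC : a ∈ centralizer (S : Set G) := by
      have := mul_mem hc (inv_mem hoC); rwa [mul_inv_cancel_right] at this
    have hat : a = 1 ∨ a = F.t := by
      rcases F.mem_U.1 ha with e | e | e | e
      · exact Or.inl e
      · exact Or.inr e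
      · subst e; exact absurd (mul_inv_eq_iff_eq_mul.2 (mem_centralizer_iff.1 haC x₀ hx₀).symm) hmov
      · subst e
        refine absurd ?_ hmov
        have h := mul_mem (inv_mem htS) haC
        rw [inv_mul_cancel_left] at h
        exact mul_inv_eq_iff_eq_mul.2 (mem_centralizer_iff.1 h x₀ hx₀).symm
    rcases hat with rfl | rfl
    · rw [one_mul] at hc2
      rw [hc2] at hoodd
      exact absurd hoodd (by decide)
    · have h1 : o * o = 1 := by
        have hcomm : F.t * o = o * F.t := (F.mem_C.1 (F.O_le ho)).symm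
        have h2 : F.t * o * (F.t * o) = 1 := by rw [← pow_two, ← hc2, pow_orderOf_eq_one]
        calc o * o = F.t * F.t * (o * o) := by rw [F.t_sq, one_mul]
          _ = F.t * (F.t * o) * o := by group
          _ = F.t * (o * F.t) * o := by rw [hcomm]
          _ = F.t * o * (F.t * o) := by group
          _ = 1 := h2
      rw [show o = 1 from mem_bot.1 (Cfsg.Lib.GenDihedral.mem_of_sq (W := ⊥) hoodd (mem_bot.2 h1)), mul_one]
  have hNS : normalizer (S : Set G) ≤ F.C := fun n hn => F.mem_C.2 (mul_inv_eq_iff_eq_mul.1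
    (honly (n * F.t * n⁻¹) (mem_centralizer_iff.2 fun x hx => by
      have hx' : n⁻¹ * x * n ∈ S := (mem_normalizer_iff''.1 hn x).1 hx
      have h := mem_centralizer_iff.1 htS _ hx'
      calc x * (n * F.t * n⁻¹) = n * (n⁻¹ * x * n * F.t) * n⁻¹ := by group
        _ = n * (F.t * (n⁻¹ * x * n)) * n⁻¹ := by rw [h]
        _ = n * F.t * n⁻¹ * x := by group)
      ((MulEquiv.orderOf_eq (MulAut.conj n) F.t).trans F.t_order)))
  -- Sylow
  obtain ⟨P, hP⟩ : ∃ P : Sylow p G, (P : Subgroup G) = S := by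
    by_contra hno
    push Not at hno
    obtain ⟨q, hqn, hqS, hqp, k, hk⟩ := exists_grow hSp hno
    have ho : Odd (orderOf q) := by rw [hk]; exact (hp.odd_of_ne_two hp2).pow
    exact hqS (mem_of_pgroup_sylow hSO hSp hSsyl ((F.mem_O hm).2 ⟨F.mem_C.1 (hNS hqn), ho⟩) hqp)
  -- HYP
  have hN₀ : ¬ F.Fusing (normalizer (Cfsg.centerThompsonAOf S : Set G)) := by
    intro hf
    set N := normalizer (Cfsg.centerThompsonAOf S : Set G) with hN
    have hSN : S ≤ N := le_normalizer.trans (normalizer_le_zj S)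
    have hZle : Cfsg.centerThompsonAOf S ≤ S :=
      (inf_le_left : Cfsg.centerThompsonAOf S ≤ Cfsg.thompsonSubgroupAOf S).trans (map_subtype_le _)
    have hNtop : N ≠ ⊤ := F.not_normal_pgroup hm hp2 (hSp.to_le hZle)
      (Cfsg.Lib.ZJ.centerThompsonAOf_ne_bot hSp hSne)
    have hfix : S ⊓ Core N ≤ centralizer (F.U : Set G) := by
      rw [inf_comm]
      refine F.sylow_le_centralizer hm hf (le_normalizer_core N) (odd_card_core N) inf_le_left
        (hSp.to_le inf_le_right) ?_ (Cfsg.Lib.Coprime.le_normalizer_inf (hf.1.trans (le_normalizer_core N)) hSU)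
        F.t_mem_U F.t_ne_one fun x hx => mem_centralizer_singleton_iff.2 (F.mem_C.1 (F.O_le (hSO (mem_inf.1 hx).2)))
      rw [← hP]
      exact not_dvd_relIndex_inf P (by rw [hP]; exact hSN.trans (le_normalizer_core N))
    obtain ⟨g, hgS, hgu, hall, hgn, hgc⟩ := F.inverted_cyclic_in hTop hNtop hf hSN hSO hSU hfix
    have hg1 : g ≠ 1 := by
      obtain ⟨a, ha, b, hb, hau, hbu, rfl⟩ :=
        Frame.exists_fixed_mul_inverted (F.odd_card_O.of_dvd_nat (card_dvd_of_le hSO)) F.u_sq (hSU F.u_mem_U) hx₀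
      intro e
      have hb1 := hall b hb hbu
      rw [e, zpowers_one_eq_bot, mem_bot] at hb1
      exact hmov (by rw [hb1, mul_one]; exact hau)
    haveI : ((zpowers g).subgroupOf S).Normal := normal_subgroupOf_iff_le_normalizer (zpowers_le.2 hgS) |>.2 hgn
    obtain ⟨w, hw, hwc, hwo⟩ := Cfsg.Lib.PGroups.exists_mem_center_of_normal_ne_bot hSp
      (N := (zpowers g).subgroupOf S) fun e => hg1 (by
        have h1 : (⟨g, hgS⟩ : S) ∈ (zpowers g).subgroupOf S := mem_subgroupOf.2 (mem_zpowers g)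
        rw [e, mem_bot] at h1
        exact congrArg Subtype.val h1)
    have hwZ : (w : G) ∈ Cfsg.centerThompsonAOf S := mem_zj_of_central w.2 fun x hx =>
      congrArg Subtype.val (mem_center_iff.1 hwc ⟨x, hx⟩)
    have hwcore : (w : G) ∈ Core N := le_core (le_normalizer) le_rfl
      (odd_of_pgroup hp2 (hSp.to_le hZle)) hwZ
    have h1 : (w : G) = 1 := mem_bot.1 (hgc ▸ mem_inf.2 ⟨mem_subgroupOf.1 hw, hwcore⟩)
    have h2 : orderOf (w : G) = p := by rw [Subgroup.orderOf_coe, hwo]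
    rw [h1, orderOf_one] at h2
    exact hp.ne_one h2.symm
  have hyp : F.NoZJ p := by
    intro P' hf'
    obtain ⟨h, hh⟩ := MulAction.exists_smul_eq G P P'
    set N' := normalizer (Cfsg.centerThompsonAOf (P' : Subgroup G) : Set G) with hN'
    set N := normalizer (Cfsg.centerThompsonAOf S : Set G) with hN
    have hconj : ∀ x ∈ N', h⁻¹ * x * h ∈ N := by
      intro x hx
      have e : Cfsg.centerThompsonAOf (P' : Subgroup G) =
          (Cfsg.centerThompsonAOf S).map (MulAut.conj h).toMonoidHom := by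
        rw [Cfsg.Lib.ZJ.centerThompsonAOf_map_injOn (MulAut.conj h).injective.injOn, ← hh, ← hP]
        rfl
      rw [hN', e] at hx
      refine mem_normalizer_iff.2 fun z => ?_
      have := mem_normalizer_iff.1 hx (h * z * h⁻¹)
      rw [mem_map_equiv, mem_map_equiv, MulAut.conj_symm_apply, MulAut.conj_symm_apply] at this
      convert this using 2 <;> group
    have hUN : F.U ≤ N := hSU.trans (normalizer_le_zj S)
    haveI : Fact (Nat.Prime 2) := ⟨Nat.prime_two⟩
    let PU : Sylow 2 N := (F.sylowU hm).subtype (by rw [F.coe_sylowU hm]; exact hUN)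
    set V := F.U.map (MulAut.conj h⁻¹).toMonoidHom with hV
    have hVN : V ≤ N := by
      rintro _ ⟨x, hx, rfl⟩
      simpa using hconj x (hf'.1 hx)
    obtain ⟨PV, hPV⟩ := ((F.isPGroup_U.map (MulAut.conj h⁻¹).toMonoidHom).comap_subtype (K := N)).exists_le_sylow
    obtain ⟨n, hn⟩ := MulAction.exists_smul_eq N PV PU
    set m : G := (n : G) * h⁻¹ with hm'
    have hmU : ∀ x ∈ F.U, m * x * m⁻¹ ∈ F.U := by
      intro x hx
      have hxV : h⁻¹ * x * h ∈ V := ⟨x, hx, by simp⟩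
      have h1 : n * ⟨_, hVN hxV⟩ * n⁻¹ ∈ (PU : Subgroup N) := by
        rw [← hn]; exact ⟨_, hPV (mem_subgroupOf.2 hxV), rfl⟩
      rw [show (PU : Subgroup N) = F.U.subgroupOf N by simp [PU, Sylow.coe_subtype, F.coe_sylowU hm]] at h1
      have h2 : (n : G) * (h⁻¹ * x * h) * (n : G)⁻¹ ∈ F.U := mem_subgroupOf.1 h1
      rwa [show (n : G) * h⁻¹ * x * ((n : G) * h⁻¹)⁻¹ = (n : G) * (h⁻¹ * x * h) * (n : G)⁻¹ by group]
    have hmn : m ∈ normalizer (F.U : Set G) := Cfsg.Lib.GW.mem_normalizer_finite hmU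
    obtain ⟨g, hgN, hgU, hgt, hgu, -⟩ := F.exists_rot hm hf'
    set g' := m * g * m⁻¹ with hg'
    have hg'U : g' ∈ normalizer (F.U : Set G) := mul_mem (mul_mem hmn hgU) (inv_mem hmn)
    have hg'N : g' ∈ N := by
      have := mul_mem (mul_mem n.2 (hconj g hgN)) (inv_mem n.2)
      rwa [hg', hm', show (n : G) * h⁻¹ * g * ((n : G) * h⁻¹)⁻¹ = (n : G) * (h⁻¹ * g * h) * (n : G)⁻¹ by group]
    rcases F.mem_U.1 ((mem_normalizer_iff.1 hg'U _).1 F.t_mem_U) with e | e | e | e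
    · exact F.t_ne_one (conj_eq_one_iff.1 e)
    · -- `g'` would centralise `U`
      have hc := F.centralizes_of_normalizer hm hg'U e
      have hcU : ∀ x ∈ F.U, g * x * g⁻¹ = x := fun x hx => by
        have h1 := mem_centralizer_iff.1 hc _ (hmU x hx)
        have h2 : g' * (m * x * m⁻¹) * g'⁻¹ = m * x * m⁻¹ := by rw [← h1, mul_inv_cancel_right]
        rw [hg', show m * g * m⁻¹ * (m * x * m⁻¹) * (m * g * m⁻¹)⁻¹ = m * (g * x * g⁻¹) * m⁻¹ by group] at h2
        exact mul_left_cancel (mul_right_cancel h2)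
      exact F.t_ne_u (by rw [← hgt, hcU _ F.t_mem_U])
    · exact hN₀ (F.fusing_of_conj hm hUN hg'N e)
    · have hc := F.centralizes_of_normalizer hm (mul_mem F.σ_mem hg'U) (by
        rw [show F.σ * g' * F.t * (F.σ * g')⁻¹ = F.σ * (g' * F.t * g'⁻¹) * F.σ⁻¹ by group, e, F.σ_v])
      refine hN₀ (F.fusing_of_conj hm hUN (inv_mem hg'N) ?_)
      rw [show g'⁻¹ * F.t * g'⁻¹⁻¹ = (F.σ * g')⁻¹ * (F.σ * F.t * F.σ⁻¹) * (F.σ * g') by group, F.σ_t, mul_assoc,
        mem_centralizer_iff.1 hc _ F.u_mem_U, inv_mul_cancel_left]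
  have hcore := F.core_fixed_of hm hNF hOdd hp2 hyp
  have hUcA : ∀ A : Subgroup G, A ≤ F.W → F.U ≤ centralizer (A : Set G) := fun A hA =>
    le_centralizer_iff.1 (hA.trans F.W_le_centralizer_U)
  -- fusing centralisers
  have hfus : ∀ A : Subgroup G, A ≤ F.W → IsPGroup p A → A ≠ ⊥ → F.Fusing (centralizer (A : Set G)) := by
    -- conjugating into `S` by elements of `W`
    have hinto : ∀ A : Subgroup G, A ≤ F.W → IsPGroup p A → ∃ c ∈ F.W, ∀ a ∈ A, c * a * c⁻¹ ∈ S := by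
      intro A hA hAp
      have hUA : F.U ≤ normalizer (A : Set G) := (hUcA A hA).trans (centralizer_le_normalizer _)
      obtain ⟨Q, hAQ, hQO, hQp, hQs, hQU⟩ :=
        F.exists_sylow_over F.odd_card_O F.U_le_normalizer_O (hA.trans F.W_le) hAp hUA
      obtain ⟨c, hcO, hcU, hc⟩ :=
        F.conj_sylow F.odd_card_O F.U_le_normalizer_O hQO hQp hQs hQU hSO hSp hSsyl hSU
      exact ⟨c, (F.mem_W_iff hm).2 ⟨hcU, Frame.odd_orderOf F.odd_card_O hcO⟩,
        fun a ha => hc ▸ ⟨a, hAQ ha, rfl⟩⟩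
    intro A hA hAp hAne
    obtain ⟨c, hc, hcS⟩ := hinto A hA hAp
    set A' := A.map (MulAut.conj c).toMonoidHom with hA'def
    have hA'W : A' ≤ F.W := by
      rintro _ ⟨a, ha, rfl⟩
      exact mul_mem (mul_mem hc (hA ha)) (inv_mem hc)
    have hA'S : (A' : Set G) ⊆ (P : Subgroup G) := by
      rintro _ ⟨a, ha, rfl⟩
      rw [hP]; exact hcS a ha
    have hσW : A'.map (MulAut.conj F.σ).toMonoidHom ≤ F.W := by
      rintro _ ⟨a, ha, rfl⟩
      exact (mem_normalizer_iff.1 (F.σ_mem_normalizer_W hm) a).1 (hA'W ha)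
    obtain ⟨d, hd, hdS⟩ := hinto _ hσW ((hAp.map _).map _)
    obtain ⟨n, hn, hna⟩ := zj_fusion hp2 (abelian_two_top hm F) P hA'S (g := d * F.σ) (fun a ha => by
      rw [hP, show d * F.σ * a * (d * F.σ)⁻¹ = d * (F.σ * a * F.σ⁻¹) * d⁻¹ by group]
      exact hdS _ ⟨a, ha, rfl⟩)
    rw [hP] at hn
    set N := normalizer (Cfsg.centerThompsonAOf S : Set G) with hN
    have hUN : F.U ≤ N := hSU.trans (normalizer_le_zj S)
    set c₀ := n⁻¹ * (d * F.σ) with hc₀
    have hc₀A : c₀ ∈ centralizer (A' : Set G) := mem_centralizer_iff.2 fun a ha => by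
      have h1 := hna a ha
      calc a * c₀ = n⁻¹ * (n * a * n⁻¹) * (d * F.σ) := by rw [hc₀]; group
        _ = n⁻¹ * (d * F.σ * a * (d * F.σ)⁻¹) * (d * F.σ) := by rw [h1]
        _ = c₀ * a := by rw [hc₀]; group
    have hdU : d * F.u * d⁻¹ = F.u :=
      mul_inv_eq_iff_eq_mul.2 (F.mem_centralizer_U.1 (F.W_le_centralizer_U hd)).2
    set w := c₀ * F.t * c₀⁻¹ with hw
    have hwu : w = n⁻¹ * F.u * n := by
      rw [hw, hc₀, show n⁻¹ * (d * F.σ) * F.t * (n⁻¹ * (d * F.σ))⁻¹ = n⁻¹ * (d * (F.σ * F.t * F.σ⁻¹) * d⁻¹) * n by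
        group, F.σ_t, hdU]
    have hw2 : orderOf w = 2 := by rw [hw]; exact (MulEquiv.orderOf_eq (MulAut.conj c₀) F.t).trans F.t_order
    -- `w * u` is in the core of `N`
    have hwcore : Odd (orderOf (w * F.u)) := by
      have hNtop : N ≠ ⊤ := F.not_normal_pgroup hm hp2
        (hSp.to_le ((inf_le_left : Cfsg.centerThompsonAOf S ≤ Cfsg.thompsonSubgroupAOf S).trans (map_subtype_le _)))
        (Cfsg.Lib.ZJ.centerThompsonAOf_ne_bot hSp hSne)
      have hn' : n ∈ Core N ⊔ F.U := hNF N hNtop hUN hN₀ ▸ hn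
      obtain ⟨v, hv, o, ho, rfl⟩ :=
        (Cfsg.Lib.Coprime.mem_sup_of_le_normalizer' (hUN.trans (le_normalizer_core N))).1 hn'
      refine Frame.odd_orderOf (odd_card_core N) (show w * F.u ∈ Core N from ?_)
      have hvu : v⁻¹ * F.u * v = F.u := by
        rw [mul_assoc, F.U_comm F.u_mem_U hv, inv_mul_cancel_left]
      rw [hwu, show (v * o)⁻¹ * F.u * (v * o) * F.u = o⁻¹ * (v⁻¹ * F.u * v) * o * F.u by group, hvu,
        show o⁻¹ * F.u * o * F.u = o⁻¹ * (F.u * o * F.u) by group]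
      refine mul_mem (inv_mem ho) ?_
      have := (mem_normalizer_iff.1 (le_normalizer_core N (hUN F.u_mem_U)) o).1 ho
      rwa [F.u_inv] at this
    obtain ⟨e, he, hew⟩ := Cfsg.Lib.InvolCalc.conj_of_odd hw2 F.u_order hwcore
    have hUA' : F.U ≤ centralizer (A' : Set G) := hUcA A' hA'W
    have hwA : w ∈ centralizer (A' : Set G) := mul_mem (mul_mem hc₀A (hUA' F.t_mem_U)) (inv_mem hc₀A)
    have heA : e ∈ centralizer (A' : Set G) :=
      (closure_le _).2 (Set.insert_subset hwA (Set.singleton_subset_iff.2 (hUA' F.u_mem_U))) he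
    have hf := F.fusing_of_conj hm hUA' (mul_mem heA hc₀A) (by
      rw [show e * c₀ * F.t * (e * c₀)⁻¹ = e * w * e⁻¹ by rw [hw]; group, hew])
    -- back to `A`
    obtain ⟨g, hg, hgU, hgt, -, -⟩ := F.exists_rot hm hf
    have hcU := F.mem_centralizer_U.1 (F.W_le_centralizer_U hc)
    refine F.fusing_of_conj hm (hUcA A hA) (g := c⁻¹ * g * c) (mem_centralizer_iff.2 fun a ha => ?_) ?_
    · have h1 := mem_centralizer_iff.1 hg (c * a * c⁻¹) ⟨a, ha, rfl⟩
      calc a * (c⁻¹ * g * c) = c⁻¹ * (c * a * c⁻¹ * g) * c := by group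
        _ = c⁻¹ * (g * (c * a * c⁻¹)) * c := by rw [h1]
        _ = c⁻¹ * g * c * a := by group
    · rw [show c⁻¹ * g * c * F.t * (c⁻¹ * g * c)⁻¹ = c⁻¹ * (g * (c * F.t * c⁻¹) * g⁻¹) * c by group,
        mul_inv_eq_iff_eq_mul.2 hcU.1, hgt, mul_assoc, ← hcU.2, inv_mul_cancel_left]
  refine ⟨⟨P, hP⟩, fun X hXp hXU => ?_, hcore, hfus, fun A hAW hAS hAne => ?_⟩
  · -- every invariant `p`-subgroup is centralised by an involution of `U`
    by_cases hXc : X ≤ centralizer (F.U : Set G)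
    · exact ⟨F.t, F.t_mem_U, F.t_ne_one, fun x hx =>
        mem_centralizer_singleton_iff.2 (F.mem_centralizer_U.1 (hXc hx)).1⟩
    obtain ⟨Y, hXY, hmaxY⟩ := Finite.exists_le_maximal
      (p := fun Y : Subgroup G => IsPGroup p Y ∧ F.U ≤ normalizer (Y : Set G)) ⟨hXp, hXU⟩
    obtain ⟨hYp, hYU⟩ := hmaxY.1
    have hYne : Y ≠ ⊥ := fun e => hXc ((le_bot_iff.1 (e ▸ hXY)).symm ▸ bot_le)
    set N := normalizer (Y : Set G) with hN
    have hNtop : N ≠ ⊤ := F.not_normal_pgroup hm hp2 hYp hYne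
    have hYcore : Y ≤ Core N := le_core le_normalizer le_rfl (odd_of_pgroup hp2 hYp)
    have hnf : ¬ F.Fusing N := fun hf => hXc (hXY.trans (hcore N hNtop hf Y hYp hYcore hYU))
    have hNeq := hNF N hNtop hYU hnf
    obtain ⟨Y', hYY', hY'K, hY'p, hY's, hY'U⟩ :=
      F.exists_sylow_over (odd_card_core N) (hYU.trans (le_normalizer_core N)) hYcore hYp hYU
    have hYs : ¬ p ∣ Y.relIndex (Core N) := by
      rwa [show Y = Y' from le_antisymm hYY' (hmaxY.2 ⟨hY'p, hY'U⟩ hYY')]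
    obtain ⟨Q, hQ⟩ : ∃ Q : Sylow p G, (Q : Subgroup G) = Y := by
      by_contra hno
      push Not at hno
      obtain ⟨q, hqn, hqY, hqp, k, hk⟩ := exists_grow hYp hno
      exact hqY (mem_of_pgroup_sylow hYcore hYp hYs (F.mem_core_of_odd' hYU hNeq hqn
        (by rw [hk]; exact (hp.odd_of_ne_two hp2).pow)) hqp)
    obtain ⟨g, hg⟩ := MulAction.exists_smul_eq G P Q
    have hYg : Y = S.map (MulAut.conj g).toMonoidHom := by rw [← hQ, ← hg, ← hP]; rfl
    haveI : Fact (Nat.Prime 2) := ⟨Nat.prime_two⟩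
    let PU : Sylow 2 ↥(normalizer (S : Set G)) := (F.sylowU hm).subtype (by rw [F.coe_sylowU hm]; exact hSU)
    set V := F.U.map (MulAut.conj g⁻¹).toMonoidHom with hV
    have hVN : V ≤ normalizer (S : Set G) := by
      rintro _ ⟨x, hx, rfl⟩
      have h1 := hYU hx
      rw [hN, hYg] at h1
      refine mem_normalizer_iff.2 fun z => ?_
      have := mem_normalizer_iff.1 h1 (g * z * g⁻¹)
      rw [mem_map_equiv, mem_map_equiv, MulAut.conj_symm_apply, MulAut.conj_symm_apply] at this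
      simp only [MulEquiv.coe_toMonoidHom, MulAut.conj_apply]
      convert this using 2 <;> group
    obtain ⟨PV, hPV⟩ :=
      ((F.isPGroup_U.map (MulAut.conj g⁻¹).toMonoidHom).comap_subtype (K := normalizer (S : Set G))).exists_le_sylow
    obtain ⟨k, hk⟩ := MulAction.exists_smul_eq ↥(normalizer (S : Set G)) PV PU
    set m : G := (k : G) * g⁻¹ with hm'
    have hmU : ∀ x ∈ F.U, m * x * m⁻¹ ∈ F.U := by
      intro x hx
      have hxV : g⁻¹ * x * g ∈ V := ⟨x, hx, by simp⟩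
      have h1 : k * ⟨_, hVN hxV⟩ * k⁻¹ ∈ (PU : Subgroup ↥(normalizer (S : Set G))) := by
        rw [← hk]; exact ⟨_, hPV (mem_subgroupOf.2 hxV), rfl⟩
      rw [show (PU : Subgroup ↥(normalizer (S : Set G))) = F.U.subgroupOf _ by
        simp [PU, Sylow.coe_subtype, F.coe_sylowU hm]] at h1
      have h2 : (k : G) * (g⁻¹ * x * g) * (k : G)⁻¹ ∈ F.U := mem_subgroupOf.1 h1
      rwa [show (k : G) * g⁻¹ * x * ((k : G) * g⁻¹)⁻¹ = (k : G) * (g⁻¹ * x * g) * (k : G)⁻¹ by group]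
    have hmn : m ∈ normalizer (F.U : Set G) := Cfsg.Lib.GW.mem_normalizer_finite hmU
    refine ⟨m⁻¹ * F.t * m, (mem_normalizer_iff''.1 hmn _).1 F.t_mem_U, fun e => F.t_ne_one ?_, fun x hx => ?_⟩
    · rw [show F.t = m * (m⁻¹ * F.t * m) * m⁻¹ by group, e]; simp
    · obtain ⟨y, hy, rfl⟩ := (hYg ▸ hXY hx : x ∈ S.map (MulAut.conj g).toMonoidHom)
      have hky : (k : G) * y * (k : G)⁻¹ ∈ S := (mem_normalizer_iff.1 k.2 y).1 hy
      refine mem_centralizer_singleton_iff.2 ?_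
      simp only [MulEquiv.coe_toMonoidHom, MulAut.conj_apply]
      have h1 := F.mem_C.1 (F.O_le (hSO hky))
      calc g * y * g⁻¹ * (m⁻¹ * F.t * m) = m⁻¹ * ((k : G) * y * (k : G)⁻¹ * F.t) * m := by rw [hm']; group
        _ = m⁻¹ * (F.t * ((k : G) * y * (k : G)⁻¹)) * m := by rw [h1]
        _ = m⁻¹ * F.t * m * (g * y * g⁻¹) := by rw [hm']; group
  · -- the inverted elements centralising `A` are cyclic
    have hAp : IsPGroup p A := hSp.to_le hAS
    have hHtop : centralizer (A : Set G) ≠ ⊤ := fun e => F.not_normal_pgroup hm hp2 hAp hAne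
      (top_le_iff.1 (e ▸ centralizer_le_normalizer _))
    have hUA := hUcA A hAW
    obtain ⟨g, hg, hgu, hall, -, -⟩ := F.inverted_cyclic_in hTop (X := S ⊓ centralizer (A : Set G))
      hHtop (hfus A hAW hAp hAne) inf_le_right (inf_le_left.trans hSO)
      (Cfsg.Lib.Coprime.le_normalizer_inf hSU (hUA.trans le_normalizer))
      (hcore _ hHtop (hfus A hAW hAp hAne) _ (hSp.to_le (inf_le_left.trans inf_le_left)) inf_le_right
        (Cfsg.Lib.Coprime.le_normalizer_inf (Cfsg.Lib.Coprime.le_normalizer_inf hSU (hUA.trans le_normalizer))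
          (hUA.trans (le_normalizer_core _))))
    exact ⟨g, hg, hgu, hall⟩

end Frame

end Cfsg.Lib.GW
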