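import Cfsg.Agent.FourGroupGW.Assembly
import Cfsg.Agent.FourGroupGW.MaxCent.Main
import Cfsg.Agent.FourGroupGW.Local
import Cfsg.Agent.FourGroupGW.Proper
import Cfsg.Agent.FourGroupGW.Mixed.Plane
import Cfsg.Agent.FourGroupGW.CharBounds
import Cfsg.Agent.GWFour.Consumers.Reduce

/-!
Gorenstein–Walter, four-group case: the theorem from the specifications of the remaining pieces.
-/

set_option autoImplicit false

namespace Cfsg.Lib.GW

universe u

/-- The four-group theorem, from the structure of proper subgroups (B), the characters (C) and the two kinds of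
primes (F, G and H). -/
theorem fourGroupProp_of_specs
    (hB : ∀ (G : Type u) [Group G] [Finite G] (F : Frame G), Minimal G →
      F.NonFusingSpec ∧ F.TopSpec ∧ F.OddSpec ∧ F.CompSpec)
    (hC : ∀ (G : Type u) [Group G] [Finite G] (F : Frame G), Minimal G → F.CharBound ∧ F.LinearKill)
    (hF : ∀ (G : Type u) [Group G] [Finite G] (F : Frame G), Minimal G → F.NoMixed ∧ F.NoInverted) :
    Cfsg.Lib.GWFour.FourGroupProp.{u} := by
  refine Cfsg.Lib.GWFour.fourGroupProp_of_minimal fun G _ _ hm => ?_
  obtain ⟨F⟩ := nonempty_frame hm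
  obtain ⟨hNF, hT, hO, hComp⟩ := hB G F hm
  obtain ⟨hcb, hkill⟩ := hC G F hm
  obtain ⟨hmix, hinv⟩ := hF G F hm
  exact F.iso_psl hm (F.W_eq_bot (MaxCent.maximal_of_specs F hm hNF hT hO hComp hcb) hkill hmix hinv)

/-- The four-group theorem from what is left: the characters and the inverted case of kind (s). -/
theorem fourGroupProp_of_chars
    (hC : ∀ (G : Type u) [Group G] [Finite G] (F : Frame G), Minimal G → F.CharBound ∧ F.LinearKill)
    (hI : ∀ (G : Type u) [Group G] [Finite G] (F : Frame G), Minimal G → F.NoInverted) :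
    Cfsg.Lib.GWFour.FourGroupProp.{u} :=
  fourGroupProp_of_specs (fun _ _ _ F hm => ⟨F.nonFusingSpec hm, F.topSpec hm, F.oddSpec hm, F.compSpec hm⟩) hC
    fun G _ _ F hm => ⟨Mixed.noMixed hm (F.topSpec hm) (hC G F hm).1
      (F.local_facts hm (F.nonFusingSpec hm) (F.oddSpec hm) (F.topSpec hm)), hI G F hm⟩

/-- The four-group theorem from the two block statements and the inverted case of kind (s). -/
theorem fourGroupProp_of_blocks
    (hFix : ∀ (G : Type u) [Group G] [Finite G] (F : Frame G), Minimal G → F.FixSpec ∧ F.MoveSpec)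
    (hI : ∀ (G : Type u) [Group G] [Finite G] (F : Frame G), Minimal G → F.NoInverted) :
    Cfsg.Lib.GWFour.FourGroupProp.{u} :=
  fourGroupProp_of_chars (fun G _ _ F hm => ⟨F.charBound hm (hFix G F hm).1,
    F.linearKill hm (hFix G F hm).1 (hFix G F hm).2⟩) hI

end Cfsg.Lib.GW
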