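import Cfsg.Agent.FourGroupGW.CentralPair
import Cfsg.Agent.Chars.TI
import Cfsg.Agent.Chars.NormTwo

/-!
# The degree bound from the characters of `C(t)` over a non-trivial character of `⟨z⟩`

`t, u` generate a four-group, `O` has odd order, every element centralising `t` lies in `O ⟨t, u⟩`;
`A ≤ K ≤ O` with `A` central in `O` and inverted by `u`, `O / K` cyclic and inverted by `u`.  The
elements of `O` outside `K` and the non-trivial elements of `A` have centralisers inside `C(t)`.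
A character of `G` whose values on `t O` are a multiple of a function invariant under translation by
`z`, and which is not trivial at `z`, contains every character of `C(t)` which is non-trivial at `z`.
-/

set_option autoImplicit false
set_option linter.unusedSectionVars false
set_option linter.style.haveILetI false

namespace Cfsg.Lib.GW

open scoped ComplexConjugate
open Cfsg.Lib.Chars

universe u

variable {G : Type u} [Group G]

/-- The hypotheses of the degree bound. -/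
structure FamilyData (t u : G) (O K A : Subgroup G) (z : G) (p : ℕ) : Prop where
  tt : t * t = 1
  uu : u * u = 1
  tu : t * u = u * t
  tne : t ≠ 1
  tnu : t ≠ u
  odd : Odd (Nat.card O)
  tcent : ∀ o ∈ O, t * o = o * t
  unorm : ∀ o ∈ O, u * o * u⁻¹ ∈ O
  cover : ∀ c : G, c * t = t * c → c ∈ O ∨ c * t ∈ O ∨ c * u ∈ O ∨ c * (t * u) ∈ O
  KO : K ≤ O
  AK : A ≤ K
  knorm : ∀ o ∈ O, ∀ k ∈ K, o * k * o⁻¹ ∈ K
  acent : ∀ a ∈ A, ∀ o ∈ O, a * o = o * a
  ainv : ∀ a ∈ A, u * a * u⁻¹ = a⁻¹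
  kinv : ∀ o ∈ O, u * o * u⁻¹ * o ∈ K
  cyc : ∃ r ∈ O, ∀ o ∈ O, ∃ i : ℕ, (r ^ i)⁻¹ * o ∈ K
  hp : p.Prime
  zA : z ∈ A
  zp : z ^ p = 1
  z1 : z ≠ 1
  card : Nat.card K = p ^ 2 * Nat.card A
  nondeg : ∀ k ∈ K, k ∉ A →
    ∃ y ∈ K, y * k * y⁻¹ * k⁻¹ ∈ Subgroup.zpowers z ∧ y * k * y⁻¹ * k⁻¹ ≠ 1
  cent : ∀ x ∈ O, (x ∉ K ∨ (x ∈ A ∧ x ≠ 1)) → ∀ c : G, c * x = x * c → c * t = t * c

namespace FamilyData

variable {t u z : G} {O K A : Subgroup G} {p : ℕ} (D : FamilyData t u O K A z p)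
include D

/-- The special set. -/
def Sp (t : G) (O K A : Subgroup G) : Set G :=
  {x | (x ∈ O ∧ (x ∉ K ∨ (x ∈ A ∧ x ≠ 1))) ∨ t * x ∈ O}

theorem t_inv : t⁻¹ = t := inv_eq_of_mul_eq_one_left D.tt

theorem u_inv : u⁻¹ = u := inv_eq_of_mul_eq_one_left D.uu

theorem odd_order {o : G} (ho : o ∈ O) : Odd (orderOf o) :=
  D.odd.of_dvd_nat (Subgroup.orderOf_dvd_natCard O ho)

theorem eq_one_of_sq {o : G} (ho : o ∈ O) (h : o * o = 1) : o = 1 := by
  have h2 : orderOf o ∣ 2 := orderOf_dvd_of_pow_eq_one (by rw [pow_two, h])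
  rcases (Nat.dvd_prime Nat.prime_two).1 h2 with h | h
  · exact orderOf_eq_one_iff.1 h
  · exact absurd (h ▸ D.odd_order ho) (by decide)

theorem t_not_mem : t ∉ O := fun h => D.tne (D.eq_one_of_sq h D.tt)

theorem u_not_mem : u ∈ O → u = 1 := fun h => D.eq_one_of_sq h D.uu

theorem conj_mem {c : G} (hc : c * t = t * c) {o : G} (ho : o ∈ O) : c * o * c⁻¹ ∈ O := by
  have key : ∀ x ∈ O, ∀ s : G, (∀ y ∈ O, s * y * s⁻¹ ∈ O) → x * s * o * (x * s)⁻¹ ∈ O := by
    intro x hx s hs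
    rw [show x * s * o * (x * s)⁻¹ = x * (s * o * s⁻¹) * x⁻¹ by group]
    exact mul_mem (mul_mem hx (hs o ho)) (inv_mem hx)
  have ht : ∀ y ∈ O, t * y * t⁻¹ ∈ O := fun y hy => by rw [D.tcent y hy, mul_inv_cancel_right]; exact hy
  rcases D.cover c hc with h | h | h | h
  · exact mul_mem (mul_mem h ho) (inv_mem h)
  · simpa [mul_assoc, D.t_inv, D.tt] using key _ h t ht
  · simpa [mul_assoc, D.u_inv, D.uu] using key _ h u D.unorm
  · have := key _ h (t * u)⁻¹ fun y hy => by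
      rw [inv_inv, mul_inv_rev, D.t_inv, D.u_inv,
        show u * t * y * (t * u) = u * (t * y * t) * u by group]
      have h1 := ht y hy
      rw [D.t_inv] at h1
      simpa [D.u_inv] using D.unorm _ h1
    rwa [show c * (t * u) * (t * u)⁻¹ * o * (c * (t * u) * (t * u)⁻¹)⁻¹ = c * o * c⁻¹ by group]
      at this

theorem comm_mem {a b : G} (ha : a ∈ O) (hb : b ∈ O) : a * b * a⁻¹ * b⁻¹ ∈ K := by
  obtain ⟨r, hr, hr'⟩ := D.cyc
  obtain ⟨i, hi⟩ := hr' a ha
  obtain ⟨j, hj⟩ := hr' b hb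
  set k := (r ^ i)⁻¹ * a with hk
  set l := (r ^ j)⁻¹ * b with hl
  have ea : a = r ^ i * k := by rw [hk, mul_inv_cancel_left]
  have eb : b = r ^ j * l := by rw [hl, mul_inv_cancel_left]
  have hn : ∀ (x : G), x ∈ O → ∀ y ∈ K, x⁻¹ * y * x ∈ K := fun x hx y hy => by
    simpa using D.knorm _ (inv_mem hx) y hy
  rw [ea, eb, show r ^ i * k * (r ^ j * l) * (r ^ i * k)⁻¹ * (r ^ j * l)⁻¹ =
    (r ^ i * r ^ j) * (((r ^ j)⁻¹ * k * r ^ j) * l * k⁻¹ * ((r ^ i)⁻¹ * l⁻¹ * r ^ i)) *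
      ((r ^ i)⁻¹ * (r ^ j)⁻¹) by group]
  have hpow : (r ^ i)⁻¹ * (r ^ j)⁻¹ = (r ^ i * r ^ j)⁻¹ := by
    rw [← mul_inv_rev, ← pow_add, ← pow_add, add_comm]
  rw [hpow]
  refine D.knorm _ (mul_mem (pow_mem hr _) (pow_mem hr _)) _ ?_
  exact mul_mem (mul_mem (mul_mem (hn _ (pow_mem hr _) _ hi) hj) (inv_mem hi))
    (hn _ (pow_mem hr _) _ (inv_mem hj))

/-- An involution of `C(t)` which commutes with a special element of `O` is `t`. -/
theorem eq_t {y : G} (hy : y ∈ O) (hsp : y ∉ K ∨ (y ∈ A ∧ y ≠ 1)) {s : G} (hst : s * t = t * s)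
    (hss : s * s = 1) (hs1 : s ≠ 1) (hsy : s * y = y * s) : s = t := by
  have hno : ∀ o ∈ O, ∀ r : G, (∀ x ∈ O, r * x * r⁻¹ = u * x * u⁻¹) → o * r * y ≠ y * (o * r) := by
    intro o ho r hr h
    have h' : o * (u * y * u⁻¹) * o⁻¹ = y := by
      rw [← hr y hy, show o * (r * y * r⁻¹) * o⁻¹ = o * r * y * (o * r)⁻¹ by group, h,
        mul_inv_cancel_right]
    rcases hsp with hK | ⟨hA, hy1⟩
    · refine hK ?_
      have h1 : y * y ∈ K := by
        have h2 : o * (u * y * u⁻¹ * y) * o⁻¹ ∈ K := D.knorm o ho _ (D.kinv y hy)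
        rw [show o * (u * y * u⁻¹ * y) * o⁻¹ = o * (u * y * u⁻¹) * o⁻¹ * (o * y * o⁻¹) by group,
          h'] at h2
        have h3 := mul_mem (inv_mem (D.knorm y hy _ (D.comm_mem ho hy))) h2
        rwa [show (y * (o * y * o⁻¹ * y⁻¹) * y⁻¹)⁻¹ * (y * (o * y * o⁻¹)) = y ^ 2 by group, pow_two] at h3
      obtain ⟨m, hm⟩ := D.odd_order hy
      have h4 : y ^ orderOf y = 1 := pow_orderOf_eq_one y
      rw [hm, pow_succ, pow_mul, pow_two] at h4
      rw [eq_inv_of_mul_eq_one_right h4]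
      exact inv_mem (pow_mem h1 m)
    · refine hy1 (D.eq_one_of_sq hy ?_)
      rw [D.ainv y hA, show o * y⁻¹ * o⁻¹ = y⁻¹ from ?_] at h'
      · nth_rewrite 1 [← h']
        exact inv_mul_cancel y
      · rw [← D.acent _ (inv_mem hA) o ho, mul_inv_cancel_right]
  rcases D.cover s hst with h | h | h | h
  · exact absurd (D.eq_one_of_sq h hss) hs1
  · have h1 := D.eq_one_of_sq h (by
      rw [mul_assoc, ← mul_assoc t s t, ← hst, mul_assoc s t t, D.tt, mul_one, hss])
    rw [eq_inv_of_mul_eq_one_left h1, D.t_inv]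
  · exact absurd (by rw [mul_assoc s u u, D.uu, mul_one]; exact hsy)
      (hno _ h u fun x _ => rfl)
  · refine absurd ?_ (hno _ h (t * u) fun x hx => ?_)
    · rw [mul_assoc s (t * u), show t * u * (t * u) = 1 by
        rw [mul_assoc, ← mul_assoc u t u, ← D.tu, mul_assoc t u u, D.uu, mul_one, D.tt], mul_one]
      exact hsy
    · rw [show t * u * x * (t * u)⁻¹ = t * (u * x * u⁻¹) * t⁻¹ by group, D.tcent _ (D.unorm x hx),
        mul_inv_cancel_right]

variable [Finite G]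

/-- The special set is a trivial intersection set with normaliser `C(t)`. -/
theorem ti {g x : G} (hg : g * t ≠ t * g) (hx : x ∈ Sp t O K A) : g * x * g⁻¹ ∉ Sp t O K A := by
  intro hy
  set m := Nat.card O with hm
  have hoddpow : ∀ x ∈ O, x ^ m = 1 := fun x hx => by
    rw [hm]; exact orderOf_dvd_iff_pow_eq_one.1 (Subgroup.orderOf_dvd_natCard O hx)
  have hpow : ∀ x : G, t * x ∈ O → x ^ m = t := by
    intro x hx
    have hc : Commute t (t * x) := D.tcent _ hx
    have : x = t * (t * x) := by rw [← mul_assoc, D.tt, one_mul]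
    rw [this, hc.mul_pow, hoddpow _ hx, mul_one]
    obtain ⟨k, hk⟩ := D.odd
    rw [hm, hk, pow_succ, pow_mul, pow_two, D.tt, one_pow, one_mul]
  have hconj : (g * x * g⁻¹) ^ m = g * x ^ m * g⁻¹ := conj_pow
  rcases hx with ⟨hxO, hxs⟩ | hxt
  · rcases hy with ⟨hyO, hys⟩ | hyt
    · set s := g * t * g⁻¹ with hs
      have hxt : x * t = t * x := (D.tcent x hxO).symm
      have hsy : s * (g * x * g⁻¹) = g * x * g⁻¹ * s := by
        rw [hs, show g * t * g⁻¹ * (g * x * g⁻¹) = g * (t * x) * g⁻¹ by group, ← hxt]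
        group
      have hst := D.cent _ hyO hys s hsy
      have := D.eq_t hyO hys hst (by rw [hs, show g * t * g⁻¹ * (g * t * g⁻¹) = g * (t * t) * g⁻¹ by group, D.tt, mul_one,
          mul_inv_cancel])
        (fun h => D.tne (conj_eq_one_iff.1 h)) hsy
      exact hg (by rw [hs, mul_inv_eq_iff_eq_mul] at this; exact this)
    · have := hpow _ hyt
      rw [hconj, hoddpow x hxO, mul_one, mul_inv_cancel] at this
      exact D.tne this.symm
  · rcases hy with ⟨hyO, -⟩ | hyt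
    · have := hoddpow _ hyO
      rw [hconj, hpow x hxt] at this
      exact D.tne (conj_eq_one_iff.1 this)
    · have := hpow _ hyt
      rw [hconj, hpow x hxt, mul_inv_eq_iff_eq_mul] at this
      exact hg this

end FamilyData

end Cfsg.Lib.GW
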