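import Cfsg.Agent.FourGroupGW.Family

/-!
# The degree bound

A character of `G` whose values on `t O` are a multiple of a `z`-invariant function and which is not
trivial at `z` contains, on `C(t)`, every irreducible character which is not trivial at `z`.
-/

set_option autoImplicit false
set_option linter.unusedSectionVars false
set_option linter.style.haveILetI false

namespace Cfsg.Lib.GW

open scoped ComplexConjugate
open Cfsg.Lib.Chars

universe u

variable {G : Type u} [Group G] [Finite G]

/-- `C(t)`. -/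
abbrev CT (t : G) : Subgroup G := Subgroup.centralizer ({t} : Set G)

namespace FamilyData

variable {t u z : G} {O K A : Subgroup G} {p : ℕ} (D : FamilyData t u O K A z p)
include D

theorem p_odd : Odd p := by
  have := D.odd_order (D.KO (D.AK D.zA))
  rwa [orderOf_eq_prime (hp := ⟨D.hp⟩) D.zp D.z1] at this


theorem mem_C {c : G} : c ∈ (CT t) ↔ c * t = t * c := by
  rw [Subgroup.mem_centralizer_singleton_iff]

theorem t_mem_C : t ∈ (CT t) := D.mem_C.2 rfl

theorem u_mem_C : u ∈ (CT t) := D.mem_C.2 D.tu.symm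

theorem O_le_C : O ≤ (CT t) := fun o ho => D.mem_C.2 (D.tcent o ho).symm

theorem z_mem_O : z ∈ O := D.KO (D.AK D.zA)

theorem normal_O : (O.subgroupOf (CT t)).Normal :=
  ⟨fun x hx g => Subgroup.mem_subgroupOf.2 (by
    simpa using D.conj_mem (D.mem_C.1 g.2) (Subgroup.mem_subgroupOf.1 hx))⟩

/-- The facts about the characters of `C(t)` which are not trivial at `z`. -/
structure Facts (t z : G) (O K A : Subgroup G) (p : ℕ)
    (φ : CT t → ℂ) : Prop where
  deg : φ 1 = 2 * (p : ℂ)
  vanish_K : ∀ c : CT t, (c : G) ∈ K → (c : G) ∉ A → φ c = 0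
  vanish_out : ∀ c : CT t, (c : G) ∉ O → t * (c : G) ∉ O → φ c = 0

variable [Fintype G]

theorem facts {φ : (CT t) → ℂ} (hφ : Cfsg.IsIrrCharacter (CT t) φ)
    (hzφ : φ ⟨z, D.O_le_C D.z_mem_O⟩ ≠ φ 1) : Facts t z O K A p φ := by
  classical
  set O' := O.subgroupOf (CT t) with hO'
  haveI : O'.Normal := D.normal_O
  have hφc := isCharacter_of_irr hφ
  set zC : (CT t) := ⟨z, D.O_le_C D.z_mem_O⟩ with hzC
  have hzO' : zC ∈ O' := Subgroup.mem_subgroupOf.2 D.z_mem_O
  set zO : O' := ⟨zC, hzO'⟩ with hzOd
  have hzcent : zO ∈ Subgroup.center O' := Subgroup.mem_center_iff.2 fun x => by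
    refine Subtype.ext (Subtype.ext ?_)
    exact (D.acent z D.zA _ (Subgroup.mem_subgroupOf.1 x.2)).symm
  obtain ⟨η, hη, hηc⟩ := exists_constituent O' hφc (IsIrrCharacter.apply_one_ne_zero hφ)
  have hcl := clifford O' hφ hη hηc
  obtain ⟨e, he⟩ := IsCharacter.exists_mult (IsCharacter.restrict hφc O') hη
  rw [he] at hcl hηc
  have he0 : 0 < e := Nat.pos_of_ne_zero fun h => hηc (by rw [h, Nat.cast_zero])
  -- the conjugates of `η`
  set tC : (CT t) := ⟨t, D.t_mem_C⟩ with htC
  set uC : (CT t) := ⟨u, D.u_mem_C⟩ with huC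
  have hconjt : ∀ f : O' → ℂ, conjN O' tC f = f := by
    intro f; funext x
    show f _ = f x
    congr 1
    refine Subtype.ext (Subtype.ext ?_)
    show t * ((x : (CT t)) : G) * t⁻¹ = ((x : (CT t)) : G)
    rw [D.tcent _ (Subgroup.mem_subgroupOf.1 x.2), mul_inv_cancel_right]
  have horbit : ∀ g : (CT t), conjN O' g η = η ∨ conjN O' g η = conjN O' uC η := by
    intro g
    have hηcl := isClassFunction_isChar (isCharacter_of_irr hη)
    have hmem : ∀ g : (CT t), (g : G) ∈ O → conjN O' g η = η := fun g hg =>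
      conjN_of_mem hηcl ⟨g, Subgroup.mem_subgroupOf.2 hg⟩
    rcases D.cover g (D.mem_C.1 g.2) with h | h | h | h
    · exact Or.inl (hmem g h)
    · left
      rw [show g = (g * tC) * tC from Subtype.ext (by simp [htC, mul_assoc, D.tt]), conjN_mul,
        hconjt, hmem (g * tC) h]
    · right
      rw [show g = (g * uC) * uC from Subtype.ext (by simp [huC, mul_assoc, D.uu]), conjN_mul,
        hmem (g * uC) h]
    · right
      have e1 : g = (g * (tC * uC)) * (uC * tC) := Subtype.ext (by
        show (g : G) = (g : G) * (t * u) * (u * t)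
        rw [mul_assoc, show t * u * (u * t) = t * (u * u) * t by group, D.uu, mul_one, D.tt, mul_one])
      rw [e1, conjN_mul, hmem (g * (tC * uC)) h, conjN_mul]
      rw [show conjN O' tC (conjN O' uC η) = conjN O' uC η from hconjt _] 
  -- each constituent is non-trivial at `z`
  have hinvz : ∀ f : O' → ℂ, conjN O' uC f zO = f zO⁻¹ := by
    intro f
    show f _ = f _
    congr 1
    refine Subtype.ext (Subtype.ext ?_)
    show u * z * u⁻¹ = z⁻¹
    exact D.ainv z D.zA
  have hηz : η zO ≠ η 1 := by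
    intro h
    refine hzφ ?_
    have h' : η zO⁻¹ = η 1 := IsCharacter.ker_inv (isCharacter_of_irr hη) h
    have e1 := congrFun hcl zO
    have e2 := congrFun hcl 1
    simp only [Pi.smul_apply, Finset.sum_apply, smul_eq_mul] at e1 e2
    rw [show φ zC = φ ((zO : O') : (CT t)) from rfl, show φ 1 = φ ((1 : O') : (CT t)) from rfl, e1, e2]
    congr 1
    refine Finset.sum_congr rfl fun ψ hψ => ?_
    obtain ⟨g, rfl⟩ := (mem_conjOrbit O').1 hψ
    have h1 : ∀ g : (CT t), conjN O' g η 1 = η 1 := fun g => by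
      show η _ = η 1
      congr 1
      exact Subtype.ext (by simp)
    rw [h1]
    rcases horbit g with hg | hg
    · rw [hg, h]
    · rw [hg, hinvz, h']
  have huη : conjN O' uC η ≠ η := by
    intro h
    have h1 : η zO⁻¹ = η zO := by rw [← hinvz η, h]
    have h2 := center_mul_of_irr hη hzcent zO
    have h3 := center_mul_of_irr hη hzcent zO⁻¹
    rw [mul_inv_cancel, h1] at h3
    rw [← h3] at h2
    have h4 : η (zO * zO) = η 1 := mul_right_cancel₀ (IsIrrCharacter.apply_one_ne_zero hη) h2
    obtain ⟨k, hk⟩ := D.p_odd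
    have h5 : (zO * zO) ^ (k + 1) ∈ kerSubgroup η (isCharacter_of_irr hη) :=
      pow_mem ((mem_kerSubgroup _ _).2 h4) _
    have hzp : zO ^ p = 1 := Subtype.ext (Subtype.ext (by simp [hzOd, hzC, D.zp]))
    rw [← pow_two, ← pow_mul, show 2 * (k + 1) = p + 1 by omega, pow_succ, hzp, one_mul,
      mem_kerSubgroup] at h5
    exact hηz h5
  have horb : conjOrbit O' η = {η, conjN O' uC η} := by
    ext f
    rw [mem_conjOrbit, Finset.mem_insert, Finset.mem_singleton]
    constructor
    · rintro ⟨g, rfl⟩; exact horbit g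
    · rintro (rfl | rfl)
      · exact ⟨1, conjN_one O' _⟩
      · exact ⟨uC, rfl⟩
  rw [horb, Finset.sum_pair huη.symm] at hcl
  -- the constituents on `O`
  have hpair : ∀ ψ : O' → ℂ, Cfsg.IsIrrCharacter O' ψ → ψ zO ≠ ψ 1 →
      ψ 1 = (p : ℂ) ∧ ∀ c : O', ((c : (CT t)) : G) ∈ K → ((c : (CT t)) : G) ∉ A → ψ c = 0 := by
    intro ψ hψ hψz
    set f : O' →* G := (Subgroup.subtype (CT t)).comp O'.subtype with hf
    have hfi : Function.Injective f := Subtype.val_injective.comp Subtype.val_injective
    have hle : ∀ H : Subgroup G, H ≤ O → (H.comap f).map f = H := fun H hH =>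
      Subgroup.map_comap_eq_self fun x hx =>
        ⟨⟨⟨x, D.O_le_C (hH hx)⟩, Subgroup.mem_subgroupOf.2 (hH hx)⟩, rfl⟩
    have hcard : ∀ H : Subgroup G, H ≤ O → Nat.card (H.comap f) = Nat.card H := fun H hH => by
      conv_rhs => rw [← hle H hH]
      exact (Subgroup.card_map_of_injective hfi).symm
    haveI : (K.comap f).Normal := ⟨fun n hn g => by
      rw [Subgroup.mem_comap, map_mul, map_mul, map_inv]
      exact D.knorm _ (Subgroup.mem_subgroupOf.1 g.2) _ hn⟩
    have hcyc : IsCyclic (O' ⧸ K.comap f) := by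
      obtain ⟨r, hr, hr'⟩ := D.cyc
      refine ⟨⟨QuotientGroup.mk ⟨⟨r, D.O_le_C hr⟩, Subgroup.mem_subgroupOf.2 hr⟩, fun x => ?_⟩⟩
      induction x using QuotientGroup.induction_on with
      | _ o =>
        obtain ⟨i, hi⟩ := hr' (f o) (Subgroup.mem_subgroupOf.1 o.2)
        refine ⟨(i : ℤ), ?_⟩
        show _ ^ (i : ℤ) = _
        rw [zpow_natCast, ← QuotientGroup.mk_pow, QuotientGroup.eq, Subgroup.mem_comap, map_mul,
          map_inv, map_pow]
        exact hi
    refine deg_of_pair (K.comap f) (A.comap f) hcyc (Subgroup.comap_mono D.AK) ?_ D.hp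
      (z := zO) D.zA (hfi (by rw [map_pow, map_one]; exact D.zp)) ?_ ?_ hψ hψz
    · intro a ha
      refine Subgroup.mem_center_iff.2 fun x => hfi ?_
      rw [map_mul, map_mul]
      exact (D.acent _ ha _ (Subgroup.mem_subgroupOf.1 x.2)).symm
    · rw [hcard K D.KO, hcard A (D.AK.trans D.KO), D.card]
    · intro k hk hkA
      obtain ⟨y, hy, h1, h2⟩ := D.nondeg _ hk hkA
      refine ⟨⟨⟨y, D.O_le_C (D.KO hy)⟩, Subgroup.mem_subgroupOf.2 (D.KO hy)⟩, hy, ?_, fun h =>
        h2 (by simpa [hf] using congrArg f h)⟩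
      obtain ⟨i, hi⟩ := Subgroup.mem_zpowers_iff.1 h1
      exact Subgroup.mem_zpowers_iff.2 ⟨i, hfi (by simpa [hf, hzOd, hzC] using hi)⟩
  have huz : conjN O' uC η zO ≠ conjN O' uC η 1 := by
    rw [hinvz, show conjN O' uC η 1 = η 1 by show η _ = η 1; congr 1; exact Subtype.ext (by simp)]
    intro h
    have := IsCharacter.ker_inv (isCharacter_of_irr hη) h
    rw [inv_inv] at this
    exact hηz this
  obtain ⟨hη1, hηK⟩ := hpair η hη hηz
  obtain ⟨hu1, huK⟩ := hpair _ (IsIrrCharacter.conjN hη uC) huz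
  have hres : ∀ x : O', φ x = (e : ℂ) * (η x + conjN O' uC η x) := fun x => by
    simpa using congrFun hcl x
  have hφ1 : φ 1 = (e : ℂ) * (2 * p) := by
    have := hres 1
    rw [hη1, hu1] at this
    rw [show φ 1 = φ ((1 : O') : (CT t)) from rfl, this]; ring
  -- the norm on `O` and on `t O`
  have hnormO : ∑ x : O', φ x * conj (φ x) = (Nat.card O' : ℂ) * (2 * (e : ℂ) ^ 2) := by
    have h : Cfsg.classInner (fun x : O' => φ x) (fun x : O' => φ x) = 2 * (e : ℂ) ^ 2 := by
      have hfun : (fun x : O' => φ x) = (e : ℂ) • (η + conjN O' uC η) := funext fun x => by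
        simpa using hres x
      rw [hfun, classInner_smul_left, classInner_smul_right, classInner_add_left,
        classInner_add_right, classInner_add_right, classInner_self_irr hη,
        classInner_self_irr (IsIrrCharacter.conjN hη uC),
        classInner_irrChar hη (IsIrrCharacter.conjN hη uC), if_neg huη.symm,
        classInner_irrChar (IsIrrCharacter.conjN hη uC) hη, if_neg huη, Complex.conj_natCast]
      ring
    rw [classInner_def] at h
    field_simp at h
    linear_combination h
  have htcent : tC ∈ Subgroup.center (CT t) := Subgroup.mem_center_iff.2 fun x =>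
    Subtype.ext (D.mem_C.1 x.2)
  have hnormT : ∀ c : (CT t), Complex.normSq (φ (tC * c)) = Complex.normSq (φ c) := by
    intro c
    have h := congrArg Complex.normSq (center_mul_of_irr hφ htcent c)
    have h2 := congrArg Complex.normSq (mul_conj_center hφ htcent)
    rw [Complex.mul_conj, Complex.normSq_ofReal] at h2
    simp only [map_mul] at h h2
    have h1 : Complex.normSq (φ 1) ≠ 0 := by
      rw [ne_eq, map_eq_zero]; exact IsIrrCharacter.apply_one_ne_zero hφ
    have h3 : Complex.normSq (φ tC) = Complex.normSq (φ 1) :=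
      (mul_self_inj (Complex.normSq_nonneg _) (Complex.normSq_nonneg _)).1 h2
    rw [h3, mul_comm] at h
    exact mul_left_cancel₀ h1 h
  set SO : Finset (CT t) := Finset.univ.filter (fun c => (c : G) ∈ O) with hSO
  set ST : Finset (CT t) := Finset.univ.filter (fun c => t * (c : G) ∈ O) with hST
  have hdisj : Disjoint SO ST := by
    rw [Finset.disjoint_left]
    intro c hc hc'
    simp only [hSO, hST, Finset.mem_filter, Finset.mem_univ, true_and] at hc hc'
    exact D.t_not_mem (by simpa using mul_mem hc' (inv_mem hc))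
  have hsumO : ∑ c ∈ SO, Complex.normSq (φ c) = (Nat.card O' : ℝ) * (2 * (e : ℝ) ^ 2) := by
    have h : ∑ c ∈ SO, Complex.normSq (φ c) = ∑ x : O', Complex.normSq (φ x) := by
      rw [hSO]
      exact Finset.sum_subtype _ (fun x => by simp [hO', Subgroup.mem_subgroupOf]) _
    rw [h]
    apply Complex.ofReal_injective
    push_cast
    rw [← hnormO]
    exact Finset.sum_congr rfl fun x _ => (Complex.mul_conj _).symm
  have hsumT : ∑ c ∈ ST, Complex.normSq (φ c) = ∑ c ∈ SO, Complex.normSq (φ c) := by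
    refine Finset.sum_nbij' (fun c => tC * c) (fun c => tC * c) ?_ ?_ ?_ ?_ ?_
    · intro c hc; simpa [hSO, hST, htC] using hc
    · intro c hc
      simp only [hSO, hST, Finset.coe_filter, Finset.mem_univ, true_and, Set.mem_setOf_eq] at hc ⊢
      simpa [htC, ← mul_assoc, D.tt] using hc
    · intro c _; exact Subtype.ext (by simp [htC, ← mul_assoc, D.tt])
    · intro c _; exact Subtype.ext (by simp [htC, ← mul_assoc, D.tt])
    · intro c _; exact (hnormT c).symm
  have htot : ∑ c : (CT t), Complex.normSq (φ c) = (Nat.card (CT t) : ℝ) := by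
    have h := classInner_self_irr hφ
    rw [classInner_def] at h
    field_simp at h
    apply Complex.ofReal_injective
    push_cast
    rw [← h]
    exact Finset.sum_congr rfl fun x _ => (Complex.mul_conj _).symm
  have hcardC : Nat.card (CT t) ≤ 4 * Nat.card O' := by
    let r : Fin 4 → (CT t) := ![1, tC, uC, tC * uC]
    have hsurj : Function.Surjective fun x : Fin 4 × O' => (x.2 : (CT t)) * r x.1 := by
      intro c
      rcases D.cover c (D.mem_C.1 c.2) with h | h | h | h
      · exact ⟨(0, ⟨c, h⟩), by simp [r]⟩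
      · exact ⟨(1, ⟨c * tC, h⟩), Subtype.ext (by simp [r, htC, mul_assoc, D.tt])⟩
      · exact ⟨(2, ⟨c * uC, h⟩), Subtype.ext (by simp [r, huC, mul_assoc, D.uu])⟩
      · refine ⟨(3, ⟨c * (tC * uC), h⟩), Subtype.ext ?_⟩
        show (c : G) * (t * u) * (t * u) = c
        rw [mul_assoc, show t * u * (t * u) = t * (u * t) * u by group, ← D.tu,
          show t * (t * u) * u = t * t * (u * u) by group, D.tt, D.uu, mul_one, mul_one]
    have := Nat.card_le_card_of_surjective _ hsurj
    rwa [Nat.card_prod, Nat.card_fin] at this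
  have hrest : ∀ s : Finset (CT t), (∀ c ∈ s, c ∉ SO ∧ c ∉ ST) →
      2 * ((Nat.card O' : ℝ) * (2 * (e : ℝ) ^ 2)) + ∑ c ∈ s, Complex.normSq (φ c) ≤
        4 * (Nat.card O' : ℝ) := by
    intro s hs
    have hd : Disjoint (SO ∪ ST) s := by
      rw [Finset.disjoint_left]
      intro c hc hcs
      rcases Finset.mem_union.1 hc with h | h
      · exact (hs c hcs).1 h
      · exact (hs c hcs).2 h
    calc _ = ∑ c ∈ (SO ∪ ST) ∪ s, Complex.normSq (φ c) := by
          rw [Finset.sum_union hd, Finset.sum_union hdisj, hsumT, hsumO]; ring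
      _ ≤ ∑ c : (CT t), Complex.normSq (φ c) :=
          Finset.sum_le_univ_sum_of_nonneg fun c => Complex.normSq_nonneg _
      _ = (Nat.card (CT t) : ℝ) := htot
      _ ≤ _ := by exact_mod_cast hcardC
  have hpos : (0 : ℝ) < Nat.card O' := by exact_mod_cast Nat.card_pos
  have he1 : e = 1 := by
    have h := hrest ∅ (by simp)
    rw [Finset.sum_empty, add_zero] at h
    have : (e : ℝ) ^ 2 ≤ 1 := by nlinarith
    have h' : e ^ 2 ≤ 1 := by exact_mod_cast this
    nlinarith
  refine ⟨by rw [hφ1, he1]; simp, fun c hc hcA => ?_, fun c hc hct => ?_⟩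
  · rw [show φ c = φ ((⟨c, Subgroup.mem_subgroupOf.2 (D.KO hc)⟩ : O') : (CT t)) from rfl, hres,
      hηK _ hc hcA, huK _ hc hcA]
    simp
  · have h := hrest {c} (by simp [hSO, hST, hc, hct])
    rw [Finset.sum_singleton, he1] at h
    have h0 : Complex.normSq (φ c) = 0 :=
      le_antisymm (by norm_num at h; linarith) (Complex.normSq_nonneg _)
    exact Complex.normSq_eq_zero.1 h0

end FamilyData

end Cfsg.Lib.GW
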