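import Cfsg.Agent.FourGroupGW.Inverted.End

/-!
# Gorenstein–Walter, four-group case, pieces G and H

`Cfsg.Lib.GW.Frame.noInverted`: a bad prime of kind (s) is of the mixed kind.
-/
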