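import Cfsg.Agent.FourGroupGW.Conditional
import Cfsg.Agent.FourGroupGW.Inverted

/-!
The four-group theorem from the two block statements alone.
-/

set_option autoImplicit false

namespace Cfsg.Lib.GW

universe u

/-- The four-group theorem from the two statements about the characters over `C(t)`. -/
theorem fourGroupProp_of_fix
    (hFix : ∀ (G : Type u) [Group G] [Finite G] (F : Frame G), Minimal G → F.FixSpec ∧ F.MoveSpec) :
    Cfsg.Lib.GWFour.FourGroupProp.{u} :=
  fourGroupProp_of_blocks hFix fun G _ _ F hm =>
    Frame.noInverted hm (F.topSpec hm) (F.local_facts hm (F.nonFusingSpec hm) (F.oddSpec hm) (F.topSpec hm))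
      (hFix G F hm).1 (F.charBound hm (hFix G F hm).1) (F.linearFixed hm (hFix G F hm).1)

end Cfsg.Lib.GW
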